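import Cfsg.Agent.Lib.SingerTrans.Point

/-!
The incidence rank at a point is at least a third of the dimension, by a degree argument:
the special-triple indicator is invariant under a field of scalars.
-/

namespace Cfsg.Agent.Lib.SingerTrans

theorem sum_prod_eq_zero {X : Type*} [AddCommGroup X] [Module (ZMod 2) X] [Fintype X]
    {ι : Type*} [Fintype ι] (f : ι → (X →ₗ[ZMod 2] ZMod 2))
    (h : Fintype.card ι < Module.finrank (ZMod 2) X) : ∑ x : X, ∏ i, f i x = 0 := by
  have : Module.Finite (ZMod 2) X := Module.Finite.of_finite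
  set Φ : X →ₗ[ZMod 2] (ι → ZMod 2) := LinearMap.pi f
  have hker : LinearMap.ker Φ ≠ ⊥ := fun h0 => by
    have h1 := Φ.finrank_range_add_finrank_ker
    rw [h0, finrank_bot, add_zero] at h1
    have h2 := Submodule.finrank_le (LinearMap.range Φ)
    rw [Module.finrank_fintype_fun_eq_card] at h2
    omega
  obtain ⟨y, hy, hy0⟩ := (Submodule.ne_bot_iff _).mp hker
  have hyi : ∀ i, f i y = 0 := fun i => congrFun (LinearMap.mem_ker.mp hy) i
  refine Finset.sum_involution (fun x _ => x + y) ?_ ?_ (fun x _ => Finset.mem_univ _) ?_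
  · intro x _
    have hp : ∏ i, f i (x + y) = ∏ i, f i x :=
      Finset.prod_congr rfl fun i _ => by rw [map_add, hyi i, add_zero]
    rw [hp, add_self_zero]
  · intro x _ _ hxy
    exact hy0 (by simpa using hxy)
  · intro x _
    show x + y + y = x
    rw [add_assoc, add_self_zero, add_zero]

section Expansion

variable {X : Type*} [AddCommGroup X] [Module (ZMod 2) X] {m : ℕ}
  (b : Module.Basis (Fin m) (ZMod 2) X)

/-- The vector with coordinate set `A`. -/
noncomputable def cube (A : Finset (Fin m)) : X := ∑ i ∈ A, b i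

/-- A coordinate monomial. -/
noncomputable def mono (A : Finset (Fin m)) (x : X) : ZMod 2 := ∏ i ∈ A, b.repr x i

theorem repr_cube (A : Finset (Fin m)) (j : Fin m) :
    b.repr (cube b A) j = if j ∈ A then 1 else 0 := by
  simp [cube, map_sum, Finsupp.finsetSum_apply, Finsupp.single_apply]

theorem cube_supp (x : X) :
    cube b (Finset.univ.filter fun i => b.repr x i = 1) = x := by
  apply b.repr.injective
  ext j
  rw [repr_cube]
  simp only [Finset.mem_filter, Finset.mem_univ, true_and]
  rcases zmod_two_cases (b.repr x j) with h | h <;> simp [h]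

theorem mobius (f : X → ZMod 2) (x : X) :
    f x = ∑ A : Finset (Fin m), (∑ B ∈ A.powerset, f (cube b B)) * mono b A x := by
  classical
  set S := Finset.univ.filter fun i => b.repr x i = 1
  have hmono : ∀ A : Finset (Fin m), mono b A x = if A ⊆ S then 1 else 0 := by
    intro A
    by_cases hA : A ⊆ S
    · rw [if_pos hA]
      exact Finset.prod_eq_one fun i hi => (Finset.mem_filter.mp (hA hi)).2
    · rw [if_neg hA]
      obtain ⟨i, hi, hiS⟩ := Finset.not_subset.mp hA
      exact Finset.prod_eq_zero hi ((zmod_two_cases _).resolve_right fun h =>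
        hiS (Finset.mem_filter.mpr ⟨Finset.mem_univ _, h⟩))
  simp only [hmono, mul_ite, mul_one, mul_zero]
  rw [← Finset.sum_filter, show (Finset.univ.filter fun A : Finset (Fin m) => A ⊆ S) = S.powerset
    by ext A; simp]
  rw [Finset.sum_comm' (t' := S.powerset) (s' := fun B => Finset.Icc B S) (by
    intro A B
    simp only [Finset.mem_powerset, Finset.mem_Icc]
    exact ⟨fun h => ⟨⟨h.2, h.1⟩, h.2.trans h.1⟩, fun h => ⟨h.1.2, h.1.1⟩⟩)]
  simp only [Finset.sum_const, nsmul_eq_mul]
  rw [Finset.sum_eq_single_of_mem S (Finset.mem_powerset.mpr subset_rfl)]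
  · rw [Finset.Icc_self, Finset.card_singleton, Nat.cast_one, one_mul, cube_supp b x]
  · intro B hB hne
    have hss : B ⊂ S := (Finset.mem_powerset.mp hB).ssubset_of_ne hne
    have hlt := Finset.card_lt_card hss
    rw [Finset.card_Icc_finset hss.1]
    obtain ⟨d, hd⟩ := Nat.exists_eq_add_of_lt hlt
    rw [hd, show B.card + d + 1 - B.card = d + 1 by omega, pow_succ]
    have h2 : ((2 : ℕ) : ZMod 2) = 0 := by decide
    rw [Nat.cast_mul, h2, mul_zero, zero_mul]

theorem coeff_zero [Finite X] (W : Submodule (ZMod 2) X) {g : ℕ}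
    (hW : Module.finrank (ZMod 2) X ≤ Module.finrank (ZMod 2) W + g) (f : X → ZMod 2)
    (hf : ∀ x, f x = 1 ↔ x ∈ W) {A : Finset (Fin m)} (hA : g < A.card) :
    ∑ B ∈ A.powerset, f (cube b B) = 0 := by
  classical
  have : Fintype X := Fintype.ofFinite X
  have : Module.Finite (ZMod 2) X := Module.Finite.of_finite
  set U : Submodule (ZMod 2) X := Submodule.span (ZMod 2) (Set.range fun i : A => b i)
  have hU : Module.finrank (ZMod 2) U = A.card := by
    have h := finrank_span_eq_card (b := fun i : A => b i)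
      (b.linearIndependent.comp (fun i : A => (i : Fin m)) Subtype.val_injective)
    rw [Fintype.card_coe] at h
    exact h
  have hinj : Set.InjOn (cube b) (A.powerset : Set (Finset (Fin m))) := by
    intro B _ C _ h
    ext j
    have := congrArg (fun z => b.repr z j) h
    simp only [repr_cube] at this
    split_ifs at this with h1 h2 h2
    · exact iff_of_true h1 h2
    · exact absurd this one_ne_zero
    · exact absurd this.symm one_ne_zero
    · exact iff_of_false h1 h2
  have himg : A.powerset.image (cube b) = Finset.univ.filter fun x => x ∈ U := by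
    refine Finset.eq_of_subset_of_card_le ?_ ?_
    · intro x hx
      obtain ⟨B, hB, rfl⟩ := Finset.mem_image.mp hx
      refine Finset.mem_filter.mpr ⟨Finset.mem_univ _, Submodule.sum_mem _ fun i hi => ?_⟩
      exact Submodule.subset_span ⟨⟨i, Finset.mem_powerset.mp hB hi⟩, rfl⟩
    · rw [Finset.card_image_of_injOn hinj, Finset.card_powerset, ← Fintype.card_subtype,
        ← Nat.card_eq_fintype_card]
      show Nat.card U ≤ _
      rw [card_eq_two_pow, hU]
  rw [← Finset.sum_image hinj, himg]
  have hne : U ⊓ W ≠ ⊥ := fun h0 => by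
    have h := Submodule.finrank_sup_add_finrank_inf_eq U W
    rw [h0, finrank_bot, hU] at h
    have := Submodule.finrank_le (U ⊔ W)
    omega
  obtain ⟨y, ⟨hyU, hyW⟩, hy0⟩ := (Submodule.ne_bot_iff _).mp hne
  refine Finset.sum_involution (fun x _ => x + y) ?_ ?_ ?_ ?_
  · intro x _
    have hiff : f (x + y) = 1 ↔ f x = 1 := by
      rw [hf, hf]
      exact Submodule.add_mem_iff_left W hyW
    rcases zmod_two_cases (f x) with h | h
    · rcases zmod_two_cases (f (x + y)) with h' | h'
      · rw [h, h', add_zero]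
      · exact absurd (h.symm.trans (hiff.mp h')) zero_ne_one
    · rw [h, hiff.mpr h, add_self_zero]
  · intro x _ _ hxy
    exact hy0 (by simpa using hxy)
  · intro x hx
    exact Finset.mem_filter.mpr ⟨Finset.mem_univ _,
      U.add_mem (Finset.mem_filter.mp hx).2 hyU⟩
  · intro x _
    show x + y + y = x
    rw [add_assoc, add_self_zero, add_zero]

end Expansion

variable {G : Type*} [Group G] [Finite G] {V P : Type*} [AddCommGroup V] [Module (ZMod 2) V]
  [AddCommGroup P] [Module (ZMod 2) P] [Finite V] [Finite P]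
  {σ : Representation (ZMod 2) G P} {ρ : Representation (ZMod 2) G V}

namespace Base

variable (B : Base σ ρ)

/-- Special triples. -/
def Special (x y z : V) : Prop :=
  ∀ h : G, ρ h x = B.v → (Submodule.Quotient.mk (ρ h z) : V ⧸ Submodule.span (ZMod 2) {B.v}) ∈
    B.point.E (Submodule.Quotient.mk (ρ h y))

theorem special_map (g : G) (x y z : V) :
    B.Special (ρ g x) (ρ g y) (ρ g z) ↔ B.Special x y z := by
  constructor
  · intro hs h hh
    have := hs (h * g⁻¹) (by rw [rho_mul, rho_inv_cancel]; exact hh)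
    rwa [rho_mul, rho_inv_cancel, rho_mul, rho_inv_cancel] at this
  · intro hs h hh
    rw [← rho_mul, ← rho_mul]
    exact hs (h * g) (by rw [rho_mul]; exact hh)

theorem special_iff {x : V} {h : G} (hh : ρ h x = B.v) (y z : V) :
    B.Special x y z ↔ (Submodule.Quotient.mk (ρ h z) : V ⧸ Submodule.span (ZMod 2) {B.v}) ∈
      B.point.E (Submodule.Quotient.mk (ρ h y)) := by
  refine ⟨fun hs => hs h hh, fun hs k hk => ?_⟩
  have hkh : k * h⁻¹ ∈ fixer ρ B.v := by
    rw [mem_fixer, rho_mul]
    conv_lhs => rw [← hh, rho_inv_cancel]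
    exact hk
  have h2 := B.point.E_smul hs ⟨k * h⁻¹, hkh⟩
  rw [quotRep_mk, quotRep_mk, rho_mul, rho_inv_cancel, rho_mul, rho_inv_cancel] at h2
  exact h2

theorem exists_to_v {x : V} (hx : x ≠ 0) : ∃ h, ρ h x = B.v := by
  obtain ⟨h, -, hh⟩ := B.two.trans x B.v hx B.hv
  exact ⟨h, hh⟩

theorem mk_ne {h : G} {x y : V} (hh : ρ h x = B.v) (hy : y ∉ Submodule.span (ZMod 2) {x}) :
    (Submodule.Quotient.mk (ρ h y) : V ⧸ Submodule.span (ZMod 2) {B.v}) ≠ 0 := by
  intro h0
  refine hy ?_
  rcases mem_span_single.mp ((Submodule.Quotient.mk_eq_zero _).mp h0) with h1 | h1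
  · rw [rho_injective ρ h (h1.trans (map_zero (ρ h)).symm)]; exact zero_mem _
  · rw [rho_injective ρ h (h1.trans hh.symm)]; exact Submodule.mem_span_singleton_self x

/-- Special or degenerate triples. -/
def Special' (x y z : V) : Prop :=
  x = 0 ∨ y ∈ Submodule.span (ZMod 2) {x} ∨ z ∈ Submodule.span (ZMod 2) {x, y} ∨ B.Special x y z

omit [Finite G] [Finite P] [Finite V] in
theorem nondeg {x y z : V} (hx : x ≠ 0) (hy : y ∉ Submodule.span (ZMod 2) {x})
    (hz : z ∉ Submodule.span (ZMod 2) {x, y}) :
    y ≠ 0 ∧ x ∉ Submodule.span (ZMod 2) {y} ∧ z ∉ Submodule.span (ZMod 2) {y, x} ∧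
      z ∉ Submodule.span (ZMod 2) {x} ∧ y ∉ Submodule.span (ZMod 2) {x, z} := by
  refine ⟨fun h => hy (h ▸ zero_mem _), fun h => ?_, ?_, fun h => ?_, fun h => ?_⟩
  · rcases mem_span_single.mp h with h | h
    · exact hx h
    · exact hy (by rw [h]; exact Submodule.mem_span_singleton_self y)
  · rwa [Set.pair_comm]
  · exact hz (Submodule.span_mono (by simp) h)
  · rcases mem_span_pair'.mp h with h | h | h | h
    · exact hy (h ▸ zero_mem _)
    · exact hy (by rw [h]; exact Submodule.mem_span_singleton_self x)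
    · exact hz (h ▸ Submodule.subset_span (by simp))
    · refine hz ?_
      have : z = x + y := by rw [h, ← add_assoc, add_self_zero, zero_add]
      rw [this]
      exact add_mem (Submodule.subset_span (by simp)) (Submodule.subset_span (by simp))

theorem special_swap12 {x y z : V} (hx : x ≠ 0) (hy : y ∉ Submodule.span (ZMod 2) {x})
    (hz : z ∉ Submodule.span (ZMod 2) {x, y}) (h : B.Special x y z) : B.Special y x z := by
  obtain ⟨hy0, hxy, hzyx, hzx, hyxz⟩ := nondeg hx hy hz
  have hv : y + x ≠ 0 := fun h0 => hy (by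
    rw [add_eq_zero_iff'.mp h0]; exact Submodule.mem_span_singleton_self x)
  have hzv : z ∉ Submodule.span (ZMod 2) {y + x} := fun h0 => by
    rcases mem_span_single.mp h0 with h0 | h0
    · exact hz (h0 ▸ zero_mem _)
    · exact hz (h0 ▸ add_mem (Submodule.subset_span (by simp)) (Submodule.subset_span (by simp)))
  have hxv : x ∉ Submodule.span (ZMod 2) {y + x, z} := fun h0 => by
    rcases mem_span_pair'.mp h0 with h0 | h0 | h0 | h0
    · exact hx h0
    · exact hy0 (by simpa using h0)
    · exact hz (h0 ▸ Submodule.subset_span (by simp))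
    · refine hz ?_
      have : z = y := by
        have h1 : x + x = y + x + z + x := by rw [← h0]
        rw [add_self_zero, show y + x + z + x = (y + z) + (x + x) by abel, add_self_zero,
          add_zero] at h1
        exact (add_eq_zero_iff'.mp h1.symm).symm
      rw [this]
      exact Submodule.subset_span (by simp)
  obtain ⟨g, hg1, hg2, hg3⟩ := B.two.translate B.D hv hzv hxv
  have hgx : ρ g x = y := by
    rw [hg3, ← add_assoc, add_comm x y, add_assoc, add_self_zero, add_zero]
  have hgy : ρ g y = x := by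
    have : y = (y + x) + x := by rw [add_assoc, add_self_zero, add_zero]
    conv_lhs => rw [this]
    rw [map_add, hg1, hgx, add_comm y x, add_assoc, add_self_zero, add_zero]
  have := (B.special_map g x y z).mpr h
  rwa [hgx, hgy, hg2] at this

theorem special'_swap12 {x y z : V} (h : B.Special' x y z) : B.Special' y x z := by
  by_cases hy0 : y = 0
  · exact Or.inl hy0
  by_cases hxy : x ∈ Submodule.span (ZMod 2) {y}
  · exact Or.inr (Or.inl hxy)
  by_cases hz : z ∈ Submodule.span (ZMod 2) {y, x}
  · exact Or.inr (Or.inr (Or.inl hz))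
  obtain ⟨hx, hyx, hzxy, -, -⟩ := nondeg hy0 hxy hz
  rcases h with h | h | h | h
  · exact absurd h hx
  · exact absurd h hyx
  · exact absurd h hzxy
  · exact Or.inr (Or.inr (Or.inr (B.special_swap12 hx hyx hzxy h)))

theorem special'_swap23 {x y z : V} (h : B.Special' x y z) : B.Special' x z y := by
  by_cases hx : x = 0
  · exact Or.inl hx
  by_cases hzx : z ∈ Submodule.span (ZMod 2) {x}
  · exact Or.inr (Or.inl hzx)
  by_cases hyz : y ∈ Submodule.span (ZMod 2) {x, z}
  · exact Or.inr (Or.inr (Or.inl hyz))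
  obtain ⟨-, -, -, hyx, hz⟩ := nondeg hx hzx hyz
  rcases h with h | h | h | h
  · exact absurd h hx
  · exact absurd h hyx
  · exact absurd h hz
  · refine Or.inr (Or.inr (Or.inr ?_))
    obtain ⟨k, hk⟩ := B.exists_to_v hx
    exact (B.special_iff hk z y).mpr ((B.point.E_symm (B.mk_ne hk hyx) (B.mk_ne hk hzx)).mp
      ((B.special_iff hk y z).mp h))

theorem exists_fibre (x y : V) : ∃ W : Submodule (ZMod 2) V,
    Module.finrank (ZMod 2) V ≤ Module.finrank (ZMod 2) W + B.point.g ∧
      ∀ z, B.Special' x y z ↔ z ∈ W := by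
  have : Module.Finite (ZMod 2) V := Module.Finite.of_finite
  by_cases hx : x = 0
  · exact ⟨⊤, by simp [finrank_top], fun z => iff_of_true (Or.inl hx) trivial⟩
  by_cases hy : y ∈ Submodule.span (ZMod 2) {x}
  · exact ⟨⊤, by simp [finrank_top], fun z => iff_of_true (Or.inr (Or.inl hy)) trivial⟩
  obtain ⟨h, hh⟩ := B.exists_to_v hx
  set yy : V ⧸ Submodule.span (ZMod 2) {B.v} := Submodule.Quotient.mk (ρ h y)
  have hyy : yy ≠ 0 := B.mk_ne hh hy
  set π : V →ₗ[ZMod 2] V ⧸ Submodule.span (ZMod 2) {B.v} :=
    (Submodule.span (ZMod 2) {B.v}).mkQ.comp (ρ h)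
  have hπ : Function.Surjective π :=
    (Submodule.mkQ_surjective _).comp fun w => ⟨ρ h⁻¹ w, rho_cancel_inv ρ h w⟩
  have hπx : π x = 0 := (Submodule.Quotient.mk_eq_zero _).mpr
    (show ρ h x ∈ Submodule.span (ZMod 2) {B.v} by
      rw [hh]; exact Submodule.mem_span_singleton_self B.v)
  refine ⟨(B.point.E yy).comap π, ?_, fun z => ?_⟩
  · set f : (B.point.E yy).comap π →ₗ[ZMod 2] B.point.E yy := π.restrict (fun _ hz => hz)
    have hf : Function.Surjective f := by
      rintro ⟨m, hm⟩
      obtain ⟨z, rfl⟩ := hπ m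
      exact ⟨⟨z, hm⟩, rfl⟩
    have hker : 1 ≤ Module.finrank (ZMod 2) (LinearMap.ker f) := by
      refine Submodule.one_le_finrank_iff.mpr ((Submodule.ne_bot_iff _).mpr
        ⟨⟨x, ?_⟩, ?_, fun h0 => hx (congrArg Subtype.val h0)⟩)
      · show π x ∈ B.point.E yy
        rw [hπx]
        exact zero_mem _
      · exact Subtype.ext hπx
    have h1 := f.finrank_range_add_finrank_ker
    rw [LinearMap.range_eq_top.mpr hf, finrank_top] at h1
    have h2 := B.point.finrank_E hyy
    have h3 := B.point_dim
    omega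
  · constructor
    · rintro (h1 | h1 | h1 | h1)
      · exact absurd h1 hx
      · exact absurd h1 hy
      · have hx' : π x ∈ B.point.E yy := by
          rw [hπx]
          exact zero_mem _
        exact (Submodule.span_le (p := (B.point.E yy).comap π)).mpr (by
          rintro w (rfl | rfl)
          · exact hx'
          · exact B.point.self_mem_E yy) h1
      · exact h1 h hh
    · exact fun hz => Or.inr (Or.inr (Or.inr ((B.special_iff hh y z).mpr hz)))

theorem exists_generic : ∃ x y z : V, ¬ B.Special' x y z := by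
  obtain ⟨φ, hφ⟩ := B.point.exists_inA B.point.hx0
  obtain ⟨y, hy⟩ := Submodule.Quotient.mk_surjective _ B.point.x0
  obtain ⟨w, hw⟩ := B.point.D.swap.exists_one (B.point.inA_ne hφ).1
  change B.point.D.β φ w = 1 at hw
  obtain ⟨z, rfl⟩ := Submodule.Quotient.mk_surjective _ w
  have hh : ρ (1 : G) B.v = B.v := by simp
  have hy' : y ∉ Submodule.span (ZMod 2) {B.v} := fun h =>
    B.point.hx0 (hy ▸ (Submodule.Quotient.mk_eq_zero _).mpr h)
  obtain ⟨W, -, hW⟩ := B.exists_fibre B.v y
  refine ⟨B.v, y, z, fun h => ?_⟩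
  have hz : Submodule.Quotient.mk z ∈ B.point.E B.point.x0 := by
    rcases h with h | h | h | h
    · exact absurd h B.hv
    · exact absurd h hy'
    · rcases mem_span_pair'.mp h with rfl | rfl | rfl | rfl
      · exact zero_mem _
      · rw [(Submodule.Quotient.mk_eq_zero _).mpr (Submodule.mem_span_singleton_self _)]
        exact zero_mem _
      · rw [hy]; exact B.point.self_mem_E _
      · rw [Submodule.Quotient.mk_add,
          (Submodule.Quotient.mk_eq_zero _).mpr (Submodule.mem_span_singleton_self _), zero_add, hy]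
        exact B.point.self_mem_E _
    · have := h 1 hh
      simpa [hy] using this
  rw [hz φ hφ] at hw
  exact zero_ne_one hw

/-- The degree bound. -/
theorem dim_le_three_mul (K : Submodule (ZMod 2) (Module.End (ZMod 2) V))
    (hK : ∀ f ∈ K, f ≠ 0 → ∃ g : G, ρ g = f)
    (hdim : Module.finrank (ZMod 2) K = Module.finrank (ZMod 2) V) :
    Module.finrank (ZMod 2) V ≤ 3 * B.point.g := by
  classical
  by_contra hlt
  push Not at hlt
  have : Module.Finite (ZMod 2) V := Module.Finite.of_finite
  have : Finite (Module.End (ZMod 2) V) :=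
    Finite.of_injective (fun f => (f : V → V)) DFunLike.coe_injective
  have : Fintype K := Fintype.ofFinite K
  set b := Module.finBasis (ZMod 2) V
  let F : V → V → V → ZMod 2 := fun x y z => if B.Special' x y z then 1 else 0
  have hF : ∀ x y z, F x y z = 1 ↔ B.Special' x y z := fun x y z => by
    simp only [F]
    split_ifs with h <;> simp [h]
  have h12 : ∀ x y z, F x y z = F y x z := fun x y z => by
    simp only [F]
    exact if_congr ⟨B.special'_swap12, B.special'_swap12⟩ rfl rfl
  have h23 : ∀ x y z, F x y z = F x z y := fun x y z => by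
    simp only [F]
    exact if_congr ⟨B.special'_swap23, B.special'_swap23⟩ rfl rfl
  set sm := Finset.univ.filter fun A : Finset (Fin (Module.finrank (ZMod 2) V)) =>
    A.card ≤ B.point.g
  let cz : V → V → Finset (Fin (Module.finrank (ZMod 2) V)) → ZMod 2 :=
    fun x y A => ∑ C ∈ A.powerset, F x y (cube b C)
  have hexp : ∀ x y z, F x y z = ∑ A ∈ sm, cz x y A * mono b A z := by
    intro x y z
    rw [mobius b (F x y) z]
    refine (Finset.sum_subset (Finset.subset_univ sm) fun A _ hA => ?_).symm
    obtain ⟨W, hW, hWz⟩ := B.exists_fibre x y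
    show cz x y A * mono b A z = 0
    rw [show cz x y A = 0 from coeff_zero b W hW (F x y) (fun w => (hF x y w).trans (hWz w))
      (by simpa [sm] using hA), zero_mul]
  have hexp2 : ∀ x y z, F x y z = ∑ A ∈ sm, ∑ A' ∈ sm, ∑ C ∈ A.powerset,
      cz x (cube b C) A' * (mono b A' y * mono b A z) := by
    intro x y z
    rw [hexp]
    refine Finset.sum_congr rfl fun A _ => ?_
    rw [Finset.sum_comm]
    simp only [cz, Finset.sum_mul]
    refine Finset.sum_congr rfl fun C _ => ?_
    rw [h23, hexp, Finset.sum_mul]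
    refine Finset.sum_congr rfl fun A' _ => ?_
    simp only [cz, Finset.sum_mul, mul_assoc]
  have hexp3 : ∀ x y z, F x y z = ∑ A ∈ sm, ∑ A' ∈ sm, ∑ C ∈ A.powerset, ∑ C' ∈ A'.powerset,
      ∑ A'' ∈ sm, cz (cube b C) (cube b C') A'' *
        (mono b A'' x * (mono b A' y * mono b A z)) := by
    intro x y z
    rw [hexp2]
    refine Finset.sum_congr rfl fun A _ => Finset.sum_congr rfl fun A' _ =>
      Finset.sum_congr rfl fun C _ => ?_
    simp only [cz, Finset.sum_mul]
    refine Finset.sum_congr rfl fun C' _ => ?_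
    rw [h12 x (cube b C), h23 (cube b C) x, hexp, Finset.sum_mul]
    refine Finset.sum_congr rfl fun A'' _ => ?_
    simp only [cz, Finset.sum_mul, mul_assoc]
  have hsum : ∀ x y z : V, ∑ l : K, F (l.1 x) (l.1 y) (l.1 z) = 0 := by
    intro x y z
    simp_rw [hexp3]
    rw [Finset.sum_comm]
    refine Finset.sum_eq_zero fun A hA => ?_
    rw [Finset.sum_comm]
    refine Finset.sum_eq_zero fun A' hA' => ?_
    rw [Finset.sum_comm]
    refine Finset.sum_eq_zero fun C _ => ?_
    rw [Finset.sum_comm]
    refine Finset.sum_eq_zero fun C' _ => ?_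
    rw [Finset.sum_comm]
    refine Finset.sum_eq_zero fun A'' hA'' => ?_
    rw [← Finset.mul_sum]
    simp only [sm, Finset.mem_filter, Finset.mem_univ, true_and] at hA hA' hA''
    let ev : V → (K →ₗ[ZMod 2] V) := fun w =>
      (LinearMap.applyₗ (R := ZMod 2) (M := V) (M₂ := V) w).comp K.subtype
    let f : (↥A'' ⊕ ↥A') ⊕ ↥A → (K →ₗ[ZMod 2] ZMod 2) := Sum.elim (Sum.elim
      (fun i => (b.coord i).comp (ev x)) (fun i => (b.coord i).comp (ev y)))
      (fun i => (b.coord i).comp (ev z))
    have h0 := sum_prod_eq_zero f (by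
      rw [hdim]
      simp only [Fintype.card_sum, Fintype.card_coe]
      omega)
    have hprod : ∀ l : K, mono b A'' (l.1 x) * (mono b A' (l.1 y) * mono b A (l.1 z)) =
        ∏ i, f i l := by
      intro l
      simp only [f, Fintype.prod_sum_type, Sum.elim_inl, Sum.elim_inr, mono, ← mul_assoc]
      congr 1
      · congr 1
        · exact (Finset.prod_coe_sort A'' (fun i => b.repr (l.1 x) i)).symm
        · exact (Finset.prod_coe_sort A' (fun i => b.repr (l.1 y) i)).symm
      · exact (Finset.prod_coe_sort A (fun i => b.repr (l.1 z) i)).symm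
    rw [Finset.sum_congr rfl fun l _ => hprod l, h0, mul_zero]
  obtain ⟨x, y, z, hxyz⟩ := B.exists_generic
  have h := hsum x y z
  rw [← Finset.sum_erase_add _ _ (Finset.mem_univ (0 : K))] at h
  have hconst : ∀ l ∈ (Finset.univ : Finset K).erase 0, F (l.1 x) (l.1 y) (l.1 z) = 0 := by
    intro l hl
    obtain ⟨g, hg⟩ := hK l.1 l.2 (fun h0 => (Finset.ne_of_mem_erase hl) (Subtype.ext h0))
    refine (zmod_two_cases _).resolve_right fun h1 => hxyz ?_
    rw [hF, ← hg] at h1
    rcases h1 with h1 | h1 | h1 | h1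
    · exact Or.inl (rho_injective ρ g (h1.trans (map_zero (ρ g)).symm))
    · refine Or.inr (Or.inl ?_)
      rcases mem_span_single.mp h1 with h1 | h1
      · rw [rho_injective ρ g (h1.trans (map_zero (ρ g)).symm)]; exact zero_mem _
      · rw [rho_injective ρ g h1]; exact Submodule.mem_span_singleton_self x
    · refine Or.inr (Or.inr (Or.inl ?_))
      rw [mem_span_pair'] at h1 ⊢
      rcases h1 with h1 | h1 | h1 | h1
      · exact Or.inl (rho_injective ρ g (h1.trans (map_zero (ρ g)).symm))
      · exact Or.inr (Or.inl (rho_injective ρ g h1))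
      · exact Or.inr (Or.inr (Or.inl (rho_injective ρ g h1)))
      · exact Or.inr (Or.inr (Or.inr (rho_injective ρ g (h1.trans (map_add (ρ g) x y).symm))))
    · exact Or.inr (Or.inr (Or.inr ((B.special_map g x y z).mp h1)))
  rw [Finset.sum_eq_zero hconst, zero_add] at h
  have h1 : F ((0 : K).1 x) ((0 : K).1 y) ((0 : K).1 z) = 1 := (hF _ _ _).mpr (Or.inl (by simp))
  exact zero_ne_one (h.symm.trans h1)

end Base

end Cfsg.Agent.Lib.SingerTrans
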