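import Cfsg.Agent.Lib.SingerTrans.RPrime
import Cfsg.Agent.Lib.SingerTrans.Degree
import Cfsg.Agent.Lib.Perm.PrimeDegree
import Cfsg.Agent.S0671

/-!
Transitive linear groups in dimension `n` over `GF(2)` with `2 ^ n - 1` prime.
-/

namespace Cfsg.Agent.Lib.SingerTrans

open MulAction Cfsg.Agent.Lib.Perm Cfsg.Agent.Lib.Perm.Modules Cfsg.Agent.Lib.Perm.PrimeDegree

variable {G : Type*} [Group G] [Finite G] {V : Type*} [AddCommGroup V] [Module (ZMod 2) V]
  [Finite V] (ρ : Representation (ZMod 2) G V)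

theorem finite_dual (X : Type*) [AddCommGroup X] [Module (ZMod 2) X] [Finite X] :
    Finite (Module.Dual (ZMod 2) X) :=
  Finite.of_injective (fun f => (f : X → ZMod 2)) DFunLike.coe_injective

theorem exists_nonzero (h : 0 < Module.finrank (ZMod 2) V) : ∃ v : V, v ≠ 0 := by
  have : Module.Finite (ZMod 2) V := Module.Finite.of_finite
  have := Module.finrank_pos_iff.mp h
  exact exists_ne 0

/-- An element of order `2 ^ n - 1` is transitive on the nonzero vectors. -/
theorem singer_trans {p : ℕ} (hp : p.Prime) (hpn : p + 1 = 2 ^ Module.finrank (ZMod 2) V)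
    {c : G} (hc : c ^ p = 1) (hc1 : ρ c ≠ 1) {v w : V} (hv : v ≠ 0) (hw : w ≠ 0) :
    w ∈ orb ρ (Subgroup.zpowers c) v := by
  have hsz : ∀ x : V, ρ c x ≠ x → orb ρ (Subgroup.zpowers c) x = {y | y ≠ 0} := by
    intro x hx
    have hx0 : x ≠ 0 := fun h => hx (by rw [h, map_zero])
    refine Set.eq_of_subset_of_ncard_le ?_ ?_ (Set.toFinite _)
    · rintro y ⟨g, -, rfl⟩
      exact rho_ne_zero hx0 g
    · rw [ncard_nonzero, ← hpn, Nat.add_sub_cancel]
      have h := orb_ncard_mul ρ (Subgroup.zpowers c) x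
      have hdvd : (orb ρ (Subgroup.zpowers c) x).ncard ∣ p :=
        (Dvd.intro _ h).trans (Nat.card_zpowers c ▸ orderOf_dvd_of_pow_eq_one hc)
      rcases (Nat.dvd_prime hp).mp hdvd with h1 | h1
      · obtain ⟨y, hy⟩ := Set.ncard_eq_one.mp h1
        have e1 := mem_orb_self ρ (Subgroup.zpowers c) x
        have e2 : ρ c x ∈ orb ρ (Subgroup.zpowers c) x := ⟨c, Subgroup.mem_zpowers c, rfl⟩
        rw [hy, Set.mem_singleton_iff] at e1 e2
        exact absurd (e2.trans e1.symm) hx
      · exact h1.symm.le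
  obtain ⟨x, hx⟩ : ∃ x, ρ c x ≠ x := by
    by_contra hno
    push Not at hno
    exact hc1 (LinearMap.ext hno)
  have hv' : v ∈ orb ρ (Subgroup.zpowers c) x := by rw [hsz x hx]; exact hv
  have hw' : w ∈ orb ρ (Subgroup.zpowers c) x := by rw [hsz x hx]; exact hw
  exact orb_trans ρ (orb_symm ρ hv') hw'

theorem singer_irred {p : ℕ} (hp : p.Prime) (hpn : p + 1 = 2 ^ Module.finrank (ZMod 2) V)
    {c : G} (hc : c ^ p = 1) (hc1 : ρ c ≠ 1) : IrredEnd (ρ c) := by
  have hn : 0 < Module.finrank (ZMod 2) V := by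
    by_contra h
    rw [Nat.eq_zero_of_not_pos h, pow_zero] at hpn
    have := hp.pos
    omega
  refine ⟨exists_nonzero hn, fun W hW => ?_⟩
  by_contra hne
  push Not at hne
  obtain ⟨w, hw, hw0⟩ := (Submodule.ne_bot_iff W).mp hne.1
  refine hne.2 (eq_top_iff.mpr fun y hy' => ?_)
  by_cases hy : y = 0
  · rw [hy]; exact zero_mem _
  obtain ⟨g, hg, rfl⟩ := singer_trans ρ hp hpn hc hc1 hw0 hy
  obtain ⟨k, rfl⟩ := mem_powers_iff_mem_zpowers.mpr hg
  show ρ (c ^ k) w ∈ W
  clear hy hg hy'
  induction k with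
  | zero => simpa using hw
  | succ k ih =>
    rw [pow_succ', rho_mul]
    exact hW _ ih

theorem singer_centralizer (hinj : Function.Injective ρ) {p : ℕ} (hp : p.Prime)
    (hpn : p + 1 = 2 ^ Module.finrank (ZMod 2) V) {c : G} (hord : orderOf c = p)
    {f : Module.End (ZMod 2) V} (hf : f ∈ Subalgebra.centralizer (ZMod 2) {ρ c}) (hf0 : f ≠ 0) :
    ∃ g ∈ Subgroup.zpowers c, ρ g = f := by
  classical
  have hc : c ^ p = 1 := hord ▸ pow_orderOf_eq_one c
  have hc1 : ρ c ≠ 1 := fun h => by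
    rw [hinj (h.trans (map_one ρ).symm), orderOf_one] at hord
    exact hp.one_lt.ne hord
  have hI := singer_irred ρ hp hpn hc hc1
  have : Finite (Module.End (ZMod 2) V) :=
    Finite.of_injective (fun f => (f : V → V)) DFunLike.coe_injective
  set S : Set (Module.End (ZMod 2) V) := ρ '' (Subgroup.zpowers c : Set G)
  set C : Set (Module.End (ZMod 2) V) :=
    {f | f ∈ Subalgebra.centralizer (ZMod 2) {ρ c} ∧ f ≠ 0}
  obtain ⟨v, hv⟩ := hI.nontrivial
  have hsub : S ⊆ C := by
    rintro _ ⟨g, hg, rfl⟩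
    refine ⟨Subalgebra.mem_centralizer_iff (ZMod 2) |>.mpr ?_,
      fun h => rho_ne_zero (ρ := ρ) hv g (by rw [h]; rfl)⟩
    rintro _ rfl
    obtain ⟨k, rfl⟩ := Subgroup.mem_zpowers_iff.mp hg
    rw [← map_mul, ← map_mul, (Commute.self_zpow c k).eq]
  have hS : S.ncard = p := by
    rw [Set.ncard_image_of_injective _ hinj, ← Nat.card_coe_set_eq]
    exact (Nat.card_zpowers c).trans hord
  have hC : C.ncard + 1 = p + 1 := by
    rw [hpn, ← card_eq_two_pow, ← hI.card_centralizer]
    show _ = Nat.card ↥((Subalgebra.centralizer (ZMod 2) {ρ c} : Set (Module.End (ZMod 2) V)))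
    rw [Nat.card_coe_set_eq]
    have hset : ((Subalgebra.centralizer (ZMod 2) {ρ c} : Set (Module.End (ZMod 2) V))) =
        insert 0 C := by
      ext x
      simp only [SetLike.mem_coe, Set.mem_insert_iff, C, Set.mem_ofPred_eq]
      constructor
      · intro hx
        by_cases h0 : x = 0
        · exact Or.inl h0
        · exact Or.inr ⟨hx, h0⟩
      · rintro (rfl | ⟨hx, -⟩)
        · exact zero_mem _
        · exact hx
    rw [hset, Set.ncard_insert_of_notMem (fun h => h.2 rfl) (Set.toFinite _)]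
  have heq : S = C := Set.eq_of_subset_of_ncard_le hsub (by omega) (Set.toFinite _)
  have hfS : f ∈ S := heq ▸ ⟨hf, hf0⟩
  exact hfS

theorem zmod_one_lt {p : ℕ} [Fact p.Prime] : 1 < p := (Fact.out : p.Prime).one_lt

/-- A transitive group is either two-transitive or normalises a Singer subgroup. -/
theorem dichotomy (hinj : Function.Injective ρ) {p : ℕ} [Fact p.Prime]
    (hpn : p + 1 = 2 ^ Module.finrank (ZMod 2) V)
    (htr : ∀ x y : V, x ≠ 0 → y ≠ 0 → y ∈ orb ρ ⊤ x) :
    ∃ c : G, orderOf c = p ∧ ((Subgroup.zpowers c).Normal ∨ IsTwoTrans ρ) := by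
  classical
  have : Fintype V := Fintype.ofFinite V
  let α := {v : V // v ≠ 0}
  have hcard : Fintype.card α = p := by
    rw [← Nat.card_eq_fintype_card]
    show Nat.card {v : V | v ≠ 0} = p
    rw [Nat.card_coe_set_eq, ncard_nonzero, ← hpn, Nat.add_sub_cancel]
  let pm : G → Equiv.Perm α := fun g =>
    { toFun := fun v => ⟨ρ g v.1, rho_ne_zero v.2 g⟩
      invFun := fun v => ⟨ρ g⁻¹ v.1, rho_ne_zero v.2 g⁻¹⟩
      left_inv := fun v => Subtype.ext (rho_inv_cancel ρ g v.1)
      right_inv := fun v => Subtype.ext (rho_cancel_inv ρ g v.1) }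
  let φ : G →* Equiv.Perm α :=
    { toFun := pm
      map_one' := Equiv.ext fun v => Subtype.ext (by show ρ 1 v.1 = v.1; simp)
      map_mul' := fun a b => Equiv.ext fun v => Subtype.ext (rho_mul ρ a b v.1) }
  have hφinj : Function.Injective φ := fun a b h => hinj (LinearMap.ext fun v => by
    by_cases hv : v = 0
    · simp [hv]
    · exact congrArg Subtype.val (Equiv.congr_fun h ⟨v, hv⟩))
  have hpt : IsPretransitive φ.range α := ⟨fun a b => by
    obtain ⟨g, -, hg⟩ := htr a.1 b.1 a.2 b.2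
    exact ⟨⟨φ g, g, rfl⟩, Subtype.ext hg⟩⟩
  have hn : 0 < Module.finrank (ZMod 2) V := by
    by_contra h
    rw [Nat.eq_zero_of_not_pos h, pow_zero] at hpn
    have := zmod_one_lt (p := p)
    omega
  obtain ⟨v0, hv0⟩ := exists_nonzero hn
  obtain ⟨e, c', hc', he0, hcp, hce⟩ := exists_cycle_equiv hcard φ.range ⟨v0, hv0⟩
  obtain ⟨c, rfl⟩ := hc'
  refine ⟨c, ?_, ?_⟩
  · refine orderOf_eq_prime (hφinj (by rw [map_pow, hcp, map_one])) fun h => ?_
    have := hce 0
    rw [h, map_one, Equiv.Perm.one_apply, zero_add] at this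
    exact zero_ne_one (e.injective this)
  rcases affine_or_two_transitive hcard φ.range e (φ c) ⟨c, rfl⟩ hce
      (fun h => S0671.result (p := p) (f := 1) le_rfl (by rw [pow_one]; exact hcard) h) with
    haff | htwo
  · left
    refine ⟨fun x hx g => ?_⟩
    obtain ⟨k, rfl⟩ := Subgroup.mem_zpowers_iff.mp hx
    obtain ⟨a, w, haw⟩ := haff (φ g) ⟨g, rfl⟩
    have hgc : g * c * g⁻¹ = c ^ a.val := by
      apply hφinj
      rw [map_mul, map_mul, map_pow, map_inv, mul_inv_eq_iff_eq_mul]
      refine Equiv.ext fun x => ?_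
      obtain ⟨j, rfl⟩ := e.surjective x
      rw [Equiv.Perm.mul_apply, Equiv.Perm.mul_apply, hce, haw j, haw (j + 1)]
      rw [cycle_pow_apply hce a.val (a * j + w), ZMod.natCast_zmod_val]
      congr 1
      ring
    rw [← conj_zpow, hgc]
    exact Subgroup.zpow_mem _ (Subgroup.pow_mem _ (Subgroup.mem_zpowers c) _) k
  · right
    refine ⟨htr, fun x y y' hx hy hy' => ?_⟩
    have hy0 : y ≠ 0 := fun h => hy (h ▸ zero_mem _)
    have hy0' : y' ≠ 0 := fun h => hy' (h ▸ zero_mem _)
    have hh : ∀ a b c d : α, a ≠ b → c ≠ d → ∃ g : φ.range, g • a = c ∧ g • b = d :=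
      fun a b c d => is_two_pretransitive_iff.mp htwo
    obtain ⟨⟨_, g, rfl⟩, h1, h2⟩ := hh (⟨x, hx⟩ : α) ⟨y, hy0⟩ ⟨x, hx⟩ ⟨y', hy0'⟩
      (fun h => hy (mem_span_single.mpr (Or.inr (congrArg Subtype.val h).symm)))
      (fun h => hy' (mem_span_single.mpr (Or.inr (congrArg Subtype.val h).symm)))
    exact ⟨g, congrArg Subtype.val h1, congrArg Subtype.val h2⟩

/-- The order of a group normalising a Singer subgroup. -/
theorem normal_card (hinj : Function.Injective ρ) {p n : ℕ} (hp : p.Prime) (hn : n.Prime)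
    (hdim : Module.finrank (ZMod 2) V = n)
    (hpn : p + 1 = 2 ^ Module.finrank (ZMod 2) V) {c : G} (hord : orderOf c = p)
    (hnor : (Subgroup.zpowers c).Normal) : Nat.card G = p ∨ Nat.card G = n * p := by
  have hc : c ^ p = 1 := hord ▸ pow_orderOf_eq_one c
  have hc1 : ρ c ≠ 1 := fun h => by
    rw [hinj (h.trans (map_one ρ).symm), orderOf_one] at hord
    exact hp.one_lt.ne hord
  have hI := singer_irred ρ hp hpn hc hc1
  have : Finite (Module.End (ZMod 2) V) :=
    Finite.of_injective (fun f => (f : V → V)) DFunLike.coe_injective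
  let C := Subalgebra.centralizer (ZMod 2) ({ρ c} : Set (Module.End (ZMod 2) V))
  have hpowC : ∀ g ∈ Subgroup.zpowers c, ρ g ∈ C := fun g hg => by
    obtain ⟨k, rfl⟩ := Subgroup.mem_zpowers_iff.mp hg
    refine Subalgebra.mem_centralizer_iff (ZMod 2) |>.mpr ?_
    rintro _ rfl
    rw [← map_mul, ← map_mul, (Commute.self_zpow c k).eq]
  let U : G →* (Module.End (ZMod 2) V)ˣ := (Units.map (ρ : G →* _)).comp toUnits.toMonoidHom
  have hU : ∀ g, ((U g : (Module.End (ZMod 2) V)ˣ) : Module.End (ZMod 2) V) = ρ g := fun g => rfl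
  have hUi : ∀ g, (((U g)⁻¹ : (Module.End (ZMod 2) V)ˣ) : Module.End (ZMod 2) V) = ρ g⁻¹ :=
    fun g => by rw [← map_inv, hU]
  have hmem : ∀ g, ∀ f ∈ C, ρ g * f * ρ g⁻¹ ∈ C := fun g f hf => by
    have h := hI.conj_mem (U g) (by
      rw [hU, hUi, ← map_mul, ← map_mul]
      exact hpowC _ (hnor.conj_mem c (Subgroup.mem_zpowers c) g)) hf
    rwa [hU, hUi] at h
  let cj : G → (C →ₐ[ZMod 2] C) := fun g =>
    { toFun := fun f => ⟨_, hmem g f f.2⟩
      map_one' := Subtype.ext (by simp [← map_mul])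
      map_mul' := fun x y => Subtype.ext (by
        show ρ g * ((x : Module.End (ZMod 2) V) * y) * ρ g⁻¹ =
          ρ g * (x : Module.End (ZMod 2) V) * ρ g⁻¹ * (ρ g * (y : Module.End (ZMod 2) V) * ρ g⁻¹)
        rw [← hU, ← hUi]
        simp only [mul_assoc, Units.inv_mul_cancel_left])
      map_zero' := Subtype.ext (by simp)
      map_add' := fun x y => Subtype.ext (by simp [mul_add, add_mul])
      commutes' := fun r => Subtype.ext (by
        show ρ g * algebraMap (ZMod 2) _ r * ρ g⁻¹ = algebraMap (ZMod 2) _ r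
        rw [← Algebra.commutes, mul_assoc, ← map_mul, mul_inv_cancel, map_one, mul_one]) }
  have hcomp : ∀ a b f, cj a (cj b f) = cj (a * b) f := fun a b f => Subtype.ext (by
    show ρ a * (ρ b * (f : Module.End (ZMod 2) V) * ρ b⁻¹) * ρ a⁻¹ = ρ (a * b) * f * ρ (a * b)⁻¹
    rw [mul_inv_rev, map_mul, map_mul]
    simp only [mul_assoc])
  have hone : ∀ f, cj 1 f = f := fun f => Subtype.ext (by
    show ρ 1 * (f : Module.End (ZMod 2) V) * ρ 1⁻¹ = f
    simp)
  let Φ : G →* (C ≃ₐ[ZMod 2] C) :=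
    { toFun := fun g => AlgEquiv.ofAlgHom (cj g) (cj g⁻¹)
        (AlgHom.ext fun f => by
          show cj g (cj g⁻¹ f) = f
          rw [hcomp, mul_inv_cancel, hone])
        (AlgHom.ext fun f => by
          show cj g⁻¹ (cj g f) = f
          rw [hcomp, inv_mul_cancel, hone])
      map_one' := AlgEquiv.ext hone
      map_mul' := fun a b => AlgEquiv.ext fun f => (hcomp a b f).symm }
  have hker : Φ.ker = Subgroup.zpowers c := by
    ext g
    constructor
    · intro hg
      have h := congrArg (fun e : C ≃ₐ[ZMod 2] C =>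
        (e ⟨ρ c, hI.self_mem⟩ : Module.End (ZMod 2) V)) (MonoidHom.mem_ker.mp hg)
      change ρ g * ρ c * ρ g⁻¹ = ρ c at h
      have hgC : ρ g ∈ C := by
        refine Subalgebra.mem_centralizer_iff (ZMod 2) |>.mpr ?_
        rintro _ rfl
        conv_lhs => rw [← h, mul_assoc, ← map_mul ρ g⁻¹, inv_mul_cancel, map_one, mul_one]
      obtain ⟨v, hv⟩ := hI.nontrivial
      obtain ⟨g', hg', he⟩ := singer_centralizer ρ hinj hp hpn hord hgC
        (fun h0 => rho_ne_zero (ρ := ρ) hv g (by rw [h0]; rfl))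
      exact hinj he ▸ hg'
    · intro hg
      refine MonoidHom.mem_ker.mpr (AlgEquiv.ext fun f => Subtype.ext ?_)
      show ρ g * (f : Module.End (ZMod 2) V) * ρ g⁻¹ = f
      have h := congrArg Subtype.val (hI.mul_comm_centralizer ⟨ρ g, hpowC g hg⟩ f)
      change ρ g * (f : Module.End (ZMod 2) V) = (f : Module.End (ZMod 2) V) * ρ g at h
      rw [h, mul_assoc, ← map_mul, mul_inv_cancel, map_one, mul_one]
  have : Finite (C ≃ₐ[ZMod 2] C) :=
    Finite.of_injective (fun e => (e : C → C)) DFunLike.coe_injective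
  have hdvd : Nat.card Φ.range ∣ n := by
    have h := Φ.range.card_subgroup_dvd_card
    rwa [hI.card_aut, hdim] at h
  have h1 := Φ.ker.card_eq_card_quotient_mul_card_subgroup
  rw [Nat.card_congr (QuotientGroup.quotientKerEquivRange Φ).toEquiv, hker, Nat.card_zpowers,
    hord] at h1
  rcases (Nat.dvd_prime hn).mp hdvd with h | h <;> rw [h] at h1
  · exact Or.inl (by rw [h1, one_mul])
  · exact Or.inr h1

/-- A two-transitive group is the whole linear group. -/
theorem surjective_of_two (hinj : Function.Injective ρ) {p : ℕ} (hp : p.Prime)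
    (hpn : p + 1 = 2 ^ Module.finrank (ZMod 2) V) (hn : (Module.finrank (ZMod 2) V).Prime)
    {c : G} (hord : orderOf c = p) (htwo : IsTwoTrans ρ) :
    ∀ e : V ≃ₗ[ZMod 2] V, ∃ g : G, ∀ x, ρ g x = e x := by
  classical
  have : Module.Finite (ZMod 2) V := Module.Finite.of_finite
  have := finite_dual V
  refine htwo.surjective (dualPair ρ) ?_
  have hlin : ∀ g : G, ρ g ≠ 1 → Module.finrank (ZMod 2) V ≤ 3 → g ^ 2 = 1 →
      HasTransvection ρ := by
    intro g hg h3 hg2
    have hsq : ∀ x, ρ g (ρ g x + x) + (ρ g x + x) = 0 := fun x => by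
      rw [map_add, ← rho_mul, ← sq, hg2, map_one, Module.End.one_apply,
        add_comm (ρ g x) x, add_self_zero]
    set D : Module.End (ZMod 2) V := ρ g + 1
    have hle : LinearMap.range D ≤ LinearMap.ker D := by
      rintro _ ⟨x, rfl⟩
      exact hsq x
    have hr := D.finrank_range_add_finrank_ker
    have hr2 := Submodule.finrank_mono hle
    have hr1 : Module.finrank (ZMod 2) (LinearMap.range D) ≤ 1 := by omega
    obtain ⟨x0, hx0⟩ : ∃ x0, D x0 ≠ 0 := by
      by_contra hno
      push Not at hno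
      exact hg (LinearMap.ext fun x => add_eq_zero_iff'.mp (hno x))
    have heq : Submodule.span (ZMod 2) {D x0} = LinearMap.range D :=
      Submodule.eq_of_le_of_finrank_le (Submodule.span_le.mpr (Set.singleton_subset_iff.mpr
        ⟨x0, rfl⟩)) (by rw [finrank_span_singleton hx0]; exact hr1)
    refine ⟨g, D x0, fun x => ?_, hg⟩
    have hx : D x ∈ Submodule.span (ZMod 2) {D x0} := heq ▸ ⟨x, rfl⟩
    rcases mem_span_single.mp hx with h | h
    · exact Or.inl (add_eq_zero_iff'.mp h)
    · right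
      rw [← h]
      show ρ g x = x + (ρ g x + x)
      rw [← add_assoc, add_comm x, add_assoc, add_self_zero, add_zero]
  have hswap : 2 ∣ Nat.card G := by
    obtain ⟨v, hv⟩ := exists_nonzero (V := V) hn.pos
    obtain ⟨u, hu⟩ : ∃ u, u ∉ Submodule.span (ZMod 2) {v} := by
      by_contra hno
      push Not at hno
      have h := Submodule.finrank_mono (R := ZMod 2)
        (show (⊤ : Submodule (ZMod 2) V) ≤ Submodule.span (ZMod 2) {v} from fun x _ => hno x)
      rw [finrank_top, finrank_span_singleton hv] at h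
      have := hn.two_le
      omega
    have h := orb_fixer_ncard htwo hv hu
    have h1 := orb_ncard_mul ρ (fixer ρ v) u
    refine Dvd.dvd.trans ?_ (Subgroup.card_subgroup_dvd_card (fixer ρ v))
    rw [← h1]
    refine dvd_mul_of_dvd_left ?_ _
    have h2 : 2 ∣ 2 ^ Module.finrank (ZMod 2) V := dvd_pow_self 2 hn.ne_zero
    omega
  rcases Nat.lt_or_ge (Module.finrank (ZMod 2) V) 5 with h5 | h5
  · have h3 : Module.finrank (ZMod 2) V ≤ 3 := by
      by_contra h
      have h4 : Module.finrank (ZMod 2) V = 4 := by omega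
      rw [h4] at hn
      exact absurd hn (by decide)
    have := Fact.mk Nat.prime_two
    obtain ⟨g, hg⟩ := exists_prime_orderOf_dvd_card' 2 hswap
    refine hlin g (fun h => ?_) h3 (hg ▸ pow_orderOf_eq_one g)
    rw [hinj (h.trans (map_one ρ).symm), orderOf_one] at hg
    exact absurd hg (by decide)
  have hodd : Odd (Module.finrank (ZMod 2) V) := hn.odd_of_ne_two (by omega)
  obtain ⟨B⟩ := exists_base htwo (dualPair ρ) (by omega)
  by_cases htop : B.point.g + 2 ≤ B.point.dim
  swap
  · exact B.transvection_of_top hinj hodd h5 htop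
  have hdd : Module.finrank (ZMod 2) (Module.Dual (ZMod 2) V) = Module.finrank (ZMod 2) V :=
    Subspace.dual_finrank_eq
  by_cases htop' : B.swap.point.g + 2 ≤ B.swap.point.dim
  swap
  · refine HasTransvection.of_dual (dualPair ρ) (B.swap.transvection_of_top ?_
      (hdd.symm ▸ hodd) (by omega) htop')
    intro a b h
    have h' : ∀ x, ρ a⁻¹ x = ρ b⁻¹ x := fun x => by
      refine add_eq_zero_iff'.mp ((dualPair ρ).right _ fun q => ?_)
      show q (ρ a⁻¹ x + ρ b⁻¹ x) = 0
      rw [map_add, show q (ρ a⁻¹ x) = q (ρ b⁻¹ x) from LinearMap.congr_fun (LinearMap.congr_fun h q) x,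
        add_self_zero]
    exact inv_injective (hinj (LinearMap.ext h'))
  exfalso
  have hdim := B.point_dim
  have hdim' := B.swap.point_dim
  rw [hdd] at hdim'
  set K : Submodule (ZMod 2) (Module.End (ZMod 2) V) :=
    Subalgebra.toSubmodule (Subalgebra.centralizer (ZMod 2) {ρ c})
  have hK : ∀ f ∈ K, f ≠ 0 → ∃ g : G, ρ g = f := fun f hf hf0 =>
    (singer_centralizer ρ hinj hp hpn hord hf hf0).imp fun g hg => hg.2
  have hc1 : ρ c ≠ 1 := fun h => by
    rw [hinj (h.trans (map_one ρ).symm), orderOf_one] at hord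
    exact hp.one_lt.ne hord
  have hKd : Module.finrank (ZMod 2) K = Module.finrank (ZMod 2) V :=
    (singer_irred ρ hp hpn (hord ▸ pow_orderOf_eq_one c) hc1).finrank_centralizer
  have hg := B.dim_le_three_mul K hK hKd
  have htinj : Function.Injective
      (Module.Dual.transpose (R := ZMod 2) (M := V) (M' := V)) := fun f f' h => by
    refine LinearMap.ext fun x => ?_
    refine sub_eq_zero.mp ((dualPair ρ).right _ fun q => ?_)
    show q (f x - f' x) = 0
    rw [map_sub, sub_eq_zero]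
    exact LinearMap.congr_fun (LinearMap.congr_fun h q) x
  have hg' := B.swap.dim_le_three_mul (K.map (Module.Dual.transpose (R := ZMod 2) (M := V) (M' := V)))
    (by
      rintro _ ⟨f, hf, rfl⟩ hf0
      obtain ⟨g, rfl⟩ := hK f hf fun h => hf0 (by rw [h, map_zero])
      refine ⟨g⁻¹, ?_⟩
      rw [Representation.dual_apply, inv_inv])
    ((Submodule.equivMapOfInjective _ htinj K).finrank_eq.symm.trans (hKd.trans hdd.symm))
  rw [hdd] at hg'
  have e1 := B.b_eq
  have e2 := B.swap.b_eq
  have hswap' : B.swap.swap.point.g = B.point.g := rfl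
  rw [hswap'] at e2
  have hs1 : B.point.swap.g = B.point.g := B.point.g_swap
  have hs2 : B.swap.point.swap.g = B.swap.point.g := B.swap.point.g_swap
  have hd1 : B.point.swap.dim = B.point.dim := B.point.D.finrank_eq
  have hd2 : B.swap.point.swap.dim = B.swap.point.dim := B.swap.point.D.finrank_eq
  have hbE : ∀ {G' : Type _} [Group G'] [Finite G'] {X Y : Type _} [AddCommGroup X]
      [Module (ZMod 2) X] [AddCommGroup Y] [Module (ZMod 2) Y] [Finite X] [Finite Y]
      {σ' : Representation (ZMod 2) G' Y} {ρ' : Representation (ZMod 2) G' X} (A : Anti σ' ρ'),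
      A.g + 2 ≤ A.dim → A.b + A.g ≤ A.dim ∧ (3 ≤ A.g → A.b ≤ A.g) := by
    intro G' _ _ X Y _ _ _ _ _ _ σ' ρ' A hA
    refine ⟨?_, fun h3 => A.b_le h3 hA⟩
    have : Module.Finite (ZMod 2) X := Module.Finite.of_finite
    have h := Submodule.finrank_mono (A.Wb_le_E hA A.hx0)
    have := A.finrank_E A.hx0
    rw [A.finrank_Wb A.hx0] at h
    omega
  obtain ⟨f1, f1'⟩ := hbE B.point.swap (by omega)
  obtain ⟨f2, f2'⟩ := hbE B.swap.point.swap (by omega)
  have hn' : Module.finrank (ZMod 2) V ≠ 6 := fun h => by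
    obtain ⟨j, hj⟩ := hodd
    omega
  rcases Nat.lt_or_ge B.point.g 3 with ha | ha <;>
    rcases Nat.lt_or_ge B.swap.point.g 3 with hb | hb
  all_goals (try have := f1' (by omega)); (try have := f2' (by omega)); omega

end Cfsg.Agent.Lib.SingerTrans
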