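import Cfsg.Agent.Lib.SingerTrans.TwoTrans

/-!
Antiflag transitive linear groups over `GF(2)`, seen from a Sylow `2`-subgroup: the fixed
point, the fixed hyperplane and the two distinguished invariant subspaces of a point stabiliser.
-/

namespace Cfsg.Agent.Lib.SingerTrans

variable {G : Type*} [Group G] {Q P : Type*} [AddCommGroup Q] [Module (ZMod 2) Q]
  [AddCommGroup P] [Module (ZMod 2) P]

/-- An antiflag transitive pair of representations with the fixed points of a Sylow subgroup. -/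
structure Anti (σ : Representation (ZMod 2) G P) (ρ : Representation (ZMod 2) G Q) where
  D : Pair σ ρ
  two_le : 2 ≤ Module.finrank (ZMod 2) Q
  trans : ∀ x y : Q, x ≠ 0 → y ≠ 0 → y ∈ orb ρ ⊤ x
  cls : ∀ x φ φ', D.β φ x = 1 → D.β φ' x = 1 → φ' ∈ orb σ (fixer ρ x) φ
  S : Sylow 2 G
  x0 : Q
  hx0 : x0 ≠ 0
  fixx : ∀ g ∈ S, ρ g x0 = x0
  φ0 : P
  hφ0 : φ0 ≠ 0
  fixφ : ∀ g ∈ S, σ g φ0 = φ0

theorem rho_ne_zero {ρ : Representation (ZMod 2) G Q} {x : Q} (hx : x ≠ 0) (g : G) :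
    ρ g x ≠ 0 := fun h => hx (rho_injective ρ g (h.trans (map_zero (ρ g)).symm))

theorem ncard_nonzero (X : Type*) [AddCommGroup X] [Module (ZMod 2) X] [Finite X] :
    {x : X | x ≠ 0}.ncard = 2 ^ Module.finrank (ZMod 2) X - 1 := by
  rw [show {x : X | x ≠ 0} = ({0} : Set X)ᶜ from rfl, Set.ncard_compl, Set.ncard_singleton,
    card_eq_two_pow]

namespace Anti

variable [Finite G] [Finite Q] [Finite P] {σ : Representation (ZMod 2) G P}
  {ρ : Representation (ZMod 2) G Q} (A : Anti σ ρ)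

/-- The dimension. -/
noncomputable abbrev dim (_A : Anti σ ρ) : ℕ := Module.finrank (ZMod 2) Q

omit [Finite G] [Finite Q] [Finite P] in
theorem two_le_dim : 2 ≤ A.dim := A.two_le

include A in
theorem trans' (φ φ' : P) (hφ : φ ≠ 0) (hφ' : φ' ≠ 0) : φ' ∈ orb σ ⊤ φ := by
  obtain ⟨y, hy⟩ := A.D.swap.exists_one hφ
  change A.D.β φ y = 1 at hy
  obtain ⟨y', hy'⟩ := A.D.swap.exists_one hφ'
  change A.D.β φ' y' = 1 at hy'
  have hy0 : y ≠ 0 := by rintro rfl; simp at hy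
  have hy0' : y' ≠ 0 := by rintro rfl; simp at hy'
  obtain ⟨g, -, rfl⟩ := A.trans y y' hy0 hy0'
  obtain ⟨k, -, hk⟩ := A.cls _ (σ g φ) φ' (by rw [A.D.inv]; exact hy) hy'
  exact ⟨k * g, trivial, by rw [rho_mul, hk]⟩

/-- Interchange points and covectors. -/
def swap : Anti ρ σ where
  D := A.D.swap
  two_le := A.D.finrank_eq.symm ▸ A.two_le
  trans := A.trans'
  cls φ y y' h h' := by
    change A.D.β φ y = 1 at h
    change A.D.β φ y' = 1 at h'
    have hy0 : y ≠ 0 := by rintro rfl; simp at h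
    have hy0' : y' ≠ 0 := by rintro rfl; simp at h'
    obtain ⟨g, -, hg⟩ := A.trans y y' hy0 hy0'
    obtain ⟨k, hk, hkφ⟩ := A.cls y' (σ g φ) φ (by rw [← hg, A.D.inv]; exact h) h'
    refine ⟨k * g, ?_, ?_⟩
    · rw [mem_fixer, rho_mul, hkφ]
    · rw [rho_mul, hg, mem_fixer ρ |>.mp hk]
  S := A.S
  x0 := A.φ0
  hx0 := A.hφ0
  fixx := A.fixφ
  φ0 := A.x0
  hφ0 := A.hx0
  fixφ := A.fixx

omit [Finite Q] [Finite P] in
theorem two_part (K : Subgroup G) (m : ℕ) (h : 2 ^ m ∣ Nat.card K) :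
    2 ^ m ≤ Nat.card (A.S : Subgroup G) := by
  have := Fact.mk Nat.prime_two
  exact Nat.le_of_dvd Nat.card_pos
    (A.S.pow_dvd_card_of_pow_dvd_card (h.trans (Subgroup.card_subgroup_dvd_card K)))

omit [Finite G] in
theorem class_ncard {x : Q} {ψ : P} (h : A.D.β ψ x = 1) :
    {χ : P | A.D.β χ x = 1}.ncard = 2 ^ (A.dim - 1) := by
  have hx : x ≠ 0 := by rintro rfl; simp at h
  have hset : {χ : P | A.D.β χ x = 1} =
      {χ : P | ∀ w ∈ Submodule.span (ZMod 2) {x}, A.D.β χ w = A.D.β ψ w} := by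
    ext χ
    constructor
    · intro hχ
      exact beta_res (hχ.trans h.symm)
    · intro hχ
      exact (hχ x (Submodule.mem_span_singleton_self x)).trans h
  rw [hset, A.D.ncard_class, finrank_span_singleton hx]

theorem orbit_class {x : Q} {T : Subgroup G} (hT : IsPGroup 2 T) (hTx : T ≤ fixer ρ x) {a : ℕ}
    (ha : Nat.card (A.S : Subgroup G) ≤ Nat.card T * 2 ^ a) {ψ : P} (h : A.D.β ψ x = 1) :
    2 ^ (A.dim - 1) ≤ 2 ^ a * (orb σ T ψ).ncard := by
  refine orbit_lower σ (K := fixer ρ x) hTx hT (N := Nat.card (A.S : Subgroup G))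
    (A.two_part _) ha ?_
  have hset : orb σ (fixer ρ x) ψ = {χ : P | A.D.β χ x = 1} := by
    ext χ
    constructor
    · rintro ⟨g, hg, rfl⟩
      show A.D.β (σ g ψ) x = 1
      rw [← mem_fixer ρ |>.mp hg, A.D.inv, h]
    · exact A.cls x ψ χ h
  rw [hset, A.class_ncard h]

theorem s_class {ψ ψ' : P} (h : A.D.β ψ A.x0 = 1) (h' : A.D.β ψ' A.x0 = 1) :
    ψ' ∈ orb σ (A.S : Subgroup G) ψ := by
  have hlow := A.orbit_class (x := A.x0) A.S.2 A.fixx (a := 0) (by simp) h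
  have hsub : orb σ (A.S : Subgroup G) ψ ⊆ {χ : P | A.D.β χ A.x0 = 1} := by
    rintro χ ⟨g, hg, rfl⟩
    show A.D.β (σ g ψ) A.x0 = 1
    rw [← A.fixx g hg, A.D.inv, h]
  rw [Set.eq_of_subset_of_ncard_le hsub (by rw [A.class_ncard h]; simpa using hlow) (Set.toFinite _)]
  exact h'

theorem unique_fix {x : Q} (hx : x ≠ 0) (h : ∀ g ∈ A.S, ρ g x = x) : x = A.x0 := by
  by_contra hne
  have h1 : x ∉ Submodule.span (ZMod 2) {A.x0} := fun hm =>
    (mem_span_single.mp hm).elim hx hne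
  have h2 : A.x0 ∉ Submodule.span (ZMod 2) {x} := fun hm =>
    (mem_span_single.mp hm).elim A.hx0 (Ne.symm hne)
  obtain ⟨ψ, hψ, hψ1⟩ := A.D.exists_sep h2
  have hψx := hψ x (Submodule.mem_span_singleton_self x)
  obtain ⟨p, hp⟩ := A.D.exists_sep h1
  rcases zmod_two_cases (A.D.β ψ x) with hc | hc
  · have h3 : A.D.β (ψ + p) A.x0 = 1 := by
      rw [map_add, LinearMap.add_apply, hψ1, hp.1 _ (Submodule.mem_span_singleton_self _), add_zero]
    obtain ⟨g, hg, hgψ⟩ := A.s_class hψ1 h3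
    have h4 : A.D.β (σ g ψ) x = A.D.β ψ x := by
      conv_lhs => rw [← h g hg]
      rw [A.D.inv]
    rw [hgψ, map_add, LinearMap.add_apply, hc, hp.2] at h4
    simp at h4
  · rw [hψx] at hc
    exact zero_ne_one hc

theorem beta0 : A.D.β A.φ0 A.x0 = 0 := by
  refine (zmod_two_cases _).resolve_right fun h => ?_
  have hlow := A.orbit_class (x := A.x0) A.S.2 A.fixx (a := 0) (by simp) h
  have h1 : orb σ (A.S : Subgroup G) A.φ0 ⊆ {A.φ0} := by
    rintro χ ⟨g, hg, rfl⟩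
    exact A.fixφ g hg
  have h2 := Set.ncard_le_ncard h1
  rw [Set.ncard_singleton] at h2
  have h3 : 2 ^ 1 ≤ 2 ^ (A.dim - 1) :=
    Nat.pow_le_pow_right two_pos (by have := A.two_le_dim; omega)
  omega

/-- The orbit of the fixed incident pair. -/
def inA (φ : P) (x : Q) : Prop := ∃ g, σ g A.φ0 = φ ∧ ρ g A.x0 = x

omit [Finite G] [Finite Q] [Finite P] in
theorem inA_smul {φ : P} {x : Q} (h : A.inA φ x) (g : G) : A.inA (σ g φ) (ρ g x) := by
  obtain ⟨k, rfl, rfl⟩ := h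
  exact ⟨g * k, rho_mul σ g k _, rho_mul ρ g k _⟩

theorem inA_swap {φ : P} {x : Q} : A.swap.inA x φ ↔ A.inA φ x :=
  exists_congr fun _ => and_comm

theorem inA_beta {φ : P} {x : Q} (h : A.inA φ x) : A.D.β φ x = 0 := by
  obtain ⟨k, rfl, rfl⟩ := h
  rw [A.D.inv, A.beta0]

theorem inA_ne {φ : P} {x : Q} (h : A.inA φ x) : φ ≠ 0 ∧ x ≠ 0 := by
  obtain ⟨k, rfl, rfl⟩ := h
  exact ⟨rho_ne_zero A.hφ0 k, rho_ne_zero A.hx0 k⟩

theorem exists_inA {x : Q} (hx : x ≠ 0) : ∃ φ, A.inA φ x := by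
  obtain ⟨g, -, rfl⟩ := A.trans A.x0 x A.hx0 hx
  exact ⟨σ g A.φ0, g, rfl, rfl⟩

/-- The intersection of the hyperplanes incident with a point. -/
def E (x : Q) : Submodule (ZMod 2) Q where
  carrier := {y | ∀ φ, A.inA φ x → A.D.β φ y = 0}
  zero_mem' := by intro φ _; simp
  add_mem' := by intro a b ha hb φ hφ; rw [map_add, ha φ hφ, hb φ hφ, add_zero]
  smul_mem' := by intro c a ha φ hφ; rw [map_smul, ha φ hφ, smul_zero]

theorem mem_E {x y : Q} : y ∈ A.E x ↔ ∀ φ, A.inA φ x → A.D.β φ y = 0 := Iff.rfl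

theorem E_smul {x y : Q} (h : y ∈ A.E x) (g : G) : ρ g y ∈ A.E (ρ g x) := by
  intro φ hφ
  have h1 := A.inA_smul hφ g⁻¹
  rw [rho_inv_cancel] at h1
  have h2 := h _ h1
  rw [← A.D.inv g, rho_cancel_inv] at h2
  exact h2

theorem E_smul_iff {x y : Q} (g : G) : ρ g y ∈ A.E (ρ g x) ↔ y ∈ A.E x := by
  refine ⟨fun h => ?_, fun h => A.E_smul h g⟩
  have := A.E_smul h g⁻¹
  rwa [rho_inv_cancel, rho_inv_cancel] at this

theorem self_mem_E (x : Q) : x ∈ A.E x := fun _ h => A.inA_beta h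

theorem outside_E {y y' : Q} (h : y ∉ A.E A.x0) (h' : y' ∉ A.E A.x0) :
    y' ∈ orb ρ (fixer ρ A.x0) y := by
  have key : ∀ z : Q, z ∉ A.E A.x0 → ∃ g ∈ fixer ρ A.x0, A.D.β A.φ0 (ρ g z) = 1 := by
    intro z hz
    rw [mem_E] at hz
    push Not at hz
    obtain ⟨φ, ⟨k, rfl, hk⟩, hφ⟩ := hz
    refine ⟨k⁻¹, Subgroup.inv_mem _ hk, ?_⟩
    rw [← A.D.inv k, rho_cancel_inv]
    exact (zmod_two_cases _).resolve_left hφ
  obtain ⟨g, hg, hgy⟩ := key y h
  obtain ⟨g', hg', hgy'⟩ := key y' h'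
  obtain ⟨s, hs, hsy⟩ := A.swap.s_class (ψ := ρ g y) (ψ' := ρ g' y') hgy hgy'
  exact ⟨g'⁻¹ * s * g, Subgroup.mul_mem _ (Subgroup.mul_mem _ (Subgroup.inv_mem _ hg')
    (A.fixx s hs)) hg, by rw [rho_mul, rho_mul, hsy, rho_inv_cancel]⟩

/-- The covectors incident with a point, with zero. -/
def Asp (x : Q) : Submodule (ZMod 2) P := A.D.ann (A.E x)

theorem mem_Asp {x : Q} (hx : x ≠ 0) {φ : P} : φ ∈ A.Asp x ↔ φ = 0 ∨ A.inA φ x := by
  constructor
  · intro h
    by_cases h0 : φ = 0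
    · exact Or.inl h0
    refine Or.inr ?_
    obtain ⟨g, -, rfl⟩ := A.trans A.x0 x A.hx0 hx
    rw [Asp, Pair.mem_ann] at h
    have h1 : ∀ l ∈ A.E A.x0, A.D.β A.φ0 l = A.D.β (σ g⁻¹ φ) l := by
      intro l hl
      rw [hl A.φ0 ⟨1, by simp, by simp⟩, ← A.D.inv g, rho_cancel_inv]
      exact (h _ (A.E_smul hl g)).symm
    obtain ⟨k, hk, hkφ⟩ := A.D.class_transitive (fixer ρ A.x0) (A.E A.x0)
      (fun y y' => A.outside_E) A.hφ0 (rho_ne_zero h0 g⁻¹) h1
    refine ⟨g * k, ?_, ?_⟩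
    · rw [rho_mul, hkφ, rho_cancel_inv]
    · rw [rho_mul, mem_fixer ρ |>.mp hk]
  · rintro (rfl | h)
    · exact zero_mem _
    · rw [Asp, Pair.mem_ann]
      exact fun y hy => hy φ h

/-- The rank of the incidence spaces. -/
noncomputable def g : ℕ := Module.finrank (ZMod 2) (A.Asp A.x0)

theorem ncard_inA {x : Q} (hx : x ≠ 0) :
    {φ | A.inA φ x}.ncard + 1 = 2 ^ Module.finrank (ZMod 2) (A.Asp x) := by
  rw [← card_eq_two_pow, ← SetLike.coe_sort_coe, Nat.card_coe_set_eq]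
  have hset : (A.Asp x : Set P) = insert 0 {φ | A.inA φ x} := by
    ext φ
    exact A.mem_Asp hx
  have h0 : (0 : P) ∉ {φ | A.inA φ x} := fun h => (A.inA_ne h).1 rfl
  rw [hset, Set.ncard_insert_of_notMem h0 (Set.toFinite _)]

theorem finrank_Asp {x : Q} (hx : x ≠ 0) : Module.finrank (ZMod 2) (A.Asp x) = A.g := by
  obtain ⟨g, -, rfl⟩ := A.trans A.x0 x A.hx0 hx
  have hset : {φ | A.inA φ (ρ g A.x0)} = σ g '' {φ | A.inA φ A.x0} := by
    ext φ
    constructor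
    · intro h
      refine ⟨σ g⁻¹ φ, ?_, rho_cancel_inv σ g φ⟩
      have := A.inA_smul h g⁻¹
      rwa [rho_inv_cancel] at this
    · rintro ⟨φ', h, rfl⟩
      exact A.inA_smul h g
  have h1 := A.ncard_inA hx
  rw [hset, Set.ncard_image_of_injective _ (rho_injective σ g), A.ncard_inA A.hx0] at h1
  exact (Nat.pow_right_injective le_rfl h1).symm

theorem g_pos : 1 ≤ A.g := by
  have h := A.ncard_inA A.hx0
  have : 0 < {φ | A.inA φ A.x0}.ncard :=
    (Set.ncard_pos (Set.toFinite _)).mpr (A.exists_inA A.hx0)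
  by_contra h0
  rw [show Module.finrank (ZMod 2) (A.Asp A.x0) = 0 from by
    show A.g = 0
    omega] at h
  omega

theorem finrank_E {x : Q} (hx : x ≠ 0) : Module.finrank (ZMod 2) (A.E x) + A.g = A.dim := by
  rw [← A.finrank_Asp hx, add_comm]
  exact A.D.finrank_ann _

theorem g_swap : A.swap.g = A.g := by
  have horb : ∀ (B : Anti σ ρ), {φ | B.inA φ B.x0} = orb σ (fixer ρ B.x0) B.φ0 := by
    intro B
    ext φ
    exact ⟨fun ⟨k, h1, h2⟩ => ⟨k, h2, h1⟩, fun ⟨k, h2, h1⟩ => ⟨k, h1, h2⟩⟩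
  have horb' : {x | A.swap.inA x A.φ0} = orb ρ (fixer σ A.φ0) A.x0 := by
    ext x
    exact ⟨fun ⟨k, h1, h2⟩ => ⟨k, h2, h1⟩, fun ⟨k, h2, h1⟩ => ⟨k, h1, h2⟩⟩
  have h1 := orb_ncard_mul σ (fixer ρ A.x0) A.φ0
  have h2 := orb_ncard_mul ρ (fixer σ A.φ0) A.x0
  have h3 := orb_ncard_mul ρ ⊤ A.x0
  have h4 := orb_ncard_mul σ ⊤ A.φ0
  have ho : orb ρ ⊤ A.x0 = {x | x ≠ 0} := by
    ext y
    exact ⟨fun ⟨k, _, h⟩ => h ▸ rho_ne_zero A.hx0 k, fun hy => A.trans _ _ A.hx0 hy⟩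
  have ho' : orb σ ⊤ A.φ0 = {φ | φ ≠ 0} := by
    ext y
    exact ⟨fun ⟨k, _, h⟩ => h ▸ rho_ne_zero A.hφ0 k, fun hy => A.trans' _ _ A.hφ0 hy⟩
  rw [top_inf_eq, ho, ncard_nonzero] at h3
  rw [top_inf_eq, ho', ncard_nonzero, A.D.finrank_eq, ← h3] at h4
  have hd : 2 ≤ 2 ^ A.dim :=
    (Nat.pow_le_pow_right two_pos (by linarith [A.two_le] : 1 ≤ A.dim)).trans' le_rfl
  have hc : Nat.card ↥(fixer σ A.φ0) = Nat.card ↥(fixer ρ A.x0) :=
    Nat.eq_of_mul_eq_mul_left (by show 0 < 2 ^ A.dim - 1; omega) h4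
  rw [hc, inf_comm, ← h1] at h2
  have h5 := Nat.eq_of_mul_eq_mul_right Nat.card_pos h2
  rw [← horb', ← horb A] at h5
  have h6 := A.ncard_inA A.hx0
  have h7 := A.swap.ncard_inA A.swap.hx0
  change {x | A.swap.inA x A.φ0}.ncard + 1 = _ at h7
  rw [h5, h6] at h7
  exact (Nat.pow_right_injective le_rfl h7).symm

theorem exists_w0 : ∃ w : Q, w ∉ Submodule.span (ZMod 2) {A.x0} ∧
    (orb ρ (A.S : Subgroup G) w).ncard ≤ 2 := by
  have : Module.Finite (ZMod 2) Q := Module.Finite.of_finite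
  set W := Submodule.span (ZMod 2) {A.x0}
  have : Finite (Q ⧸ W) := Finite.of_surjective _ (Submodule.Quotient.mk_surjective W)
  have hinv : ∀ g ∈ (A.S : Subgroup G), ∀ w ∈ W, ρ g w ∈ W := by
    intro g hg w hw
    rcases mem_span_single.mp hw with rfl | rfl
    · simp
    · rw [A.fixx g hg]; exact hw
  have hp : IsPGroup 2 (⊤ : Subgroup ↥(A.S : Subgroup G)) := A.S.2.to_subgroup ⊤
  have hodd : Odd ({x : Q ⧸ W | x ≠ 0}).ncard := by
    rw [ncard_nonzero]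
    have h := W.finrank_quotient_add_finrank
    rw [finrank_span_singleton A.hx0] at h
    have := A.two_le
    obtain ⟨k, hk⟩ : ∃ k, Module.finrank (ZMod 2) (Q ⧸ W) = k + 1 :=
      ⟨Module.finrank (ZMod 2) (Q ⧸ W) - 1, by omega⟩
    rw [hk, pow_succ]
    exact ⟨2 ^ k - 1, by have := Nat.one_le_two_pow (n := k); omega⟩
  obtain ⟨c, hc, hfix⟩ := exists_fixed (quotRep ρ _ W hinv) hp
    (X := {x : Q ⧸ W | x ≠ 0}) (fun g _ y hy => rho_ne_zero hy g) hodd
  obtain ⟨w, rfl⟩ := Submodule.Quotient.mk_surjective W c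
  refine ⟨w, fun h => hc ((Submodule.Quotient.mk_eq_zero W).mpr h), ?_⟩
  have hsub : orb ρ (A.S : Subgroup G) w ⊆ {w, w + A.x0} := by
    rintro y ⟨g, hg, rfl⟩
    have h := hfix ⟨g, hg⟩ trivial
    rw [quotRep_mk, Submodule.Quotient.eq] at h
    rcases mem_span_single.mp h with h0 | h0
    · exact Or.inl (sub_eq_zero.mp h0)
    · exact Or.inr (Set.mem_singleton_iff.mpr ((sub_eq_iff_eq_add').mp h0))
  exact (Set.ncard_le_ncard hsub).trans ((Set.ncard_insert_le _ _).trans (by simp))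

/-- A vector whose coset modulo the fixed point is fixed by the Sylow subgroup. -/
noncomputable def w0 : Q := A.exists_w0.choose

theorem w0_notMem : A.w0 ∉ Submodule.span (ZMod 2) {A.x0} := A.exists_w0.choose_spec.1

theorem w0_orb : (orb ρ (A.S : Subgroup G) A.w0).ncard ≤ 2 := A.exists_w0.choose_spec.2

/-- The orbit of the second fixed pair. -/
def inW (w x : Q) : Prop := ∃ g, ρ g A.w0 = w ∧ ρ g A.x0 = x

/-- The second invariant subspace. -/
def Wb (x : Q) : Submodule (ZMod 2) Q := Submodule.span (ZMod 2) ({w | A.inW w x} ∪ {x})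

theorem self_mem_Wb (x : Q) : x ∈ A.Wb x := Submodule.subset_span (Or.inr rfl)

theorem Wb_smul (g : G) (x : Q) : (A.Wb x).map (ρ g) = A.Wb (ρ g x) := by
  rw [Wb, Wb, Submodule.map_span, Set.image_union, Set.image_singleton]
  congr 2
  ext w
  constructor
  · rintro ⟨w', ⟨k, rfl, rfl⟩, rfl⟩
    exact ⟨g * k, rho_mul ρ g k _, rho_mul ρ g k _⟩
  · rintro ⟨k, rfl, hk⟩
    exact ⟨ρ g⁻¹ (ρ k A.w0), ⟨g⁻¹ * k, rho_mul ρ _ _ _, by rw [rho_mul, hk, rho_inv_cancel]⟩,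
      rho_cancel_inv ρ g _⟩

theorem mem_Wb_smul {x w : Q} (h : w ∈ A.Wb x) (g : G) : ρ g w ∈ A.Wb (ρ g x) :=
  A.Wb_smul g x ▸ Submodule.mem_map_of_mem h

theorem w0_class {ψ ψ' : P} (h : A.D.β ψ A.w0 = 1) (h' : A.D.β ψ' A.w0 = 1)
    (hx : A.D.β ψ A.x0 = A.D.β ψ' A.x0) : ψ' ∈ orb σ (A.S : Subgroup G) ψ := by
  set T : Subgroup G := (A.S : Subgroup G) ⊓ fixer ρ A.w0
  have hT : IsPGroup 2 T := A.S.2.to_le inf_le_left
  have hlow := A.orbit_class (x := A.w0) hT inf_le_right (a := 1)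
    (stab_card ρ (A.w0_orb.trans (by norm_num))) h
  set X : Set P := {χ | ∀ z ∈ Submodule.span (ZMod 2) {A.x0, A.w0}, A.D.β χ z = A.D.β ψ z}
  have hsub : orb σ T ψ ⊆ X := by
    rintro χ ⟨g, hg, rfl⟩ z hz
    rcases mem_span_pair'.mp hz with rfl | rfl | rfl | rfl
    · simp
    · conv_rhs => rw [← A.D.inv g ψ A.x0, A.fixx g hg.1]
    · conv_rhs => rw [← A.D.inv g ψ A.w0, mem_fixer ρ |>.mp hg.2]
    · conv_rhs => rw [← A.D.inv g ψ (A.x0 + A.w0), map_add (ρ g), A.fixx g hg.1,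
        mem_fixer ρ |>.mp hg.2]
  have hXc : X.ncard = 2 ^ (A.dim - 2) := by
    rw [A.D.ncard_class, finrank_span_pair A.hx0 A.w0_notMem]
  have heq : orb σ T ψ = X := by
    refine Set.eq_of_subset_of_ncard_le hsub ?_ (Set.toFinite _)
    rw [hXc]
    have h2 := A.two_le_dim
    have : 2 ^ (A.dim - 1) = 2 * 2 ^ (A.dim - 2) := by
      rw [← pow_succ']; congr 1; omega
    omega
  have : ψ' ∈ X := by
    intro z hz
    rcases mem_span_pair'.mp hz with rfl | rfl | rfl | rfl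
    · simp
    · exact hx.symm
    · exact h'.trans h.symm
    · rw [map_add, map_add, hx, h, h']
  rw [← heq] at this
  exact orb_mono σ inf_le_left ψ this

theorem mem_Wb {x w : Q} (hx : x ≠ 0) :
    w ∈ A.Wb x ↔ w ∈ Submodule.span (ZMod 2) {x} ∨ A.inW w x := by
  refine ⟨fun h => ?_, fun h => ?_⟩
  swap
  · rcases h with h | h
    · exact Submodule.span_mono (by simp) h
    · exact Submodule.subset_span (Or.inl h)
  obtain ⟨g, -, rfl⟩ := A.trans A.x0 x A.hx0 hx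
  set w' := ρ g⁻¹ w with hw'
  have h' : w' ∈ A.Wb A.x0 := by
    have := A.mem_Wb_smul h g⁻¹
    rwa [rho_inv_cancel] at this
  by_cases hs : w' ∈ Submodule.span (ZMod 2) {A.x0}
  · left
    rcases mem_span_single.mp hs with h0 | h0
    · rw [← rho_cancel_inv ρ g w, ← hw', h0, map_zero]
      exact zero_mem _
    · rw [← rho_cancel_inv ρ g w, ← hw', h0]
      exact Submodule.mem_span_singleton_self _
  right
  have key : ∀ ψ : P, ψ ∉ A.D.ann (A.Wb A.x0) → A.D.β ψ A.x0 = 0 →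
      ∃ k ∈ fixer ρ A.x0, A.D.β (σ k ψ) A.w0 = 1 ∧ A.D.β (σ k ψ) A.x0 = 0 := by
    intro ψ hψ h0
    have hgen : ∃ y, A.inW y A.x0 ∧ A.D.β ψ y = 1 := by
      by_contra hno
      push Not at hno
      refine hψ (A.D.mem_ann.mpr fun z hz => ?_)
      show A.D.β ψ z = 0
      refine Submodule.span_induction ?_ (by simp) (fun a b _ _ ha hb => by
        rw [map_add, ha, hb, add_zero]) (fun c a _ ha => by rw [map_smul, ha, smul_zero]) hz
      rintro y (hy | rfl)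
      · exact (zmod_two_cases _).resolve_right (hno y hy)
      · exact h0
    obtain ⟨y, ⟨k, rfl, hk⟩, hy⟩ := hgen
    refine ⟨k⁻¹, Subgroup.inv_mem _ hk, ?_, ?_⟩
    · rw [← A.D.inv k, rho_cancel_inv]; exact hy
    · rw [← A.D.inv k, rho_cancel_inv, hk]; exact h0
  obtain ⟨k, hk, hkw⟩ := A.D.swap.class_transitive' (fixer ρ A.x0)
    (A.D.ann (A.Wb A.x0)) (Submodule.span (ZMod 2) {A.x0})
    (fun ψ ψ' hψ hψ' hm => by
      have hv : A.D.β ψ A.x0 = A.D.β ψ' A.x0 := hm A.x0 (Submodule.mem_span_singleton_self _)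
      rcases zmod_two_cases (A.D.β ψ A.x0) with h0 | h1
      · obtain ⟨k, hk, h1, h2⟩ := key ψ hψ h0
        obtain ⟨k', hk', h1', h2'⟩ := key ψ' hψ' (hv ▸ h0)
        obtain ⟨s, hs, hs'⟩ := A.w0_class h1 h1' (h2.trans h2'.symm)
        exact ⟨k'⁻¹ * s * k, Subgroup.mul_mem _ (Subgroup.mul_mem _ (Subgroup.inv_mem _ hk')
          (A.fixx s hs)) hk, by rw [rho_mul, rho_mul, hs', rho_inv_cancel]⟩
      · exact A.cls _ _ _ h1 (hv ▸ h1))
    (φ := A.w0) (φ' := w') A.w0_notMem hs (fun l hl => by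
      rw [A.D.mem_ann] at hl
      show A.D.β l A.w0 = A.D.β l w'
      rw [hl _ h', hl _ (Submodule.subset_span (Or.inl ⟨1, by simp, by simp⟩))])
  exact ⟨g * k, by rw [rho_mul, hkw, hw', rho_cancel_inv],
    by rw [rho_mul, mem_fixer ρ |>.mp hk]⟩

/-- The rank of the second invariant subspace. -/
noncomputable def b : ℕ := Module.finrank (ZMod 2) (A.Wb A.x0)

theorem finrank_Wb {x : Q} (hx : x ≠ 0) : Module.finrank (ZMod 2) (A.Wb x) = A.b := by
  obtain ⟨g, -, rfl⟩ := A.trans A.x0 x A.hx0 hx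
  rw [← A.Wb_smul g]
  exact (Submodule.equivMapOfInjective _ (rho_injective ρ g) _).finrank_eq.symm

theorem two_le_b : 2 ≤ A.b := by
  have : Module.Finite (ZMod 2) Q := Module.Finite.of_finite
  rw [← finrank_span_pair A.hx0 A.w0_notMem]
  refine Submodule.finrank_mono (Submodule.span_le.mpr ?_)
  rintro z (rfl | rfl)
  · exact A.self_mem_Wb _
  · exact Submodule.subset_span (Or.inl ⟨1, by simp, by simp⟩)

/-- A vector whose orbit under the Sylow subgroup is small lies in the second subspace. -/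
theorem mem_Wb_of_small {w : Q} {k : ℕ} (hk : k < A.b)
    (ho : (orb ρ (A.S : Subgroup G) w).ncard ≤ 2 ^ k) : w ∈ A.Wb A.x0 := by
  have : Module.Finite (ZMod 2) Q := Module.Finite.of_finite
  by_contra hw
  set T : Subgroup G := (A.S : Subgroup G) ⊓ fixer ρ w
  set W' : Submodule (ZMod 2) Q := A.Wb A.x0 ⊔ Submodule.span (ZMod 2) {w}
  obtain ⟨ψ, hψ0, hψw⟩ := A.D.exists_sep hw
  have hlow := A.orbit_class (x := w) (T := T) (A.S.2.to_le inf_le_left) inf_le_right (a := k)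
    (stab_card ρ ho) hψw
  have hsub : orb σ T ψ ⊆ {χ : P | ∀ z ∈ W', A.D.β χ z = A.D.β ψ z} := by
    rintro χ ⟨g, hg, rfl⟩ z hz
    obtain ⟨a, ha, c, hc, rfl⟩ := Submodule.mem_sup.mp hz
    rw [map_add, map_add]
    congr 1
    · rw [hψ0 a ha, A.D.inv_left]
      refine hψ0 _ ?_
      have := A.mem_Wb_smul ha g⁻¹
      rwa [A.fixx g⁻¹ ((A.S : Subgroup G).inv_mem hg.1)] at this
    · rw [A.D.inv_left]
      congr 1
      rcases mem_span_single.mp hc with rfl | rfl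
      · simp
      · exact mem_fixer ρ |>.mp ((fixer ρ c).inv_mem hg.2)
  have hW' : Module.finrank (ZMod 2) W' = A.b + 1 := by
    have hinf : A.Wb A.x0 ⊓ Submodule.span (ZMod 2) {w} = ⊥ := by
      rw [eq_bot_iff]
      rintro z ⟨hz1, hz2⟩
      rcases mem_span_single.mp hz2 with rfl | rfl
      · exact zero_mem _
      · exact absurd hz1 hw
    have hw0 : w ≠ 0 := fun h => hw (h ▸ zero_mem _)
    have h := Submodule.finrank_sup_add_finrank_inf_eq (A.Wb A.x0) (Submodule.span (ZMod 2) {w})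
    rw [hinf, finrank_bot, add_zero, finrank_span_singleton hw0] at h
    exact h
  have hb : A.b + 1 ≤ A.dim := hW' ▸ Submodule.finrank_le W'
  have h2 := Set.ncard_le_ncard hsub
  rw [A.D.ncard_class, hW'] at h2
  change _ ≤ 2 ^ (A.dim - (A.b + 1)) at h2
  have h3 : 2 ^ k * 2 ^ (A.dim - (A.b + 1)) < 2 ^ (A.dim - 1) := by
    rw [← pow_add]
    exact Nat.pow_lt_pow_right one_lt_two (by omega)
  have := Nat.mul_le_mul_left (2 ^ k) h2
  omega

theorem Wb_le_E (hf : A.g + 2 ≤ A.dim) {x : Q} (hx : x ≠ 0) : A.Wb x ≤ A.E x := by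
  have : Module.Finite (ZMod 2) Q := Module.Finite.of_finite
  suffices hw : A.w0 ∈ A.E A.x0 by
    refine Submodule.span_le.mpr ?_
    rintro w (⟨k, rfl, rfl⟩ | rfl)
    · exact A.E_smul hw k
    · exact A.self_mem_E _
  by_contra hw
  have hall : ∀ y, y ∈ A.Wb A.x0 := by
    intro y
    by_cases hy : y ∈ A.E A.x0
    · have h1 : y + A.w0 ∉ A.E A.x0 := fun h => hw (by
        have := (A.E A.x0).add_mem hy h
        rwa [← add_assoc, add_self_zero, zero_add] at this)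
      obtain ⟨k, hk, hky⟩ := A.outside_E hw h1
      have h2 : y + A.w0 ∈ A.Wb A.x0 := Submodule.subset_span (Or.inl ⟨k, hky, hk⟩)
      have := (A.Wb A.x0).add_mem h2 (Submodule.subset_span (Or.inl ⟨1, by simp, by simp⟩) :
        A.w0 ∈ A.Wb A.x0)
      rwa [add_assoc, add_self_zero, add_zero] at this
    · obtain ⟨k, hk, hky⟩ := A.outside_E hw hy
      exact Submodule.subset_span (Or.inl ⟨k, hky, hk⟩)
  obtain ⟨y, hyE, hy⟩ : ∃ y ∈ A.E A.x0, y ∉ Submodule.span (ZMod 2) {A.x0} := by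
    by_contra hno
    push Not at hno
    have h1 := Submodule.finrank_mono (R := ZMod 2) (show A.E A.x0 ≤ _ from hno)
    rw [finrank_span_singleton A.hx0] at h1
    have := A.finrank_E A.hx0
    omega
  obtain ⟨k, rfl, hk⟩ := ((A.mem_Wb A.hx0).mp (hall y)).resolve_left hy
  refine hw ((A.E_smul_iff k).mp ?_)
  rwa [hk]

theorem E_symm {x y : Q} (hx : x ≠ 0) (hy : y ≠ 0) : y ∈ A.E x ↔ x ∈ A.E y := by
  suffices key : ∀ y : Q, y ∉ A.E A.x0 → A.x0 ∉ A.E y by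
    have h : ∀ x y : Q, x ≠ 0 → y ∉ A.E x → x ∉ A.E y := by
      intro x y hx hy
      obtain ⟨g, -, rfl⟩ := A.trans A.x0 x A.hx0 hx
      rw [← rho_cancel_inv ρ g y, A.E_smul_iff] at hy ⊢
      exact key _ hy
    exact ⟨not_imp_not.mp (h y x hy), not_imp_not.mp (h x y hx)⟩
  classical
  have := Fintype.ofFinite Q
  have := Fintype.ofFinite P
  set V : Finset Q := Finset.univ.filter fun z => z ≠ 0
  have hout : ∀ x ∈ V, ({z ∈ V | z ∉ A.E x}).card = 2 ^ A.dim - 2 ^ (A.dim - A.g) := by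
    intro x hx
    simp only [V, Finset.mem_filter, Finset.mem_univ, true_and] at hx
    have hset : (({z ∈ V | z ∉ A.E x} : Finset Q) : Set Q) = (A.E x : Set Q)ᶜ := by
      ext z
      simp only [V, Finset.coe_filter, Finset.mem_filter, Finset.mem_univ, true_and,
        Set.mem_setOf_eq, Set.mem_compl_iff, SetLike.mem_coe]
      exact ⟨fun h => h.2, fun h => ⟨fun h0 => h (h0 ▸ zero_mem _), h⟩⟩
    rw [← Set.ncard_coe_finset, hset, Set.ncard_compl, card_eq_two_pow]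
    congr 1
    rw [← Nat.card_coe_set_eq]
    show Nat.card (A.E x) = _
    rw [card_eq_two_pow]
    congr 1
    have := A.finrank_E hx
    omega
  set c := ({z ∈ V | A.x0 ∉ A.E z}).card with hcdef
  have hin : ∀ x ∈ V, ({z ∈ V | x ∉ A.E z}).card = c := by
    intro x hx
    simp only [V, Finset.mem_filter, Finset.mem_univ, true_and] at hx
    obtain ⟨g, -, rfl⟩ := A.trans A.x0 x A.hx0 hx
    refine (Finset.card_nbij' (fun z => ρ g z) (fun z => ρ g⁻¹ z) ?_ ?_ ?_ ?_).symm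
    · intro z hz
      simp only [V, Finset.coe_filter, Finset.mem_filter, Finset.mem_univ, true_and,
        Set.mem_setOf_eq] at hz ⊢
      exact ⟨rho_ne_zero hz.1 g, fun h => hz.2 ((A.E_smul_iff g).mp h)⟩
    · intro z hz
      simp only [V, Finset.coe_filter, Finset.mem_filter, Finset.mem_univ, true_and,
        Set.mem_setOf_eq] at hz ⊢
      refine ⟨rho_ne_zero hz.1 g⁻¹, fun h => hz.2 ?_⟩
      have := A.E_smul h g
      rwa [rho_cancel_inv] at this
    · exact fun z _ => rho_inv_cancel ρ g z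
    · exact fun z _ => rho_cancel_inv ρ g z
  have hx0V : A.x0 ∈ V := by simp [V, A.hx0]
  have hbip := Finset.sum_card_bipartiteAbove_eq_sum_card_bipartiteBelow (s := V) (t := V)
    (fun x z => z ∉ A.E x)
  simp only [Finset.bipartiteAbove, Finset.bipartiteBelow] at hbip
  rw [Finset.sum_congr rfl hout, Finset.sum_congr rfl hin, Finset.sum_const, Finset.sum_const,
    smul_eq_mul, smul_eq_mul] at hbip
  have hc := Nat.eq_of_mul_eq_mul_left (Finset.card_pos.mpr ⟨_, hx0V⟩) hbip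
  by_contra hno
  push Not at hno
  obtain ⟨y1, hy1, hy1'⟩ := hno
  have hsub : {z ∈ V | A.x0 ∉ A.E z} ⊆ {z ∈ V | z ∈ A.E A.x0} := by
    intro z hz
    simp only [Finset.mem_filter] at hz ⊢
    refine ⟨hz.1, by_contra fun hzE => ?_⟩
    obtain ⟨k, hk, rfl⟩ := A.outside_E hzE hy1
    refine hz.2 ((A.E_smul_iff k).mp ?_)
    rw [mem_fixer ρ |>.mp hk]
    exact hy1'
  have h1 := Finset.card_le_card hsub
  have h2 : ({z ∈ V | z ∈ A.E A.x0}).card + ({z ∈ V | z ∉ A.E A.x0}).card = V.card :=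
    Finset.card_filter_add_card_filter_not _
  rw [hout _ hx0V] at h2
  have hV : V.card = 2 ^ A.dim - 1 := by
    have : (V : Set Q) = {z | z ≠ 0} := by ext; simp [V]
    rw [← Set.ncard_coe_finset, this, ncard_nonzero]
  have h3 : 2 * 2 ^ (A.dim - A.g) ≤ 2 ^ A.dim := by
    rw [← pow_succ']
    refine Nat.pow_le_pow_right two_pos ?_
    have := A.g_pos
    have := A.finrank_E A.hx0
    omega
  have h4 := Nat.one_le_two_pow (n := A.dim - A.g)
  omega

end Anti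

end Cfsg.Agent.Lib.SingerTrans
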