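import Mathlib

/-!
Orbit lemmas for finite `ZMod 2`-representations with a perfect invariant pairing.
-/

namespace Cfsg.Agent.Lib.SingerTrans

variable {G : Type*} [Group G] {Q P : Type*} [AddCommGroup Q] [Module (ZMod 2) Q]
  [AddCommGroup P] [Module (ZMod 2) P]

/-- Orbit of a vector under a subgroup. -/
def orb (ρ : Representation (ZMod 2) G Q) (K : Subgroup G) (x : Q) : Set Q :=
  {y | ∃ g ∈ K, ρ g x = y}

/-- Stabiliser of a vector. -/
def fixer (ρ : Representation (ZMod 2) G Q) (x : Q) : Subgroup G where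
  carrier := {g | ρ g x = x}
  one_mem' := by simp
  mul_mem' := by
    intro a b (ha : ρ a x = x) (hb : ρ b x = x)
    show ρ (a * b) x = x
    rw [map_mul, Module.End.mul_apply, hb, ha]
  inv_mem' := by
    intro a (ha : ρ a x = x)
    show ρ a⁻¹ x = x
    conv_lhs => rw [← ha]
    rw [← Module.End.mul_apply, ← map_mul, inv_mul_cancel, map_one, Module.End.one_apply]

variable (ρ : Representation (ZMod 2) G Q)

theorem mem_fixer {g : G} {x : Q} : g ∈ fixer ρ x ↔ ρ g x = x := Iff.rfl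

theorem rho_mul (a b : G) (x : Q) : ρ (a * b) x = ρ a (ρ b x) := by
  rw [map_mul, Module.End.mul_apply]

theorem rho_inv_cancel (g : G) (x : Q) : ρ g⁻¹ (ρ g x) = x := by
  rw [← rho_mul, inv_mul_cancel, map_one, Module.End.one_apply]

theorem rho_cancel_inv (g : G) (x : Q) : ρ g (ρ g⁻¹ x) = x := by
  rw [← rho_mul, mul_inv_cancel, map_one, Module.End.one_apply]

theorem rho_injective (g : G) : Function.Injective (ρ g) :=
  fun x y h => by rw [← rho_inv_cancel ρ g x, h, rho_inv_cancel]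

theorem mem_orb_self (K : Subgroup G) (x : Q) : x ∈ orb ρ K x := ⟨1, K.one_mem, by simp⟩

theorem orb_mono {K K' : Subgroup G} (h : K ≤ K') (x : Q) : orb ρ K x ⊆ orb ρ K' x := by
  rintro y ⟨g, hg, rfl⟩
  exact ⟨g, h hg, rfl⟩

theorem orb_smul {K : Subgroup G} {g : G} (hg : g ∈ K) {x y : Q} (hy : y ∈ orb ρ K x) :
    ρ g y ∈ orb ρ K x := by
  obtain ⟨k, hk, rfl⟩ := hy
  exact ⟨g * k, K.mul_mem hg hk, rho_mul ρ g k x⟩

theorem orb_symm {K : Subgroup G} {x y : Q} (hy : y ∈ orb ρ K x) : x ∈ orb ρ K y := by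
  obtain ⟨k, hk, rfl⟩ := hy
  exact ⟨k⁻¹, K.inv_mem hk, rho_inv_cancel ρ k x⟩

theorem orb_trans {K : Subgroup G} {x y z : Q} (hy : y ∈ orb ρ K x) (hz : z ∈ orb ρ K y) :
    z ∈ orb ρ K x := by
  obtain ⟨k, hk, rfl⟩ := hz
  exact orb_smul ρ hk hy

theorem orb_subset {K : Subgroup G} {x : Q} {X : Set Q} (hx : x ∈ X)
    (hX : ∀ g ∈ K, ∀ y ∈ X, ρ g y ∈ X) : orb ρ K x ⊆ X := by
  rintro y ⟨g, hg, rfl⟩
  exact hX g hg x hx

theorem orb_ncard_mul [Finite G] (K : Subgroup G) (x : Q) :
    (orb ρ K x).ncard * Nat.card ↥(K ⊓ fixer ρ x) = Nat.card K := by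
  letI : MulAction K Q :=
    { smul := fun k y => ρ (k : G) y
      one_smul := fun y => by
        show ρ ((1 : K) : G) y = y
        simp
      mul_smul := fun a b y => rho_mul ρ a b y }
  have horb : MulAction.orbit K x = orb ρ K x := by
    ext y
    constructor
    · rintro ⟨k, rfl⟩
      exact ⟨k, k.2, rfl⟩
    · rintro ⟨g, hg, rfl⟩
      exact ⟨⟨g, hg⟩, rfl⟩
  have hst : MulAction.stabilizer K x = (K ⊓ fixer ρ x).subgroupOf K := by
    ext k
    simp [Subgroup.mem_subgroupOf, mem_fixer]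
    rfl
  have := (MulAction.stabilizer K x).index_mul_card
  rw [MulAction.index_stabilizer, horb, hst,
    Nat.card_congr (Subgroup.subgroupOfEquivOfLe inf_le_left).toEquiv] at this
  exact this

theorem orb_ncard_pos [Finite G] (K : Subgroup G) (x : Q) : 0 < (orb ρ K x).ncard := by
  have h := orb_ncard_mul ρ K x
  rcases Nat.eq_zero_or_pos (orb ρ K x).ncard with h0 | h0
  · rw [h0, zero_mul] at h
    exact absurd h.symm Nat.card_pos.ne'
  · exact h0

/-- A `2`-subgroup `T` of `K` whose order is within `2 ^ a` of a bound for the `2`-parts has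
orbits of size at least `2 ^ (s - a)` inside any `K`-orbit of size `2 ^ s`. -/
theorem orbit_lower [Finite G] {K T : Subgroup G} (hTK : T ≤ K) (hT : IsPGroup 2 T) {N a : ℕ}
    (hN : ∀ m, 2 ^ m ∣ Nat.card K → 2 ^ m ≤ N) (hTN : N ≤ Nat.card T * 2 ^ a) {x : Q} {s : ℕ}
    (hs : 2 ^ s ∣ (orb ρ K x).ncard) : 2 ^ s ≤ 2 ^ a * (orb ρ T x).ncard := by
  obtain ⟨t, ht⟩ := (hT.to_le (inf_le_left : T ⊓ fixer ρ x ≤ T)).exists_card_eq
  have hd : 2 ^ t ∣ Nat.card ↥(K ⊓ fixer ρ x) :=
    ht ▸ Subgroup.card_dvd_of_le (inf_le_inf_right _ hTK)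
  have h1 : 2 ^ (s + t) ∣ Nat.card K := by
    rw [← orb_ncard_mul ρ K x, pow_add]
    exact Nat.mul_dvd_mul hs hd
  have h2 := (hN _ h1).trans hTN
  rw [← orb_ncard_mul ρ T x, ht, pow_add] at h2
  refine Nat.le_of_mul_le_mul_right ?_ (Nat.two_pow_pos t)
  calc 2 ^ s * 2 ^ t ≤ (orb ρ T x).ncard * 2 ^ t * 2 ^ a := h2
    _ = 2 ^ a * (orb ρ T x).ncard * 2 ^ t := by ring

theorem orb_ncard_pow [Finite G] {T : Subgroup G} (hT : IsPGroup 2 T) (x : Q) :
    ∃ a, (orb ρ T x).ncard = 2 ^ a := by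
  obtain ⟨t, ht⟩ := hT.exists_card_eq
  have h : (orb ρ T x).ncard ∣ 2 ^ t := ⟨_, (ht ▸ (orb_ncard_mul ρ T x)).symm⟩
  obtain ⟨a, -, ha⟩ := (Nat.dvd_prime_pow Nat.prime_two).mp h
  exact ⟨a, ha⟩

theorem exists_fixed [Finite G] [Finite Q] {T : Subgroup G} (hT : IsPGroup 2 T) {X : Set Q}
    (hX : ∀ g ∈ T, ∀ y ∈ X, ρ g y ∈ X) (hodd : Odd X.ncard) :
    ∃ x ∈ X, ∀ g ∈ T, ρ g x = x := by
  letI : MulAction T X :=
    { smul := fun k y => ⟨ρ (k : G) (y : Q), hX _ k.2 _ y.2⟩
      one_smul := fun y => Subtype.ext (by show ρ ((1 : T) : G) (y : Q) = y; simp)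
      mul_smul := fun a b y => Subtype.ext (rho_mul ρ a b y) }
  have : Fact (Nat.Prime 2) := ⟨Nat.prime_two⟩
  obtain ⟨y, hy⟩ := hT.nonempty_fixed_point_of_prime_not_dvd_card X
    (by rw [Nat.card_coe_set_eq]; exact hodd.not_two_dvd_nat)
  exact ⟨y, y.2, fun g hg => congrArg Subtype.val (hy ⟨g, hg⟩)⟩

/-- `T` of index `2 ^ a` in a Sylow subgroup, via the orbit of a vector. -/
theorem stab_card [Finite G] {T : Subgroup G} {x : Q} {a : ℕ} (h : (orb ρ T x).ncard ≤ 2 ^ a) :
    Nat.card T ≤ Nat.card ↥(T ⊓ fixer ρ x) * 2 ^ a := by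
  rw [← orb_ncard_mul ρ T x, mul_comm (Nat.card _)]
  exact Nat.mul_le_mul_right _ h

/-- The sign character of `ZMod 2`. -/
def sgn (t : ZMod 2) : ℤ := if t = 0 then 1 else -1

theorem sgn_add : ∀ a b : ZMod 2, sgn (a + b) = sgn a * sgn b := by decide

theorem sgn_ne_zero : ∀ a : ZMod 2, sgn a ≠ 0 := by decide

theorem zmod_two_cases : ∀ a : ZMod 2, a = 0 ∨ a = 1 := by decide

theorem add_self_zero (x : Q) : x + x = 0 := by
  have : ((1 : ZMod 2) + 1) • x = 0 := by rw [show (1 : ZMod 2) + 1 = 0 from by decide, zero_smul]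
  rwa [add_smul, one_smul] at this

theorem neg_eq (x : Q) : -x = x := neg_eq_of_add_eq_zero_left (add_self_zero x)

theorem add_eq_zero_iff' {x y : Q} : x + y = 0 ↔ x = y := by
  rw [add_eq_zero_iff_eq_neg, neg_eq]

theorem mem_span_single {x y : Q} :
    y ∈ Submodule.span (ZMod 2) {x} ↔ y = 0 ∨ y = x := by
  rw [Submodule.mem_span_singleton]
  constructor
  · rintro ⟨a, rfl⟩
    rcases zmod_two_cases a with rfl | rfl <;> simp
  · rintro (rfl | rfl)
    · exact ⟨0, zero_smul _ _⟩
    · exact ⟨1, one_smul _ _⟩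

theorem mem_span_pair' {x y z : Q} :
    z ∈ Submodule.span (ZMod 2) {x, y} ↔ z = 0 ∨ z = x ∨ z = y ∨ z = x + y := by
  rw [Submodule.mem_span_pair]
  constructor
  · rintro ⟨a, b, rfl⟩
    rcases zmod_two_cases a with rfl | rfl <;> rcases zmod_two_cases b with rfl | rfl <;> simp
  · rintro (rfl | rfl | rfl | rfl)
    · exact ⟨0, 0, by simp⟩
    · exact ⟨1, 0, by simp⟩
    · exact ⟨0, 1, by simp⟩
    · exact ⟨1, 1, by simp⟩

/-- A perfect invariant pairing. -/
structure Pair (σ : Representation (ZMod 2) G P) (ρ : Representation (ZMod 2) G Q) where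
  β : P →ₗ[ZMod 2] Q →ₗ[ZMod 2] ZMod 2
  inv : ∀ g p q, β (σ g p) (ρ g q) = β p q
  left : ∀ p, (∀ q, β p q = 0) → p = 0
  right : ∀ q, (∀ p, β p q = 0) → q = 0

namespace Pair

variable {ρ} {σ : Representation (ZMod 2) G P} (D : Pair σ ρ)

/-- Interchange the two sides. -/
def swap : Pair ρ σ where
  β := D.β.flip
  inv g q p := D.inv g p q
  left := D.right
  right := D.left

theorem inv_left (g : G) (p : P) (q : Q) : D.β (σ g p) q = D.β p (ρ g⁻¹ q) := by
  conv_lhs => rw [← rho_cancel_inv ρ g q]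
  rw [D.inv]

variable [Finite P] [Finite Q]

include D in
theorem finrank_eq : Module.finrank (ZMod 2) P = Module.finrank (ZMod 2) Q := by
  have : Module.Finite (ZMod 2) P := Module.Finite.of_finite
  have : Module.Finite (ZMod 2) Q := Module.Finite.of_finite
  have h1 := LinearMap.finrank_le_finrank_of_injective (f := D.β)
    ((injective_iff_map_eq_zero D.β).mpr fun p hp => D.left p fun q => by rw [hp]; rfl)
  have h2 := LinearMap.finrank_le_finrank_of_injective (f := D.β.flip)
    ((injective_iff_map_eq_zero D.β.flip).mpr fun q hq => D.right q fun p => by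
      have := LinearMap.congr_fun hq p
      simpa using this)
  have h3 : Module.finrank (ZMod 2) (Q →ₗ[ZMod 2] ZMod 2) = Module.finrank (ZMod 2) Q :=
    Subspace.dual_finrank_eq
  have h4 : Module.finrank (ZMod 2) (P →ₗ[ZMod 2] ZMod 2) = Module.finrank (ZMod 2) P :=
    Subspace.dual_finrank_eq
  omega

theorem surj (f : Q →ₗ[ZMod 2] ZMod 2) : ∃ p, D.β p = f := by
  have : Module.Finite (ZMod 2) P := Module.Finite.of_finite
  have : Module.Finite (ZMod 2) Q := Module.Finite.of_finite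
  have hinj : Function.Injective D.β :=
    (injective_iff_map_eq_zero D.β).mpr fun p hp => D.left p fun q => by rw [hp]; rfl
  exact (LinearMap.injective_iff_surjective_of_finrank_eq_finrank
    (by rw [D.finrank_eq]; exact Subspace.dual_finrank_eq.symm)).mp hinj f

/-- A covector vanishing on `W` and taking value one outside it. -/
theorem exists_sep {W : Submodule (ZMod 2) Q} {z : Q} (hz : z ∉ W) :
    ∃ p, (∀ w ∈ W, D.β p w = 0) ∧ D.β p z = 1 := by
  obtain ⟨f, hfz, hfW⟩ := W.exists_dual_map_eq_bot_of_notMem hz inferInstance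
  obtain ⟨p, hp⟩ := D.surj f
  refine ⟨p, fun w hw => ?_, ?_⟩
  · rw [hp]
    have : f w ∈ W.map f := Submodule.mem_map_of_mem hw
    rwa [hfW, Submodule.mem_bot] at this
  · rw [hp]
    exact (zmod_two_cases (f z)).resolve_left hfz

theorem exists_one {z : Q} (hz : z ≠ 0) : ∃ p, D.β p z = 1 := by
  obtain ⟨p, -, hp⟩ := D.exists_sep (W := ⊥) (by simpa using hz)
  exact ⟨p, hp⟩

/-- Vectors of `P` killing `W`. -/
def ann (W : Submodule (ZMod 2) Q) : Submodule (ZMod 2) P :=
  LinearMap.ker ((LinearMap.lcomp (ZMod 2) (ZMod 2) W.subtype).comp D.β)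

omit [Finite P] [Finite Q] in
theorem mem_ann {W : Submodule (ZMod 2) Q} {p : P} :
    p ∈ D.ann W ↔ ∀ w ∈ W, D.β p w = 0 := by
  simp [ann, LinearMap.ext_iff]

theorem finrank_ann (W : Submodule (ZMod 2) Q) :
    Module.finrank (ZMod 2) (D.ann W) + Module.finrank (ZMod 2) W =
      Module.finrank (ZMod 2) Q := by
  have : Module.Finite (ZMod 2) P := Module.Finite.of_finite
  have : Module.Finite (ZMod 2) Q := Module.Finite.of_finite
  let r := (LinearMap.lcomp (ZMod 2) (ZMod 2) W.subtype).comp D.β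
  have hs : Function.Surjective r := fun f => by
    obtain ⟨F, hF⟩ := LinearMap.exists_extend f
    obtain ⟨p, hp⟩ := D.surj F
    refine ⟨p, ?_⟩
    show (D.β p).comp W.subtype = f
    rw [hp, hF]
  have h := r.finrank_range_add_finrank_ker
  rw [LinearMap.range_eq_top.mpr hs, finrank_top] at h
  have h3 : Module.finrank (ZMod 2) (W →ₗ[ZMod 2] ZMod 2) = Module.finrank (ZMod 2) W :=
    Subspace.dual_finrank_eq
  rw [h3, D.finrank_eq] at h
  show Module.finrank (ZMod 2) (LinearMap.ker r) + _ = _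
  omega

theorem mem_of_ann {W : Submodule (ZMod 2) Q} {z : Q} (h : ∀ p ∈ D.ann W, D.β p z = 0) :
    z ∈ W := by
  by_contra hz
  obtain ⟨p, hp, hpz⟩ := D.exists_sep hz
  rw [h p (D.mem_ann.mpr hp)] at hpz
  exact zero_ne_one hpz

theorem sum_sgn [Fintype P] [DecidableEq Q] (q : Q) :
    ∑ p : P, sgn (D.β p q) = if q = 0 then (Fintype.card P : ℤ) else 0 := by
  by_cases hq : q = 0
  · simp [hq, sgn]
  · rw [if_neg hq]
    obtain ⟨p0, hp0⟩ := D.exists_one hq
    have h := Equiv.sum_comp (Equiv.addRight p0) (fun p => sgn (D.β p q))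
    simp only [Equiv.coe_addRight, map_add, LinearMap.add_apply, sgn_add, hp0] at h
    rw [← Finset.sum_mul] at h
    rw [show sgn 1 = -1 from by decide] at h
    linarith

theorem indicator [Fintype P] [DecidableEq Q] (S : Finset Q) (z : Q) :
    ∑ p : P, (∑ y ∈ S, sgn (D.β p y)) * sgn (D.β p z) =
      if z ∈ S then (Fintype.card P : ℤ) else 0 := by
  simp_rw [Finset.sum_mul, ← sgn_add, ← map_add]
  rw [Finset.sum_comm]
  simp_rw [D.sum_sgn, add_eq_zero_iff']
  simp

/-- If `K` is transitive on the classes, given values on `M`, of vectors outside a subspace `L`,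
it is transitive on each class of covectors outside `M` with given restriction to `L`. -/
theorem class_transitive' [Finite G] (K : Subgroup G) (L : Submodule (ZMod 2) Q)
    (M : Submodule (ZMod 2) P)
    (htr : ∀ y y' : Q, y ∉ L → y' ∉ L → (∀ m ∈ M, D.β m y = D.β m y') → y' ∈ orb ρ K y)
    {φ φ' : P} (hφ : φ ∉ M) (hφ' : φ' ∉ M) (hres : ∀ l ∈ L, D.β φ l = D.β φ' l) :
    φ' ∈ orb σ K φ := by
  classical
  have := Fintype.ofFinite P
  have := Fintype.ofFinite Q
  set S : Finset P := (Set.toFinite (orb σ K φ)).toFinset with hS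
  set f : Q → ℤ := fun y => ∑ ψ ∈ S, sgn (D.β ψ y) with hf
  have hfinv : ∀ g ∈ K, ∀ y, f (ρ g y) = f y := by
    intro g hg y
    refine (Finset.sum_nbij' (fun ψ => σ g ψ) (fun ψ => σ g⁻¹ ψ) ?_ ?_ ?_ ?_ ?_).symm
    · intro ψ hψ
      simp only [hS, Set.Finite.coe_toFinset, Finset.mem_coe, Set.Finite.mem_toFinset] at hψ ⊢
      exact orb_smul σ hg hψ
    · intro ψ hψ
      simp only [hS, Set.Finite.coe_toFinset, Finset.mem_coe, Set.Finite.mem_toFinset] at hψ ⊢
      exact orb_smul σ (K.inv_mem hg) hψ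
    · intro ψ _
      exact rho_inv_cancel σ g ψ
    · intro ψ _
      exact rho_cancel_inv σ g ψ
    · intro ψ _
      rw [D.inv]
  let R : Q → Prop := fun y => ∃ y', y' ∉ L ∧ ∀ m ∈ M, D.β m y' = D.β m y
  let f' : Q → ℤ := fun y => if h : R y then f h.choose else 0
  have hf' : ∀ y, y ∉ L → f' y = f y := by
    intro y hy
    have h : R y := ⟨y, hy, fun _ _ => rfl⟩
    simp only [f', dif_pos h]
    obtain ⟨g, hg, hgy⟩ := htr y h.choose hy h.choose_spec.1
      fun m hm => (h.choose_spec.2 m hm).symm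
    rw [← hgy, hfinv g hg]
  have hzero : ∀ χ : P, χ ∉ M → ∑ y : Q, f' y * sgn (D.β χ y) = 0 := by
    intro χ hχ
    obtain ⟨y1, hy1, hy1χ⟩ := D.swap.exists_sep hχ
    change ∀ m ∈ M, D.β m y1 = 0 at hy1
    change D.β χ y1 = 1 at hy1χ
    have hper : ∀ y, f' (y + y1) = f' y := by
      intro y
      have hR : ∀ y', (∀ m ∈ M, D.β m y' = D.β m (y + y1)) ↔ (∀ m ∈ M, D.β m y' = D.β m y) :=
        fun y' => forall₂_congr fun m hm => by rw [map_add, hy1 m hm, add_zero]
      by_cases h : R y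
      · have h2 : R (y + y1) := ⟨h.choose, h.choose_spec.1, (hR _).mpr h.choose_spec.2⟩
        simp only [f', dif_pos h, dif_pos h2]
        obtain ⟨g, hg, hgy⟩ := htr h2.choose h.choose h2.choose_spec.1 h.choose_spec.1
          fun m hm => ((hR _).mp h2.choose_spec.2 m hm).trans (h.choose_spec.2 m hm).symm
        rw [← hgy, hfinv g hg]
      · have h2 : ¬ R (y + y1) := fun ⟨z, hz, hz'⟩ => h ⟨z, hz, (hR z).mp hz'⟩
        simp only [f', dif_neg h, dif_neg h2]
    have h := Equiv.sum_comp (Equiv.addRight y1) (fun y => f' y * sgn (D.β χ y))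
    simp only [Equiv.coe_addRight, hper, map_add, sgn_add, hy1χ, show sgn 1 = -1 from by decide,
      mul_neg, mul_one, Finset.sum_neg_distrib] at h
    linarith
  have key : ∀ χ : P, ∑ y : Q, f y * sgn (D.β χ y) =
      if χ ∈ S then (Fintype.card Q : ℤ) else 0 := fun χ => D.swap.indicator S χ
  have hdiff : ∑ y : Q, f y * (sgn (D.β φ y) - sgn (D.β φ' y)) = 0 := by
    have hpt : ∀ y : Q, f y * (sgn (D.β φ y) - sgn (D.β φ' y)) =
        f' y * (sgn (D.β φ y) - sgn (D.β φ' y)) := by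
      intro y
      by_cases hy : y ∈ L
      · rw [hres y hy, sub_self, mul_zero, mul_zero]
      · rw [hf' y hy]
    rw [Finset.sum_congr rfl fun y _ => hpt y]
    simp only [mul_sub, Finset.sum_sub_distrib, hzero φ hφ, hzero φ' hφ', sub_zero]
  simp only [mul_sub, Finset.sum_sub_distrib, key] at hdiff
  have hmem : φ ∈ S := by simp [hS, mem_orb_self]
  rw [if_pos hmem, sub_eq_zero] at hdiff
  by_contra hno
  rw [if_neg (by simpa [hS] using hno)] at hdiff
  exact Fintype.card_ne_zero (Nat.cast_eq_zero.mp hdiff)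

/-- If `K` is transitive outside a subspace `L`, it is transitive on each class of nonzero
covectors with given restriction to `L`. -/
theorem class_transitive [Finite G] (K : Subgroup G) (L : Submodule (ZMod 2) Q)
    (htr : ∀ y y' : Q, y ∉ L → y' ∉ L → y' ∈ orb ρ K y)
    {φ φ' : P} (hφ : φ ≠ 0) (hφ' : φ' ≠ 0) (hres : ∀ l ∈ L, D.β φ l = D.β φ' l) :
    φ' ∈ orb σ K φ :=
  D.class_transitive' K L ⊥ (fun y y' hy hy' _ => htr y y' hy hy') (by simpa using hφ)
    (by simpa using hφ') hres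

/-- If `K` is transitive on every class of covectors nonzero at `a` with given restriction to
`L ∋ a`, then translation by `a` preserves the `K`-orbits outside `L`. -/
theorem coset_transitive [Finite G] (K : Subgroup G) (L : Submodule (ZMod 2) Q) {a : Q}
    (htr : ∀ φ φ' : P, D.β φ a = 1 → (∀ l ∈ L, D.β φ l = D.β φ' l) → φ' ∈ orb σ K φ)
    (ha : a ∈ L) {x : Q} (hx : x ∉ L) : x + a ∈ orb ρ K x := by
  classical
  have := Fintype.ofFinite P
  have := Fintype.ofFinite Q
  set S : Finset Q := (Set.toFinite (orb ρ K x)).toFinset with hS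
  set F : P → ℤ := fun φ => ∑ y ∈ S, sgn (D.β φ y) with hF
  have hFinv : ∀ g ∈ K, ∀ φ, F (σ g φ) = F φ := by
    intro g hg φ
    refine (Finset.sum_nbij' (fun y => ρ g y) (fun y => ρ g⁻¹ y) ?_ ?_ ?_ ?_ ?_).symm
    · intro ψ hψ
      simp only [hS, Set.Finite.coe_toFinset, Finset.mem_coe, Set.Finite.mem_toFinset] at hψ ⊢
      exact orb_smul ρ hg hψ
    · intro ψ hψ
      simp only [hS, Set.Finite.coe_toFinset, Finset.mem_coe, Set.Finite.mem_toFinset] at hψ ⊢
      exact orb_smul ρ (K.inv_mem hg) hψ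
    · intro ψ _
      exact rho_inv_cancel ρ g ψ
    · intro ψ _
      exact rho_cancel_inv ρ g ψ
    · intro ψ _
      rw [D.inv]
  obtain ⟨ψ0, hψ0, hψx⟩ := D.exists_sep hx
  set T : Finset P := Finset.univ.filter fun φ => D.β φ a = 1 with hT
  have hzero : ∑ φ ∈ T, F φ * sgn (D.β φ x) = 0 := by
    have h := Finset.sum_nbij' (s := T) (t := T) (f := fun φ => F φ * sgn (D.β φ x))
      (g := fun φ => -(F φ * sgn (D.β φ x))) (fun φ => φ + ψ0) (fun φ => φ + ψ0) ?_ ?_ ?_ ?_ ?_
    · rw [Finset.sum_neg_distrib] at h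
      linarith
    · intro φ hφ
      simp only [hT, Finset.coe_filter, Finset.mem_univ, true_and, Set.mem_setOf_eq,
        Finset.mem_filter] at hφ ⊢
      simp [hφ, hψ0 a ha]
    · intro φ hφ
      simp only [hT, Finset.coe_filter, Finset.mem_univ, true_and, Set.mem_setOf_eq,
        Finset.mem_filter] at hφ ⊢
      simp [hφ, hψ0 a ha]
    · intro φ _
      rw [add_assoc, add_self_zero, add_zero]
    · intro φ _
      rw [add_assoc, add_self_zero, add_zero]
    · intro φ hφ
      simp only [hT, Finset.mem_filter, Finset.mem_univ, true_and] at hφ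
      obtain ⟨g, hg, hgφ⟩ := htr φ (φ + ψ0) hφ fun l hl => by simp [hψ0 l hl]
      have hFe : F (φ + ψ0) = F φ := by rw [← hgφ, hFinv g hg]
      simp only [hFe, map_add, LinearMap.add_apply, sgn_add, hψx, show sgn 1 = -1 from by decide]
      ring
  have hd : ∑ φ : P, (F φ * sgn (D.β φ x) - F φ * sgn (D.β φ (x + a))) = 0 := by
    rw [← Finset.sum_subset (Finset.subset_univ T)]
    · refine (Finset.sum_congr rfl fun φ hφ => ?_).trans (b := ∑ φ ∈ T, 2 * (F φ * sgn (D.β φ x)))
        ?_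
      · simp only [hT, Finset.mem_filter, Finset.mem_univ, true_and] at hφ
        simp only [map_add, sgn_add, hφ, show sgn 1 = -1 from by decide]
        ring
      · rw [← Finset.mul_sum, hzero, mul_zero]
    · intro φ _ hφ
      simp only [hT, Finset.mem_filter, Finset.mem_univ, true_and] at hφ
      rw [map_add, (zmod_two_cases (D.β φ a)).resolve_right hφ, add_zero, sub_self]
  rw [Finset.sum_sub_distrib, D.indicator, D.indicator, sub_eq_zero,
    if_pos (by simp [hS, mem_orb_self])] at hd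
  by_contra hno
  rw [if_neg (by simpa [hS] using hno)] at hd
  exact Fintype.card_ne_zero (Nat.cast_eq_zero.mp hd)

theorem ncard_class (W : Submodule (ZMod 2) Q) (φ : P) :
    {ψ : P | ∀ w ∈ W, D.β ψ w = D.β φ w}.ncard =
      2 ^ (Module.finrank (ZMod 2) Q - Module.finrank (ZMod 2) W) := by
  have : Module.Finite (ZMod 2) P := Module.Finite.of_finite
  have hset : {ψ : P | ∀ w ∈ W, D.β ψ w = D.β φ w} = (fun a => a + φ) '' (D.ann W : Set P) := by
    ext ψ
    constructor
    · intro h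
      refine ⟨ψ + φ, ?_, ?_⟩
      · rw [SetLike.mem_coe, D.mem_ann]
        intro w hw
        rw [map_add, LinearMap.add_apply, h w hw, add_self_zero]
      · show ψ + φ + φ = ψ
        rw [add_assoc, add_self_zero, add_zero]
    · rintro ⟨a, ha, rfl⟩ w hw
      rw [SetLike.mem_coe, D.mem_ann] at ha
      simp [ha w hw]
  rw [hset, Set.ncard_image_of_injective _ (add_left_injective φ), ← Nat.card_coe_set_eq]
  show Nat.card (D.ann W) = _
  rw [Module.natCard_eq_pow_finrank (K := ZMod 2), Nat.card_zmod, ← D.finrank_ann W,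
    Nat.add_sub_cancel]

end Pair

/-- A representation of a subgroup on the quotient by an invariant subspace. -/
def quotRep (ρ : Representation (ZMod 2) G Q) (K : Subgroup G) (W : Submodule (ZMod 2) Q)
    (h : ∀ g ∈ K, ∀ w ∈ W, ρ g w ∈ W) : Representation (ZMod 2) K (Q ⧸ W) where
  toFun k := Submodule.mapQ W W (ρ (k : G)) (fun w hw => h _ k.2 w hw)
  map_one' := by
    apply Submodule.linearMap_qext
    ext x
    simp
  map_mul' a b := by
    apply Submodule.linearMap_qext
    ext x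
    simp

theorem quotRep_mk (ρ : Representation (ZMod 2) G Q) (K : Subgroup G) (W : Submodule (ZMod 2) Q)
    (h : ∀ g ∈ K, ∀ w ∈ W, ρ g w ∈ W) (k : K) (x : Q) :
    quotRep ρ K W h k (Submodule.Quotient.mk x) = Submodule.Quotient.mk (ρ (k : G) x) := rfl

/-- A representation of a subgroup on an invariant subspace. -/
def subRep (ρ : Representation (ZMod 2) G Q) (K : Subgroup G) (W : Submodule (ZMod 2) Q)
    (h : ∀ g ∈ K, ∀ w ∈ W, ρ g w ∈ W) : Representation (ZMod 2) K W where
  toFun k := (ρ (k : G)).restrict (fun w hw => h _ k.2 w hw)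
  map_one' := by
    ext x
    simp
  map_mul' a b := by
    ext x
    simp

theorem coe_subRep (ρ : Representation (ZMod 2) G Q) (K : Subgroup G) (W : Submodule (ZMod 2) Q)
    (h : ∀ g ∈ K, ∀ w ∈ W, ρ g w ∈ W) (k : K) (x : W) :
    ((subRep ρ K W h k x : W) : Q) = ρ (k : G) x := rfl

/-- The evaluation pairing with the dual representation. -/
def dualPair [Finite Q] (ρ : Representation (ZMod 2) G Q) : Pair ρ.dual ρ where
  β := LinearMap.id
  inv g p q := by
    show (ρ.dual g p) (ρ g q) = p q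
    rw [Representation.dual_apply]
    show p (ρ g⁻¹ (ρ g q)) = p q
    rw [rho_inv_cancel]
  left p hp := LinearMap.ext hp
  right q hq := by
    by_contra h
    obtain ⟨f, hf⟩ := Module.Projective.exists_dual_ne_zero (ZMod 2) h
    exact hf (hq f)

end Cfsg.Agent.Lib.SingerTrans
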