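import Mathlib

/-!
The commutant of an irreducible endomorphism of a finite `GF(2)`-space is a finite field; its
automorphisms form a group whose order is the dimension.
-/

namespace Cfsg.Agent.Lib.SingerTrans

variable {V : Type*} [AddCommGroup V] [Module (ZMod 2) V] [Finite V]

/-- An irreducible endomorphism. -/
structure IrredEnd (a : Module.End (ZMod 2) V) : Prop where
  nontrivial : ∃ v : V, v ≠ 0
  irred : ∀ W : Submodule (ZMod 2) V, (∀ w ∈ W, a w ∈ W) → W = ⊥ ∨ W = ⊤

namespace IrredEnd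

variable {a : Module.End (ZMod 2) V} (ha : IrredEnd a)

include ha

omit [Finite V] in
theorem eq_zero_of_apply {f : Module.End (ZMod 2) V}
    (hf : f ∈ Subalgebra.centralizer (ZMod 2) {a}) {v : V} (hv : v ≠ 0) (h : f v = 0) : f = 0 := by
  have hcomm : a * f = f * a := Subalgebra.mem_centralizer_iff (ZMod 2) |>.mp hf a rfl
  rcases ha.irred (LinearMap.ker f) (fun w hw => by
    rw [LinearMap.mem_ker] at hw ⊢
    have := LinearMap.congr_fun hcomm w
    simp only [Module.End.mul_apply] at this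
    rw [← this, hw, map_zero]) with h0 | h0
  · exact absurd ((Submodule.mem_bot _).mp (h0 ▸ (LinearMap.mem_ker.mpr h))) hv
  · exact LinearMap.ker_eq_top.mp h0

/-- Evaluation at a nonzero vector. -/
theorem eval_bijective {v : V} (hv : v ≠ 0) :
    Function.Bijective fun f : Subalgebra.centralizer (ZMod 2) {a} => (f : Module.End (ZMod 2) V) v := by
  refine ⟨fun f g h => Subtype.ext ?_, fun w => ?_⟩
  · refine sub_eq_zero.mp (ha.eq_zero_of_apply
      (Subalgebra.sub_mem _ f.2 g.2) hv ?_)
    simp only [LinearMap.sub_apply]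
    exact sub_eq_zero.mpr h
  · let e : Subalgebra.centralizer (ZMod 2) {a} →ₗ[ZMod 2] V :=
      (LinearMap.applyₗ (R := ZMod 2) (M := V) (M₂ := V) v).comp
        (Subalgebra.centralizer (ZMod 2) {a}).val.toLinearMap
    rcases ha.irred (LinearMap.range e) (fun w hw => by
      obtain ⟨f, rfl⟩ := hw
      refine ⟨⟨a * f, Subalgebra.mul_mem _ ?_ f.2⟩, rfl⟩
      exact Subalgebra.mem_centralizer_iff (ZMod 2) |>.mpr (by rintro g rfl; rfl)) with h | h
    · have : v ∈ LinearMap.range e := ⟨1, rfl⟩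
      rw [h, Submodule.mem_bot] at this
      exact absurd this hv
    · obtain ⟨f, hf⟩ := (h ▸ trivial : w ∈ LinearMap.range e)
      exact ⟨f, hf⟩

theorem card_centralizer :
    Nat.card (Subalgebra.centralizer (ZMod 2) {a}) = Nat.card V := by
  obtain ⟨v, hv⟩ := ha.nontrivial
  exact Nat.card_eq_of_bijective _ (ha.eval_bijective hv)

theorem finrank_centralizer :
    Module.finrank (ZMod 2) (Subalgebra.centralizer (ZMod 2) {a}) =
      Module.finrank (ZMod 2) V := by
  obtain ⟨v, hv⟩ := ha.nontrivial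
  exact (LinearEquiv.ofBijective ((LinearMap.applyₗ (R := ZMod 2) (M := V) (M₂ := V) v).comp
    (Subalgebra.centralizer (ZMod 2) {a}).val.toLinearMap) (ha.eval_bijective hv)).finrank_eq

omit [Finite V] in
theorem self_mem : a ∈ Subalgebra.centralizer (ZMod 2) {a} :=
  Subalgebra.mem_centralizer_iff (ZMod 2) |>.mpr (by rintro g rfl; rfl)

/-- The commutant is commutative. -/
theorem mul_comm_centralizer (f g : Subalgebra.centralizer (ZMod 2) {a}) : f * g = g * f := by
  obtain ⟨v, hv⟩ := ha.nontrivial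
  have hadj : ∀ w : V, ∃ p ∈ Algebra.adjoin (ZMod 2) {a}, p v = w := by
    let e : Algebra.adjoin (ZMod 2) {a} →ₗ[ZMod 2] V :=
      (LinearMap.applyₗ (R := ZMod 2) (M := V) (M₂ := V) v).comp
        (Algebra.adjoin (ZMod 2) {a}).val.toLinearMap
    rcases ha.irred (LinearMap.range e) (fun w hw => by
      obtain ⟨f, rfl⟩ := hw
      exact ⟨⟨a * f, Subalgebra.mul_mem _ (Algebra.self_mem_adjoin_singleton _ a) f.2⟩, rfl⟩)
      with h | h
    · intro w
      have : v ∈ LinearMap.range e := ⟨1, rfl⟩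
      rw [h, Submodule.mem_bot] at this
      exact absurd this hv
    · intro w
      obtain ⟨f, hf⟩ := (h ▸ trivial : w ∈ LinearMap.range e)
      exact ⟨f, f.2, hf⟩
  have hle : ∀ f : Subalgebra.centralizer (ZMod 2) {a},
      (f : Module.End (ZMod 2) V) ∈ Algebra.adjoin (ZMod 2) {a} := by
    intro f
    obtain ⟨p, hp, hpv⟩ := hadj ((f : Module.End (ZMod 2) V) v)
    have hpc : p ∈ Subalgebra.centralizer (ZMod 2) {a} :=
      Algebra.adjoin_le (by rintro g rfl; exact ha.self_mem) hp
    have h := (ha.eval_bijective hv).1 (a₁ := f) (a₂ := ⟨p, hpc⟩) hpv.symm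
    rw [h]
    exact hp
  have hgf : (g : Module.End (ZMod 2) V) ∈
      Subalgebra.centralizer (ZMod 2) {(f : Module.End (ZMod 2) V)} := by
    refine Algebra.adjoin_le ?_ (hle g)
    rintro x rfl
    refine Subalgebra.mem_centralizer_iff (ZMod 2) |>.mpr ?_
    rintro y rfl
    exact (Subalgebra.mem_centralizer_iff (ZMod 2) |>.mp f.2 _ rfl).symm
  exact Subtype.ext (Subalgebra.mem_centralizer_iff (ZMod 2) |>.mp hgf _ rfl)

/-- The automorphisms of the commutant are as many as the dimension. -/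
theorem card_aut :
    Nat.card (Subalgebra.centralizer (ZMod 2) {a} ≃ₐ[ZMod 2] Subalgebra.centralizer (ZMod 2) {a}) =
      Module.finrank (ZMod 2) V := by
  letI : CommRing (Subalgebra.centralizer (ZMod 2) {a}) :=
    { (Subalgebra.centralizer (ZMod 2) {a}).toRing with mul_comm := ha.mul_comm_centralizer }
  obtain ⟨v, hv⟩ := ha.nontrivial
  have : Finite (Module.End (ZMod 2) V) :=
    Finite.of_injective (fun f => (f : V → V)) DFunLike.coe_injective
  haveI : Nontrivial (Subalgebra.centralizer (ZMod 2) {a}) := ⟨0, 1, fun h => hv (by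
    have := congrArg (fun f : Subalgebra.centralizer (ZMod 2) {a} =>
      (f : Module.End (ZMod 2) V) v) h
    simpa using this.symm)⟩
  haveI : NoZeroDivisors (Subalgebra.centralizer (ZMod 2) {a}) := ⟨fun {f g} h => by
    rcases eq_or_ne ((g : Module.End (ZMod 2) V) v) 0 with h0 | h0
    · exact Or.inr (Subtype.ext (ha.eq_zero_of_apply g.2 hv h0))
    · refine Or.inl (Subtype.ext (ha.eq_zero_of_apply f.2 h0 ?_))
      exact LinearMap.congr_fun (congrArg Subtype.val h) v⟩
  haveI : IsDomain (Subalgebra.centralizer (ZMod 2) {a}) := NoZeroDivisors.to_isDomain _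
  letI : Field (Subalgebra.centralizer (ZMod 2) {a}) :=
    (Finite.isField_of_domain (Subalgebra.centralizer (ZMod 2) {a})).toField
  rw [IsGalois.card_aut_eq_finrank (ZMod 2) (Subalgebra.centralizer (ZMod 2) {a})]
  exact ha.finrank_centralizer

omit [Finite V] in
theorem conj (u : (Module.End (ZMod 2) V)ˣ) :
    IrredEnd ((u : Module.End (ZMod 2) V) * a * ((u⁻¹ : (Module.End (ZMod 2) V)ˣ) : Module.End (ZMod 2) V)) := by
  refine ⟨ha.nontrivial, fun W hW => ?_⟩
  have hinv : ∀ x, (((u⁻¹ : (Module.End (ZMod 2) V)ˣ) : Module.End (ZMod 2) V) : Module.End (ZMod 2) V) ((u : Module.End (ZMod 2) V) x) = x := fun x => by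
    rw [← Module.End.mul_apply, Units.inv_mul, Module.End.one_apply]
  have hinv' : ∀ x, (u : Module.End (ZMod 2) V) ((((u⁻¹ : (Module.End (ZMod 2) V)ˣ) : Module.End (ZMod 2) V) : Module.End (ZMod 2) V) x) = x := fun x => by
    rw [← Module.End.mul_apply, Units.mul_inv, Module.End.one_apply]
  rcases ha.irred (W.comap (u : Module.End (ZMod 2) V)) (fun w hw => by
    have := hW _ hw
    rwa [Module.End.mul_apply, Module.End.mul_apply, hinv] at this) with h | h
  · left
    rw [eq_bot_iff]
    intro w hw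
    have : (((u⁻¹ : (Module.End (ZMod 2) V)ˣ) : Module.End (ZMod 2) V) : Module.End (ZMod 2) V) w ∈ W.comap (u : Module.End (ZMod 2) V) := by
      rw [Submodule.mem_comap, hinv']; exact hw
    rw [h, Submodule.mem_bot] at this
    rw [Submodule.mem_bot, ← hinv' w, this, map_zero]
  · right
    rw [eq_top_iff]
    intro w _
    have : (((u⁻¹ : (Module.End (ZMod 2) V)ˣ) : Module.End (ZMod 2) V) : Module.End (ZMod 2) V) w ∈ W.comap (u : Module.End (ZMod 2) V) := h ▸ trivial
    rwa [Submodule.mem_comap, hinv'] at this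

theorem conj_mem (u : (Module.End (ZMod 2) V)ˣ)
    (hu : (u : Module.End (ZMod 2) V) * a * ((u⁻¹ : (Module.End (ZMod 2) V)ˣ) : Module.End (ZMod 2) V) ∈ Subalgebra.centralizer (ZMod 2) {a})
    {f : Module.End (ZMod 2) V} (hf : f ∈ Subalgebra.centralizer (ZMod 2) {a}) :
    (u : Module.End (ZMod 2) V) * f * ((u⁻¹ : (Module.End (ZMod 2) V)ˣ) : Module.End (ZMod 2) V) ∈ Subalgebra.centralizer (ZMod 2) {a} := by
  set a' := (u : Module.End (ZMod 2) V) * a * ((u⁻¹ : (Module.End (ZMod 2) V)ˣ) : Module.End (ZMod 2) V)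
  have : Finite (Module.End (ZMod 2) V) :=
    Finite.of_injective (fun f => (f : V → V)) DFunLike.coe_injective
  have hle : ((Subalgebra.centralizer (ZMod 2) {a} : Subalgebra (ZMod 2) (Module.End (ZMod 2) V)) :
      Set (Module.End (ZMod 2) V)) ⊆ Subalgebra.centralizer (ZMod 2) {a'} := by
    intro g hg
    refine Subalgebra.mem_centralizer_iff (ZMod 2) |>.mpr ?_
    rintro _ rfl
    exact congrArg Subtype.val (ha.mul_comm_centralizer ⟨a', hu⟩ ⟨g, hg⟩)
  have heq := Set.eq_of_subset_of_ncard_le hle (by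
    rw [← Nat.card_coe_set_eq, ← Nat.card_coe_set_eq]
    exact le_of_eq ((ha.conj u).card_centralizer.trans ha.card_centralizer.symm)) (Set.toFinite _)
  rw [← SetLike.mem_coe, heq, SetLike.mem_coe]
  refine Subalgebra.mem_centralizer_iff (ZMod 2) |>.mpr ?_
  rintro _ rfl
  have hcomm : a * f = f * a := Subalgebra.mem_centralizer_iff (ZMod 2) |>.mp hf a rfl
  calc a' * ((u : Module.End (ZMod 2) V) * f * ((u⁻¹ : (Module.End (ZMod 2) V)ˣ) : Module.End (ZMod 2) V))
      = (u : Module.End (ZMod 2) V) * a * (((u⁻¹ : (Module.End (ZMod 2) V)ˣ) : Module.End (ZMod 2) V) * ↑u) * f * ((u⁻¹ : (Module.End (ZMod 2) V)ˣ) : Module.End (ZMod 2) V) := by simp only [a', mul_assoc]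
    _ = (u : Module.End (ZMod 2) V) * (f * a) * ((u⁻¹ : (Module.End (ZMod 2) V)ˣ) : Module.End (ZMod 2) V) := by
        rw [Units.inv_mul, mul_one, mul_assoc (u : Module.End (ZMod 2) V) a f, hcomm]
    _ = (u : Module.End (ZMod 2) V) * f * ((u⁻¹ : (Module.End (ZMod 2) V)ˣ) : Module.End (ZMod 2) V) * a' := by
        simp only [a', mul_assoc, Units.inv_mul_cancel_left]

end IrredEnd

end Cfsg.Agent.Lib.SingerTrans
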