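import Cfsg.Agent.Lib.SingerTrans.Main

/-!
The equality case is impossible: a translation in the stabiliser of two nonperpendicular
components has to commute with an involution which exchanges two fixed vectors.
-/

namespace Cfsg.Agent.Lib.SingerTrans

variable {G : Type*} [Group G] [Finite G] {Q P : Type*} [AddCommGroup Q] [Module (ZMod 2) Q]
  [AddCommGroup P] [Module (ZMod 2) P] [Finite Q] [Finite P]
  {σ : Representation (ZMod 2) G P} {ρ : Representation (ZMod 2) G Q} {A : Anti σ ρ}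

namespace Anti.Big

variable (hA : A.Big)

/-- The projection onto the component of a point. -/
noncomputable def proj {x : Q} (hx : x ≠ 0) : Q →ₗ[ZMod 2] Q := (hA.exists_proj hx).choose

theorem proj_mem {x : Q} (hx : x ≠ 0) (z : Q) : hA.proj hx z ∈ A.Wb x :=
  (hA.exists_proj hx).choose_spec.1 z

theorem proj_spec {x : Q} (hx : x ≠ 0) {y : Q} (hy : y ∈ A.Wb x) (hy0 : y ≠ 0) {z : Q} :
    z ∈ A.E y ↔ hA.proj hx z ∈ Submodule.span (ZMod 2) {y} :=
  (hA.exists_proj hx).choose_spec.2 y hy hy0 z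

include hA in
theorem exists_third {x : Q} (hx : x ≠ 0) (u v : Q) :
    ∃ w ∈ A.Wb x, w ∉ Submodule.span (ZMod 2) {u, v} := by
  have : Module.Finite (ZMod 2) Q := Module.Finite.of_finite
  by_contra hno
  push Not at hno
  have h1 := Submodule.finrank_mono (R := ZMod 2) (show A.Wb x ≤ _ from hno)
  rw [A.finrank_Wb hx] at h1
  have hsplit : Submodule.span (ZMod 2) {u, v} =
      Submodule.span (ZMod 2) {u} ⊔ Submodule.span (ZMod 2) {v} := by
    rw [← Submodule.span_union]
    rfl
  have h2 := Submodule.finrank_add_le_finrank_add_finrank (Submodule.span (ZMod 2) {u})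
    (Submodule.span (ZMod 2) {v})
  rw [← hsplit] at h2
  have hu : Module.finrank (ZMod 2) (Submodule.span (ZMod 2) {u}) ≤ 1 :=
    (finrank_span_le_card ({u} : Set Q)).trans (by simp)
  have hv : Module.finrank (ZMod 2) (Submodule.span (ZMod 2) {v}) ≤ 1 :=
    (finrank_span_le_card ({v} : Set Q)).trans (by simp)
  have := hA.three
  have := hA.big
  omega

theorem proj_self {x c : Q} (hx : x ≠ 0) (hc : c ∈ A.Wb x) : hA.proj hx c = 0 := by
  by_contra h0
  obtain ⟨v, hv, hv'⟩ := hA.exists_third hx (hA.proj hx c) (hA.proj hx c)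
  have hv0 : v ≠ 0 := fun h => hv' (h ▸ zero_mem _)
  have hE : c ∈ A.E v := A.Wb_le_E hA.notTwo hv0 (by rw [hA.clique hx hv hv0]; exact hc)
  rcases mem_span_single.mp ((hA.proj_spec hx hv hv0).mp hE) with h | h
  · exact h0 h
  · exact hv' (Submodule.subset_span (Or.inl h.symm))

theorem link {x y v z : Q} (hx : x ≠ 0) (hy : y ≠ 0) (hv : v ∈ A.Wb x) (hz : z ∈ A.Wb y)
    (hv0 : v ≠ 0) (hz0 : z ≠ 0) :
    hA.proj hx z ∈ Submodule.span (ZMod 2) {v} ↔ hA.proj hy v ∈ Submodule.span (ZMod 2) {z} := by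
  rw [← hA.proj_spec hx hv hv0, ← hA.proj_spec hy hz hz0]
  exact A.E_symm hv0 hz0

theorem proj_inj {x y : Q} (hx : x ≠ 0) (hy : y ≠ 0) {z0 : Q} (hz0 : z0 ∈ A.Wb y)
    (h0 : hA.proj hx z0 ≠ 0) {z : Q} (hz : z ∈ A.Wb y) (hz' : hA.proj hx z = 0) : z = 0 := by
  by_contra hzne
  set v0 := hA.proj hx z0
  have hz0' : z0 ≠ 0 := fun h => h0 (by simp [v0, h])
  have hne : ∀ v ∈ A.Wb x, v ∉ Submodule.span (ZMod 2) {v0} → hA.proj hy v = z := by
    intro v hv hv'
    have hvne : v ≠ 0 := fun h => hv' (h ▸ zero_mem _)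
    have h1 : hA.proj hy v ∈ Submodule.span (ZMod 2) {z} :=
      (hA.link hx hy hv hz hvne hzne).mp (hz' ▸ zero_mem _)
    refine (mem_span_single.mp h1).resolve_left fun hzero => hv' ?_
    have h2 : v0 ∈ Submodule.span (ZMod 2) {v} :=
      (hA.link hx hy hv hz0 hvne hz0').mpr (hzero ▸ zero_mem _)
    rw [((mem_span_single.mp h2).resolve_left h0)]
    exact Submodule.mem_span_singleton_self v
  have hv0 : v0 ∈ A.Wb x := hA.proj_mem hx z0
  obtain ⟨v1, hv1, hv1'⟩ := hA.exists_third hx v0 v0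
  obtain ⟨v2, hv2, hv2'⟩ := hA.exists_third hx v0 v1
  have e1 := hne v1 hv1 fun h => hv1' (Submodule.span_mono (by simp) h)
  have e2 := hne v2 hv2 fun h => hv2' (Submodule.span_mono (by simp) h)
  have e3 := hne (v1 + v2) (add_mem hv1 hv2) fun h => hv2' (by
    have : v2 = (v1 + v2) + v1 := by rw [add_comm v1 v2, add_assoc, add_self_zero, add_zero]
    rw [this]
    exact add_mem (Submodule.span_mono (by simp) h) (Submodule.subset_span (by simp)))
  rw [map_add, e1, e2, add_self_zero] at e3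
  exact hzne e3.symm

theorem proj_ne {x y : Q} (hx : x ≠ 0) (hy : y ≠ 0) {z0 : Q} (hz0 : z0 ∈ A.Wb y)
    (h0 : hA.proj hx z0 ≠ 0) : hA.proj hy (hA.proj hx z0) ≠ 0 := by
  intro hcon
  set v0 := hA.proj hx z0
  have key : ∀ z ∈ A.Wb y, z ≠ 0 → hA.proj hx z = v0 := fun z hz hzne =>
    (mem_span_single.mp ((hA.link hx hy (hA.proj_mem hx z0) hz h0 hzne).mpr
      (hcon ▸ zero_mem _))).resolve_left fun h => hzne (hA.proj_inj hx hy hz0 h0 hz h)
  obtain ⟨z1, hz1, hz1'⟩ := hA.exists_third hy z0 z0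
  have hz1ne : z1 ≠ 0 := fun h => hz1' (h ▸ zero_mem _)
  have h3 : z0 + z1 ≠ 0 := fun h =>
    hz1' (by rw [← add_eq_zero_iff'.mp h]; exact Submodule.subset_span (by simp))
  have h4 := key _ (add_mem hz0 hz1) h3
  rw [map_add, key z1 hz1 hz1ne, add_self_zero] at h4
  exact h0 h4.symm

theorem proj_proj {x y : Q} (hx : x ≠ 0) (hy : y ≠ 0) {z0 : Q} (hz0 : z0 ∈ A.Wb y)
    (h0 : hA.proj hx z0 ≠ 0) {z : Q} (hz : z ∈ A.Wb y) : hA.proj hy (hA.proj hx z) = z := by
  by_cases hzne : z = 0
  · simp [hzne]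
  have hne : hA.proj hx z ≠ 0 := fun h => hzne (hA.proj_inj hx hy hz0 h0 hz h)
  exact (mem_span_single.mp ((hA.link hx hy (hA.proj_mem hx z) hz hne hzne).mp
    (Submodule.mem_span_singleton_self _))).resolve_left (hA.proj_ne hx hy hz hne)

theorem proj_equiv {x : Q} (hx : x ≠ 0) {g : G} (hg : A.Wb (ρ g x) = A.Wb x) (z : Q) :
    hA.proj hx (ρ g z) = ρ g (hA.proj hx z) := by
  have hmem : ρ g (hA.proj hx z) ∈ A.Wb x := hg ▸ A.mem_Wb_smul (hA.proj_mem hx z) g
  have key : ∀ y ∈ A.Wb x, y ≠ 0 → (hA.proj hx (ρ g z) ∈ Submodule.span (ZMod 2) {y} ↔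
      ρ g (hA.proj hx z) ∈ Submodule.span (ZMod 2) {y}) := by
    intro y hy hy0
    have hy' : ρ g⁻¹ y ∈ A.Wb x := by
      have := A.mem_Wb_smul (hg.symm ▸ hy : y ∈ A.Wb (ρ g x)) g⁻¹
      rwa [rho_inv_cancel] at this
    rw [← hA.proj_spec hx hy hy0]
    conv_lhs => rw [← rho_cancel_inv ρ g y, A.E_smul_iff,
      hA.proj_spec hx hy' (rho_ne_zero hy0 g⁻¹)]
    rw [mem_span_single, mem_span_single]
    constructor
    · rintro (h | h)
      · exact Or.inl (by rw [h, map_zero])
      · exact Or.inr (by rw [h, rho_cancel_inv])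
    · rintro (h | h)
      · exact Or.inl (rho_injective ρ g (h.trans (map_zero (ρ g)).symm))
      · exact Or.inr (rho_injective ρ g (h.trans (rho_cancel_inv ρ g y).symm))
  by_cases h0 : ρ g (hA.proj hx z) = 0
  · by_contra hne
    obtain ⟨v, hv, hv'⟩ := hA.exists_third hx (hA.proj hx (ρ g z)) (hA.proj hx (ρ g z))
    have := (key v hv fun h => hv' (h ▸ zero_mem _)).mpr (h0 ▸ zero_mem _)
    rcases mem_span_single.mp this with h | h
    · exact hne (h.trans h0.symm)
    · exact hv' (Submodule.subset_span (Or.inl h.symm))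
  · rcases mem_span_single.mp
      ((key _ hmem h0).mpr (Submodule.mem_span_singleton_self _)) with h | h
    · obtain ⟨v, hv, hv'⟩ := hA.exists_third hx (ρ g (hA.proj hx z)) (ρ g (hA.proj hx z))
      have := (key v hv fun h => hv' (h ▸ zero_mem _)).mp (h ▸ zero_mem _)
      rcases mem_span_single.mp this with h' | h'
      · exact absurd h' h0
      · exact (hv' (Submodule.subset_span (Or.inl h'.symm))).elim
    · exact h

include hA in
theorem impossible : False := by
  classical
  have : Module.Finite (ZMod 2) Q := Module.Finite.of_finite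
  set x := A.x0
  have hx : x ≠ 0 := A.hx0
  obtain ⟨b, hb⟩ : ∃ b, b ∉ A.E x := by
    by_contra hno
    push Not at hno
    have := Submodule.finrank_mono (R := ZMod 2) (show (⊤ : Submodule (ZMod 2) Q) ≤ A.E x from
      fun z _ => hno z)
    rw [finrank_top] at this
    have := A.finrank_E hx
    have := A.g_pos
    have : A.dim = Module.finrank (ZMod 2) Q := rfl
    omega
  have hb0 : b ≠ 0 := fun h => hb (h ▸ zero_mem _)
  set p := hA.proj hx
  set q := hA.proj hb0
  have hbC : b ∈ A.Wb b := A.self_mem_Wb b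
  have hpb : p b ≠ 0 := fun h =>
    hb ((hA.proj_spec hx (A.self_mem_Wb x) hx).mpr (show p b ∈ _ from h ▸ zero_mem _))
  set c0 := p b
  have hc0 : c0 ∈ A.Wb x := hA.proj_mem hx b
  obtain ⟨a, ha, ha'⟩ := hA.exists_third hx c0 c0
  have ha0 : a ≠ 0 := fun h => ha' (h ▸ zero_mem _)
  have hac : a ≠ c0 := fun h => ha' (Submodule.subset_span (Or.inl h))
  set z := a + b
  have hpz : p z = c0 := by rw [map_add, hA.proj_self hx ha, zero_add]
  have hz0 : z ≠ 0 := fun h => hpb (by rw [← hpz, h, map_zero])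
  set r := hA.proj hz0
  have hzC : z ∈ A.Wb z := A.self_mem_Wb z
  have hqc0 : q c0 = b := hA.proj_proj hx hb0 hbC hpb hbC
  have hpq : ∀ c ∈ A.Wb x, p (q c) = c := fun c hc =>
    hA.proj_proj hb0 hx hc0 (by rw [hqc0]; exact hb0) hc
  have hqp : ∀ u ∈ A.Wb b, q (p u) = u := fun u hu => hA.proj_proj hx hb0 hbC hpb hu
  have hqa : q a ≠ 0 := fun h => ha0 (by rw [← hpq a ha, h, map_zero])
  have hqz : q z = q a := by rw [map_add, hA.proj_self hb0 hbC, add_zero]
  have hrp : ∀ w ∈ A.Wb z, r (p w) = w := fun w hw =>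
    hA.proj_proj hx hz0 hzC (by rw [hpz]; exact hpb) hw
  have hrc0 : r c0 = z := by rw [← hpz]; exact hrp z hzC
  have hpr : ∀ c ∈ A.Wb x, p (r c) = c := fun c hc =>
    hA.proj_proj hz0 hx hc0 (by rw [hrc0]; exact hz0) hc
  have hrq : ∀ w ∈ A.Wb z, r (q w) = w := fun w hw =>
    hA.proj_proj hb0 hz0 hzC (by rw [hqz]; exact hqa) hw
  have hqr : ∀ u ∈ A.Wb b, q (r u) = u := fun u hu =>
    hA.proj_proj hz0 hb0 (hA.proj_mem hb0 z)
      (by rw [hrq z hzC]; exact hz0) hu
  have hra : r a = r b := add_eq_zero_iff'.mp (by rw [← map_add]; exact hA.proj_self hz0 hzC)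
  set θ : Q → Q := fun c => p (q (r c))
  set η : Q → Q := fun c => p (r (q c))
  have hθadd : ∀ c d, θ (c + d) = θ c + θ d := fun c d => by simp [θ]
  have hθη : ∀ c ∈ A.Wb x, θ (η c) = c := fun c hc => by
    show p (q (r (p (r (q c))))) = c
    rw [hrp _ (hA.proj_mem hz0 _), hqr _ (hA.proj_mem hb0 _), hpq c hc]
  have hrel : ∀ c ∈ A.Wb x, θ c + η c ∈ Submodule.span (ZMod 2) {c} := by
    intro c hc
    by_cases hcne : c = 0
    · simp [hcne, θ, η]
    set w := r c
    have hwC : w ∈ A.Wb z := hA.proj_mem hz0 c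
    have hw0 : w ≠ 0 := fun h => hcne (by rw [← hpr c hc, show r c = 0 from h, map_zero])
    set u := θ c
    have hu : u ∈ A.Wb x := hA.proj_mem hx _
    have hbc : q c ∈ A.Wb b := hA.proj_mem hb0 c
    set k := w + u + q c
    have hwk : w = k + u + q c := by
      show w = w + u + q c + u + q c
      have : w + u + q c + u + q c = w + (u + u) + (q c + q c) := by abel
      rw [this, add_self_zero, add_self_zero, add_zero, add_zero]
    have hpk : p k = 0 := by
      rw [map_add, map_add, hA.proj_self hx hu, show p w = c from hpr c hc, hpq c hc, add_zero,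
        add_self_zero]
    have hqk : q k = 0 := by
      rw [map_add, map_add, hA.proj_self hb0 hbc, show q u = q w from hqp _ (hA.proj_mem hb0 w),
        add_zero, add_self_zero]
    have hrk : r k ∈ Submodule.span (ZMod 2) {w} := by
      by_cases hk0 : k = 0
      · simp [hk0]
      refine (hA.proj_spec hz0 hwC hw0).mp ((A.E_symm hk0 hw0).mp ?_)
      rw [hwk]
      refine add_mem (add_mem (A.self_mem_E k) ?_) ?_
      · by_cases hu0 : u = 0
        · rw [hu0]; exact zero_mem _
        · exact (A.E_symm hu0 hk0).mp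
            ((hA.proj_spec hx hu hu0).mpr (show p k ∈ _ from hpk ▸ zero_mem _))
      · by_cases hb' : q c = 0
        · rw [hb']; exact zero_mem _
        · exact (A.E_symm hb' hk0).mp
            ((hA.proj_spec hb0 hbc hb').mpr (show q k ∈ _ from hqk ▸ zero_mem _))
    have hsum : r u + r (q c) ∈ Submodule.span (ZMod 2) {w} := by
      have : r u + r (q c) = r k := by
        rw [map_add, map_add, hA.proj_self hz0 hwC, zero_add]
      rw [this]
      exact hrk
    have hmap : θ c + η c = p (r u + r (q c)) := by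
      rw [map_add, hpr u hu]
    rw [hmap]
    rcases mem_span_single.mp hsum with h | h
    · rw [h, map_zero]; exact zero_mem _
    · rw [h, show p w = c from hpr c hc]; exact Submodule.mem_span_singleton_self c
  have hθc0 : θ c0 = a := by
    show p (q (r c0)) = a
    rw [hrc0, hqz, hpq a ha]
  have hηc0 : η c0 = a := by
    show p (r (q c0)) = a
    rw [hqc0, ← hra, hpr a ha]
  have hθa : θ a = c0 := hηc0 ▸ hθη c0 hc0
  have hcase : ∀ c ∈ A.Wb x, θ (θ c) = c ∨ θ (θ c) + θ c + c = 0 := by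
    intro c hc
    rcases mem_span_single.mp (hrel c hc) with h | h
    · left
      rw [add_eq_zero_iff'.mp h, hθη c hc]
    · right
      have h2 : θ (θ c) + c = θ c := by
        have := congrArg θ h
        rwa [hθadd, hθη c hc] at this
      rw [add_right_comm, h2, add_self_zero]
  have hinv : ∀ c ∈ A.Wb x, θ (θ c) = c := by
    intro c hc
    rcases hcase c hc with h | h
    · exact h
    rcases hcase (c + c0) (add_mem hc hc0) with h' | h'
    · rw [hθadd, hθadd, hθc0, hθa] at h'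
      exact add_right_cancel h'
    · rw [hθadd, hθadd, hθc0, hθa] at h'
      have h'' : θ (θ c) + θ c + c + (c0 + c0 + a) = 0 := by rw [← h']; abel
      rw [h, add_self_zero, zero_add, zero_add] at h''
      exact absurd h'' ha0
  set L := Submodule.span (ZMod 2) {a, c0}
  have hθL : ∀ l ∈ L, θ l ∈ L := by
    intro l hl
    rcases mem_span_pair'.mp hl with rfl | rfl | rfl | rfl
    · simp [θ]
    · rw [hθa]; exact Submodule.subset_span (by simp)
    · rw [hθc0]; exact Submodule.subset_span (by simp)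
    · rw [hθadd, hθa, hθc0, add_comm]
      exact add_mem (Submodule.subset_span (by simp)) (Submodule.subset_span (by simp))
  obtain ⟨y, hy, hyL, hyθ⟩ : ∃ y ∈ A.Wb x, y ∉ L ∧ θ y + y ∈ L := by
    obtain ⟨y, hy, hyL⟩ := hA.exists_third hx a c0
    by_cases h : θ y + y ∈ L
    · exact ⟨y, hy, hyL, h⟩
    · refine ⟨θ y + y, add_mem (hA.proj_mem hx _) hy, h, ?_⟩
      rw [hθadd, hinv y hy, add_comm y, add_self_zero]
      exact zero_mem _
  -- the stabiliser of two nonperpendicular components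
  let K : Subgroup G :=
    { carrier := {g | (A.Wb x).map (ρ g) = A.Wb x ∧ (A.Wb b).map (ρ g) = A.Wb b}
      one_mem' := by simp [Module.End.one_eq_id]
      mul_mem' := by
        intro g h hg hh
        constructor
        · rw [map_mul, Module.End.mul_eq_comp, Submodule.map_comp, hh.1, hg.1]
        · rw [map_mul, Module.End.mul_eq_comp, Submodule.map_comp, hh.2, hg.2]
      inv_mem' := by
        intro g hg
        constructor
        · conv_lhs => rw [← hg.1]
          rw [← Submodule.map_comp, ← Module.End.mul_eq_comp, ← map_mul, inv_mul_cancel, map_one,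
            Module.End.one_eq_id, Submodule.map_id]
        · conv_lhs => rw [← hg.2]
          rw [← Submodule.map_comp, ← Module.End.mul_eq_comp, ← map_mul, inv_mul_cancel, map_one,
            Module.End.one_eq_id, Submodule.map_id] }
  have hK : ∀ g, (∃ v ∈ A.Wb x, v ≠ 0 ∧ ρ g v ∈ A.Wb x) →
      (∃ u ∈ A.Wb b, u ≠ 0 ∧ ρ g u ∈ A.Wb b) → g ∈ K := by
    rintro g ⟨v, hv, hv0, hgv⟩ ⟨u, hu, hu0, hgu⟩
    constructor
    · rw [← hA.clique hx hv hv0, A.Wb_smul, hA.clique hx hgv (rho_ne_zero hv0 g),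
        hA.clique hx hv hv0]
    · rw [← hA.clique hb0 hu hu0, A.Wb_smul, hA.clique hb0 hgu (rho_ne_zero hu0 g),
        hA.clique hb0 hu hu0]
  have hinvK : ∀ g ∈ K, ∀ w ∈ A.Wb x, ρ g w ∈ A.Wb x := fun g hg w hw =>
    hg.1 ▸ Submodule.mem_map_of_mem hw
  have houtside : ∀ v ∈ A.Wb x, v ≠ 0 → ∀ z z', z ∉ A.E v → z' ∉ A.E v →
      ∃ k, ρ k v = v ∧ ρ k z = z' := by
    intro v _ hv0 z z' hz hz'
    obtain ⟨g, -, rfl⟩ := A.trans A.x0 v A.hx0 hv0
    rw [← rho_cancel_inv ρ g z, A.E_smul_iff] at hz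
    rw [← rho_cancel_inv ρ g z', A.E_smul_iff] at hz'
    obtain ⟨k, hk, hkz⟩ := A.outside_E hz hz'
    exact ⟨g * k * g⁻¹, by rw [rho_mul, rho_mul, rho_inv_cancel, mem_fixer ρ |>.mp hk],
      by rw [rho_mul, rho_mul, hkz, rho_cancel_inv]⟩
  have hnonperp : ∀ v ∈ A.Wb x, v ≠ 0 → ∃ u ∈ A.Wb b, u ∉ A.E v := by
    intro v hv hv0
    obtain ⟨w, hw, hw'⟩ := hA.exists_third hx v v
    refine ⟨q w, hA.proj_mem hb0 w, fun h => hw' ?_⟩
    have h2 := (hA.proj_spec hx hv hv0).mp h
    change p (q w) ∈ _ at h2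
    rw [hpq w hw] at h2
    exact Submodule.span_mono (by simp) h2
  set ρC := subRep ρ K (A.Wb x) hinvK
  have htwo : IsTwoTrans ρC := by
    constructor
    · intro v v' hv hv'
      have hv0 : (v : Q) ≠ 0 := fun h => hv (Subtype.ext h)
      have hv0' : (v' : Q) ≠ 0 := fun h => hv' (Subtype.ext h)
      obtain ⟨g, -, hg⟩ := A.trans (v : Q) v' hv0 hv0'
      obtain ⟨u, hu, hu'⟩ := hnonperp v v.2 hv0
      obtain ⟨u'', hu'', hu'''⟩ := hnonperp v' v'.2 hv0'
      have hgu : ρ g u ∉ A.E (v' : Q) := by rw [← hg, A.E_smul_iff]; exact hu'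
      obtain ⟨k, hkv, hku⟩ := houtside v' v'.2 hv0' _ u'' hgu hu'''
      have hkg : k * g ∈ K := hK _ ⟨v, v.2, hv0, by rw [rho_mul, hg, hkv]; exact v'.2⟩
        ⟨u, hu, fun h => hu' (h ▸ zero_mem _), by rw [rho_mul, hku]; exact hu''⟩
      refine ⟨⟨k * g, hkg⟩, trivial, Subtype.ext ?_⟩
      rw [coe_subRep, rho_mul, hg, hkv]
    · intro v y y' hv hy hy'
      have hv0 : (v : Q) ≠ 0 := fun h => hv (Subtype.ext h)
      have hout : ∀ w : A.Wb x, w ∉ Submodule.span (ZMod 2) {v} → q w ∉ A.E (v : Q) := by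
        intro w hw h
        refine hw ?_
        have h2 := (hA.proj_spec hx v.2 hv0).mp h
        change p (q w) ∈ _ at h2
        rw [hpq w w.2] at h2
        rcases mem_span_single.mp h2 with h3 | h3
        · rw [show w = 0 from Subtype.ext h3]; exact zero_mem _
        · rw [show w = v from Subtype.ext h3]; exact Submodule.mem_span_singleton_self v
      obtain ⟨k, hkv, hku⟩ := houtside v v.2 hv0 _ _ (hout y hy) (hout y' hy')
      have hkK : k ∈ K := hK _ ⟨v, v.2, hv0, hkv.symm ▸ v.2⟩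
        ⟨q y, hA.proj_mem hb0 _, fun h => hout y hy (h ▸ zero_mem _),
          hku.symm ▸ hA.proj_mem hb0 _⟩
      have hkx : A.Wb (ρ k x) = A.Wb x := by rw [← A.Wb_smul]; exact hkK.1
      refine ⟨⟨k, hkK⟩, Subtype.ext hkv, Subtype.ext ?_⟩
      rw [coe_subRep]
      show ρ k (y : Q) = y'
      rw [← hpq y y.2, ← hA.proj_equiv hx hkx, hku, hpq y' y'.2]
  have : Finite (Module.Dual (ZMod 2) (A.Wb x)) :=
    Finite.of_injective (fun f => (f : A.Wb x → ZMod 2)) DFunLike.coe_injective
  have hspan : ∀ {u v w : A.Wb x}, (w : Q) ∉ Submodule.span (ZMod 2) {(u : Q), (v : Q)} →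
      w ∉ Submodule.span (ZMod 2) {u, v} := fun {u v w} h hw => h (by
    rcases mem_span_pair'.mp hw with rfl | rfl | rfl | rfl
    · exact zero_mem _
    · exact Submodule.subset_span (by simp)
    · exact Submodule.subset_span (by simp)
    · exact add_mem (Submodule.subset_span (by simp)) (Submodule.subset_span (by simp)))
  obtain ⟨⟨g, hg⟩, hga, hgc, hgy⟩ := htwo.translate (dualPair ρC) (v := ⟨a, ha⟩) (u := ⟨c0, hc0⟩)
    (x := ⟨y, hy⟩) (fun h => ha0 (congrArg Subtype.val h))
    (fun h => (mem_span_single.mp h).elim (fun h' => hpb (congrArg Subtype.val h'))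
      (fun h' => hac (congrArg Subtype.val h').symm))
    (hspan hyL)
  have hga' : ρ g a = a := congrArg Subtype.val hga
  have hgc' : ρ g c0 = c0 := congrArg Subtype.val hgc
  have hgy' : ρ g y = y + a := congrArg Subtype.val hgy
  have hgx : A.Wb (ρ g x) = A.Wb x := by rw [← A.Wb_smul]; exact hg.1
  have hgb : A.Wb (ρ g b) = A.Wb b := by rw [← A.Wb_smul]; exact hg.2
  have hgb' : ρ g b = b := by
    rw [← hqc0, ← hA.proj_equiv hb0 hgb, hgc']
  have hgz : ρ g z = z := by rw [map_add, hga', hgb']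
  have hθg : ∀ c, θ (ρ g c) = ρ g (θ c) := fun c => by
    show p (q (r (ρ g c))) = ρ g (p (q (r c)))
    rw [hA.proj_equiv hz0 (by rw [hgz]) c, hA.proj_equiv hb0 hgb, hA.proj_equiv hx hgx]
  have h1 := hθg y
  rw [hgy', hθadd, hθa] at h1
  have h2 : ρ g (θ y) = θ y + a := by
    have hθy : θ y = (θ y + y) + y := by rw [add_assoc, add_self_zero, add_zero]
    have hfix : ρ g (θ y + y) = θ y + y := by
      rcases mem_span_pair'.mp hyθ with h | h | h | h <;> rw [h] <;>
        simp [hga', hgc']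
    conv_lhs => rw [hθy, map_add, hfix, hgy']
    rw [← add_assoc, ← hθy]
  rw [h2] at h1
  exact hac (add_left_cancel h1).symm

end Anti.Big

/-- In the non-two-transitive case with incidence rank at least three, the second subspace is
at most as large as the incidence space. -/
theorem Anti.b_le (A : Anti σ ρ) (h3 : 3 ≤ A.g) (hf : A.g + 2 ≤ A.dim) : A.b ≤ A.g := by
  by_contra h
  exact (Anti.Big.impossible (A := A) ⟨h3, hf, by omega⟩)

end Cfsg.Agent.Lib.SingerTrans
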