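import Cfsg.Agent.Lib.SingerTrans.Point

/-!
A two-transitive group containing a transvection is the full general linear group.
-/

namespace Cfsg.Agent.Lib.SingerTrans

variable {G : Type*} [Group G] [Finite G] {V P : Type*} [AddCommGroup V] [Module (ZMod 2) V]
  [AddCommGroup P] [Module (ZMod 2) P] [Finite V] [Finite P]
  {σ : Representation (ZMod 2) G P} {ρ : Representation (ZMod 2) G V}

/-- The group contains a transvection. -/
def HasTransvection (ρ : Representation (ZMod 2) G V) : Prop :=
  ∃ g : G, ∃ c : V, (∀ x, ρ g x = x ∨ ρ g x = x + c) ∧ ρ g ≠ 1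

theorem HasTransvection.of_dual (D : Pair σ ρ) (h : HasTransvection σ) : HasTransvection ρ := by
  obtain ⟨g, c, hc, hne⟩ := h
  have key : ∀ p x, D.β p (ρ g⁻¹ x + x) = D.β (σ g p + p) x := fun p x => by
    rw [map_add, map_add, LinearMap.add_apply, D.inv_left g]
  have hne' : ∃ x0, ρ g⁻¹ x0 + x0 ≠ 0 := by
    by_contra hno
    push Not at hno
    refine hne (LinearMap.ext fun p => add_eq_zero_iff'.mp (D.left _ fun x => ?_))
    rw [Module.End.one_apply, ← key, hno, map_zero]
  obtain ⟨x0, hx0⟩ := hne'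
  have hker : ∀ x, D.β c x = 0 → ρ g⁻¹ x + x = 0 := fun x hx => D.right _ fun p => by
    rw [key]
    rcases hc p with h | h
    · rw [h, add_self_zero, map_zero, LinearMap.zero_apply]
    · rw [h, add_right_comm, add_self_zero, zero_add, hx]
  have hcx0 : D.β c x0 = 1 := (zmod_two_cases _).resolve_left fun h => hx0 (hker x0 h)
  refine ⟨g⁻¹, ρ g⁻¹ x0 + x0, fun x => ?_, fun h => hx0 ?_⟩
  · rcases zmod_two_cases (D.β c x) with h | h
    · exact Or.inl (add_eq_zero_iff'.mp (hker x h))
    · right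
      have h2 := hker (x + x0) (by rw [map_add, h, hcx0, add_self_zero])
      rw [map_add] at h2
      calc ρ g⁻¹ x = (ρ g⁻¹ x + ρ g⁻¹ x0 + (x + x0)) + (x + (ρ g⁻¹ x0 + x0)) := by
            rw [show ρ g⁻¹ x + ρ g⁻¹ x0 + (x + x0) + (x + (ρ g⁻¹ x0 + x0)) =
              ρ g⁻¹ x + (ρ g⁻¹ x0 + ρ g⁻¹ x0) + (x + x) + (x0 + x0) by abel, add_self_zero,
              add_self_zero, add_self_zero, add_zero, add_zero, add_zero]
        _ = x + (ρ g⁻¹ x0 + x0) := by rw [h2, zero_add]
  · rw [h, Module.End.one_apply, add_self_zero]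

/-- Transvections in the group give every linear automorphism. -/
theorem IsTwoTrans.surjective (h : IsTwoTrans ρ) (D : Pair σ ρ) (ht : HasTransvection ρ) :
    ∀ e : V ≃ₗ[ZMod 2] V, ∃ g : G, ∀ x, ρ g x = e x := by
  have : Module.Finite (ZMod 2) V := Module.Finite.of_finite
  obtain ⟨t, c, htc, hne⟩ := ht
  have hc : c ≠ 0 := by
    rintro rfl
    exact hne (LinearMap.ext fun x => (htc x).elim id fun h' => h'.trans (add_zero x))
  obtain ⟨ψ, hψ⟩ := D.exists_one hc
  obtain ⟨φ, hφ⟩ := D.surj ((D.β ψ).comp (ρ t + 1))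
  have hform : ∀ x, ρ t x = x + D.β φ x • c := by
    intro x
    rw [hφ]
    show ρ t x = x + D.β ψ (ρ t x + x) • c
    rcases htc x with h' | h'
    · rw [h', add_self_zero, map_zero, zero_smul, add_zero]
    · rw [h', show x + c + x = c by rw [add_right_comm, add_self_zero, zero_add], hψ, one_smul]
  have hφc : D.β φ c = 0 := (zmod_two_cases _).resolve_right fun h' => by
    have := hform c
    rw [h', one_smul, add_self_zero] at this
    exact hc (rho_injective ρ t (this.trans (map_zero (ρ t)).symm))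
  have hφ0 : φ ≠ 0 := fun h' => hne (LinearMap.ext fun x => by
    rw [hform, h', map_zero, LinearMap.zero_apply, zero_smul, add_zero, Module.End.one_apply])
  -- all transvections
  have hall : ∀ d ψ', d ≠ 0 → ψ' ≠ 0 → D.β ψ' d = 0 →
      ∃ g : G, ∀ x, ρ g x = x + D.β ψ' x • d := by
    intro d ψ' hd hψ' hzero
    obtain ⟨k, -, hk⟩ := h.trans c d hc hd
    obtain ⟨l, hl, hlφ⟩ := h.covectors D hd (φ := σ k φ) (rho_ne_zero hφ0 k) hψ'
      (by rw [hzero, ← hk, D.inv, hφc])
    refine ⟨l * k * t * k⁻¹ * l⁻¹, fun x => ?_⟩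
    rw [rho_mul, rho_mul, rho_mul, rho_mul, hform, map_add, map_add, map_smul, map_smul,
      rho_cancel_inv, rho_cancel_inv, hk, mem_fixer ρ |>.mp hl, ← hlφ]
    congr 2
    conv_rhs => rw [← rho_cancel_inv ρ l x, D.inv, ← rho_cancel_inv ρ k (ρ l⁻¹ x), D.inv]
  suffices key : ∀ k (F : Submodule (ZMod 2) V),
      Module.finrank (ZMod 2) V - Module.finrank (ZMod 2) F = k →
      ∀ e : V ≃ₗ[ZMod 2] V, (∀ x ∈ F, e x = x) → ∃ g : G, ∀ x, ρ g x = e x by
    intro e
    exact key _ ⊥ rfl e fun x hx => by rw [(Submodule.mem_bot _).mp hx, map_zero]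
  intro k
  induction k using Nat.strong_induction_on with
  | _ k ih =>
    intro F hk e he
    by_cases hF : ∀ x, x ∈ F
    · exact ⟨1, fun x => by rw [map_one, Module.End.one_apply, he x (hF x)]⟩
    push Not at hF
    obtain ⟨v, hv⟩ := hF
    have hlt : Module.finrank (ZMod 2) V -
        Module.finrank (ZMod 2) (F ⊔ Submodule.span (ZMod 2) {v} : Submodule (ZMod 2) V) < k := by
      have h1 : Module.finrank (ZMod 2) F <
          Module.finrank (ZMod 2) (F ⊔ Submodule.span (ZMod 2) {v} : Submodule (ZMod 2) V) :=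
        Submodule.finrank_lt_finrank_of_lt (left_lt_sup.mpr fun hle =>
          hv (hle (Submodule.mem_span_singleton_self v)))
      have h2 := Submodule.finrank_le (F ⊔ Submodule.span (ZMod 2) {v})
      omega
    have hstep : ∀ e' : V ≃ₗ[ZMod 2] V, (∀ x ∈ F, e' x = x) → e' v = v →
        ∃ g : G, ∀ x, ρ g x = e' x := fun e' he' hev =>
      ih _ hlt _ rfl e' fun x hx => by
        obtain ⟨a, ha, b, hb, rfl⟩ := Submodule.mem_sup.mp hx
        rw [map_add, he' a ha]
        rcases mem_span_single.mp hb with rfl | rfl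
        · rw [map_zero]
        · rw [hev]
    by_cases hev : e v = v
    · exact hstep e he hev
    have hw : e v ∉ F := fun hmem => by
      have h1 := he _ hmem
      exact hev (e.injective h1)
    obtain ⟨φ', hφ'F, hφ'v, hφ'w⟩ : ∃ φ', (∀ x ∈ F, D.β φ' x = 0) ∧ D.β φ' v = 1 ∧
        D.β φ' (e v) = 1 := by
      have hvW : v ∉ F ⊔ Submodule.span (ZMod 2) {v + e v} := fun hmem => by
        obtain ⟨a, ha, b, hb, hab⟩ := Submodule.mem_sup.mp hmem
        rcases mem_span_single.mp hb with rfl | rfl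
        · exact hv (by rw [← hab, add_zero]; exact ha)
        · refine hw ?_
          have h1 : a + e v = 0 := by
            have : a + (v + e v) + v = v + v := by rw [hab]
            rwa [add_self_zero, show a + (v + e v) + v = a + e v + (v + v) by abel, add_self_zero,
              add_zero] at this
          rw [← add_eq_zero_iff'.mp h1]
          exact ha
      obtain ⟨φ', hW, h1⟩ := D.exists_sep hvW
      refine ⟨φ', fun x hx => hW x (Submodule.mem_sup_left hx), h1, ?_⟩
      have h2 := hW _ (Submodule.mem_sup_right (Submodule.mem_span_singleton_self _))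
      rw [map_add, h1] at h2
      rw [← add_eq_zero_iff'.mp h2]
    have hd : v + e v ≠ 0 := fun h' => hev (add_eq_zero_iff'.mp h').symm
    obtain ⟨g, hg⟩ := hall (v + e v) φ' hd
      (fun h' => by rw [h'] at hφ'v; simp at hφ'v) (by rw [map_add, hφ'v, hφ'w, add_self_zero])
    let tg : V ≃ₗ[ZMod 2] V := LinearEquiv.ofLinear (ρ g) (ρ g⁻¹)
      (LinearMap.ext fun x => rho_cancel_inv ρ g x) (LinearMap.ext fun x => rho_inv_cancel ρ g x)
    obtain ⟨k', hk'⟩ := hstep (e.trans tg)
      (fun x hx => by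
        show ρ g (e x) = x
        rw [he x hx, hg, hφ'F x hx, zero_smul, add_zero])
      (by
        show ρ g (e v) = v
        rw [hg, hφ'w, one_smul, add_comm v, ← add_assoc, add_self_zero, zero_add])
    refine ⟨g⁻¹ * k', fun x => ?_⟩
    rw [rho_mul, hk']
    exact rho_inv_cancel ρ g (e x)

end Cfsg.Agent.Lib.SingerTrans
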