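import Cfsg.Agent.Lib.SingerTrans.Antiflag

/-!
In an antiflag transitive group over `GF(2)` with incidence rank at least three which is not
two-transitive, the second invariant subspace is no larger than the incidence space.
-/

namespace Cfsg.Agent.Lib.SingerTrans

theorem count_arith {g b i : ℕ} (hg : 2 ≤ g) (hb : g + 1 ≤ b) (hi : i ≤ g)
    (h : (2 ^ g - 1) * (2 ^ g - 2) = (2 ^ b - 2) * (2 ^ i - 1)) : b = g + 1 ∧ i + 1 = g := by
  obtain ⟨e, rfl⟩ : ∃ e, b = e + 1 := ⟨b - 1, by omega⟩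
  obtain ⟨m, rfl⟩ : ∃ m, g = m + 1 := ⟨g - 1, by omega⟩
  have h1 := Nat.one_le_two_pow (n := i)
  have h2 := Nat.one_le_two_pow (n := e)
  have h3 := Nat.one_le_two_pow (n := m)
  have hz : ((2 : ℤ) ^ (m + 1) - 1) * (2 ^ m - 1) = (2 ^ e - 1) * (2 ^ i - 1) := by
    have := congrArg (Nat.cast : ℕ → ℤ) h
    rw [Nat.cast_mul, Nat.cast_mul, Nat.cast_sub (by rw [pow_succ]; omega),
      Nat.cast_sub (by rw [pow_succ]; omega), Nat.cast_sub (by rw [pow_succ]; omega),
      Nat.cast_sub h1] at this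
    push_cast at this
    refine mul_left_cancel₀ (two_ne_zero (α := ℤ)) ?_
    linear_combination this
  have him : i ≤ m := by
    by_contra hlt
    have hi' : i = m + 1 := by omega
    subst hi'
    have hpos : (0 : ℤ) < 2 ^ (m + 1) - 1 := by
      have : (2 : ℤ) ≤ 2 ^ (m + 1) := le_self_pow₀ (by norm_num) (by omega)
      linarith
    rw [mul_comm ((2 : ℤ) ^ e - 1)] at hz
    have := mul_left_cancel₀ hpos.ne' hz
    have hlt2 : (2 : ℤ) ^ m < 2 ^ e := pow_lt_pow_right₀ (by norm_num) (by omega)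
    linarith
  have him' : i = m := by
    by_contra hne
    obtain ⟨r, rfl⟩ : ∃ r, m = i + 1 + r := ⟨m - i - 1, by omega⟩
    obtain ⟨s, rfl⟩ : ∃ s, e = i + 1 + s := ⟨e - i - 1, by omega⟩
    have hdvd : (2 : ℤ) ^ (i + 1) ∣ 2 ^ i := by
      refine ⟨2 ^ s * 2 ^ i - 2 ^ s - (2 * 2 ^ r * 2 ^ i * (2 * 2 ^ r) - 2 * 2 ^ r - 2 ^ r), ?_⟩
      simp only [pow_add, pow_one] at hz ⊢
      linear_combination hz
    have := Int.le_of_dvd (by positivity) hdvd
    rw [pow_succ] at this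
    have : (0 : ℤ) < 2 ^ i := by positivity
    linarith
  subst him'
  have hpos : (0 : ℤ) < 2 ^ i - 1 := by
    rcases Nat.eq_zero_or_pos i with rfl | hi0
    · omega
    · have : (2 : ℤ) ≤ 2 ^ i := le_self_pow₀ (by norm_num) (by omega)
      linarith
  have he := mul_right_cancel₀ hpos.ne' hz
  have : (2 : ℕ) ^ (i + 1) = 2 ^ e := by exact_mod_cast (sub_left_inj.mp he)
  exact ⟨by have := Nat.pow_right_injective le_rfl this; omega, rfl⟩

variable {G : Type*} [Group G] [Finite G] {Q P : Type*} [AddCommGroup Q] [Module (ZMod 2) Q]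
  [AddCommGroup P] [Module (ZMod 2) P] [Finite Q] [Finite P]
  {σ : Representation (ZMod 2) G P} {ρ : Representation (ZMod 2) G Q}

namespace Anti

variable (A : Anti σ ρ)

/-- The points incident with a covector, with zero. -/
def R (φ : P) : Submodule (ZMod 2) Q := A.swap.Asp φ

theorem mem_R {φ : P} (hφ : φ ≠ 0) {y : Q} : y ∈ A.R φ ↔ y = 0 ∨ A.inA φ y := by
  rw [R, A.swap.mem_Asp hφ, inA_swap]

theorem finrank_R {φ : P} (hφ : φ ≠ 0) : Module.finrank (ZMod 2) (A.R φ) = A.g := by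
  rw [R, A.swap.finrank_Asp hφ, g_swap]

/-- The standing hypotheses of the equality case. -/
structure Big : Prop where
  three : 3 ≤ A.g
  notTwo : A.g + 2 ≤ A.dim
  big : A.g + 1 ≤ A.b

variable {A}

theorem Big.R_le (hA : A.Big) {φ : P} {x : Q} (h : A.inA φ x) : A.R φ ≤ A.Wb x := by
  intro y hy
  obtain ⟨k, rfl, rfl⟩ := h
  have hy' : ρ k⁻¹ y ∈ A.R A.φ0 := by
    rcases (A.mem_R (rho_ne_zero A.hφ0 k)).mp hy with rfl | hy
    · simp
    · refine (A.mem_R A.hφ0).mpr (Or.inr ?_)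
      have := A.inA_smul hy k⁻¹
      rwa [rho_inv_cancel] at this
  suffices hw : ρ k⁻¹ y ∈ A.Wb A.x0 by
    have := A.mem_Wb_smul hw k
    rwa [rho_cancel_inv] at this
  set w := ρ k⁻¹ y
  by_cases hs : w ∈ Submodule.span (ZMod 2) {A.x0}
  · exact ((A.mem_Wb A.hx0).mpr (Or.inl hs))
  refine A.mem_Wb_of_small (k := A.g - 1) (by have := hA.three; have := hA.big; omega) ?_
  have hx0R : A.x0 ∈ A.R A.φ0 := (A.mem_R A.hφ0).mpr (Or.inr ⟨1, by simp, by simp⟩)
  have hsub : orb ρ (A.S : Subgroup G) w ⊆ ((A.R A.φ0 : Set Q) \ {0, A.x0}) := by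
    rintro z ⟨g, hg, rfl⟩
    refine ⟨?_, ?_⟩
    · rcases (A.mem_R A.hφ0).mp hy' with h0 | h0
      · exact absurd (h0 ▸ zero_mem _) hs
      · refine (A.mem_R A.hφ0).mpr (Or.inr ?_)
        have := A.inA_smul h0 g
        rwa [A.fixφ g hg] at this
    · rintro (h0 | h0)
      · exact hs (by rw [rho_injective ρ g (h0.trans (map_zero (ρ g)).symm)]; exact zero_mem _)
      · refine hs ?_
        rw [rho_injective ρ g ((Set.mem_singleton_iff.mp h0).trans (A.fixx g hg).symm)]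
        exact Submodule.mem_span_singleton_self _
  have h1 := Set.ncard_le_ncard hsub
  have hpair : ({0, A.x0} : Set Q) ⊆ (A.R A.φ0 : Set Q) := by
    rintro z (rfl | rfl)
    · exact zero_mem _
    · exact hx0R
  rw [Set.ncard_sdiff hpair, Set.ncard_pair A.hx0.symm] at h1
  have h2 : (A.R A.φ0 : Set Q).ncard = 2 ^ A.g := by
    rw [← Nat.card_coe_set_eq]
    show Nat.card (A.R A.φ0) = _
    rw [card_eq_two_pow, A.finrank_R A.hφ0]
  rw [h2] at h1
  obtain ⟨a, ha⟩ := orb_ncard_pow ρ A.S.2 w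
  rw [ha] at h1 ⊢
  refine Nat.pow_le_pow_right two_pos ?_
  by_contra hlt
  have h3 : 2 ^ A.g ≤ 2 ^ a := Nat.pow_le_pow_right two_pos (by omega)
  have h4 : 2 ^ 1 ≤ 2 ^ A.g := Nat.pow_le_pow_right two_pos (by have := hA.three; omega)
  omega

theorem inter_map (k : G) (x y : Q) :
    {φ | A.inA φ (ρ k x) ∧ A.inA φ (ρ k y)} = σ k '' {φ | A.inA φ x ∧ A.inA φ y} := by
  ext φ
  constructor
  · rintro ⟨h1, h2⟩
    refine ⟨σ k⁻¹ φ, ⟨?_, ?_⟩, rho_cancel_inv σ k φ⟩
    · have := A.inA_smul h1 k⁻¹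
      rwa [rho_inv_cancel] at this
    · have := A.inA_smul h2 k⁻¹
      rwa [rho_inv_cancel] at this
  · rintro ⟨φ', ⟨h1, h2⟩, rfl⟩
    exact ⟨A.inA_smul h1 k, A.inA_smul h2 k⟩

theorem ncard_inter {x y : Q} (hx : x ≠ 0) (hy : y ≠ 0) :
    {φ | A.inA φ x ∧ A.inA φ y}.ncard + 1 =
      2 ^ Module.finrank (ZMod 2) (A.Asp x ⊓ A.Asp y : Submodule (ZMod 2) P) := by
  rw [← card_eq_two_pow, ← SetLike.coe_sort_coe, Nat.card_coe_set_eq]
  have hset : ((A.Asp x ⊓ A.Asp y : Submodule (ZMod 2) P) : Set P) =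
      insert 0 {φ | A.inA φ x ∧ A.inA φ y} := by
    ext φ
    rw [Submodule.coe_inf, Set.mem_inter_iff, SetLike.mem_coe, SetLike.mem_coe, A.mem_Asp hx,
      A.mem_Asp hy, Set.mem_insert_iff]
    constructor
    · rintro ⟨h0 | h1, h2⟩
      · exact Or.inl h0
      · rcases h2 with h0 | h2
        · exact Or.inl h0
        · exact Or.inr ⟨h1, h2⟩
    · rintro (h0 | ⟨h1, h2⟩)
      · exact ⟨Or.inl h0, Or.inl h0⟩
      · exact ⟨Or.inr h1, Or.inr h2⟩
  have h0 : (0 : P) ∉ {φ | A.inA φ x ∧ A.inA φ y} := fun h => (A.inA_ne h.1).1 rfl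
  rw [hset, Set.ncard_insert_of_notMem h0 (Set.toFinite _)]

theorem Big.w0_ne (_hA : A.Big) : A.w0 ≠ 0 := fun h => A.w0_notMem (h ▸ zero_mem _)

theorem Big.equality (hA : A.Big) : A.b = A.g + 1 ∧
    Module.finrank (ZMod 2) (A.Asp A.x0 ⊓ A.Asp A.w0 : Submodule (ZMod 2) P) + 1 = A.g := by
  classical
  have := Fintype.ofFinite Q
  have := Fintype.ofFinite P
  set i := Module.finrank (ZMod 2) (A.Asp A.x0 ⊓ A.Asp A.w0 : Submodule (ZMod 2) P) with hi
  have hile : i ≤ A.g := Submodule.finrank_mono inf_le_left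
  set s : Finset P := Finset.univ.filter fun φ => A.inA φ A.x0
  set t : Finset Q := Finset.univ.filter fun w => w ∈ A.Wb A.x0 ∧
    w ∉ Submodule.span (ZMod 2) {A.x0}
  have hspan : ((Submodule.span (ZMod 2) {A.x0}) : Set Q).ncard = 2 := by
    rw [← Nat.card_coe_set_eq]
    show Nat.card (Submodule.span (ZMod 2) {A.x0}) = 2
    rw [card_eq_two_pow, finrank_span_singleton A.hx0]
    rfl
  have ht : t.card = 2 ^ A.b - 2 := by
    have hset : (t : Set Q) = (A.Wb A.x0 : Set Q) \ (Submodule.span (ZMod 2) {A.x0} : Set Q) := by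
      ext w
      simp [t]
    rw [← Set.ncard_coe_finset, hset, Set.ncard_sdiff (by
      intro z hz
      exact (A.mem_Wb A.hx0).mpr (Or.inl hz)), hspan, ← Nat.card_coe_set_eq]
    show Nat.card (A.Wb A.x0) - 2 = _
    rw [card_eq_two_pow]
    rfl
  have hrow : ∀ φ ∈ s, ({w ∈ t | A.inA φ w}).card = 2 ^ A.g - 2 := by
    intro φ hφ
    simp only [s, Finset.mem_filter, Finset.mem_univ, true_and] at hφ
    have hφ0 := (A.inA_ne hφ).1
    have hset : (({w ∈ t | A.inA φ w} : Finset Q) : Set Q) = (A.R φ : Set Q) \ {0, A.x0} := by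
      ext w
      simp only [Finset.coe_filter, t, Finset.mem_filter, Finset.mem_univ, true_and,
        Set.mem_ofPred_eq, Set.mem_sdiff, SetLike.mem_coe, Set.mem_insert_iff,
        Set.mem_singleton_iff, mem_span_single]
      constructor
      · rintro ⟨⟨-, h2⟩, h3⟩
        exact ⟨(A.mem_R hφ0).mpr (Or.inr h3), h2⟩
      · rintro ⟨h1, h2⟩
        refine ⟨⟨hA.R_le hφ h1, h2⟩, ?_⟩
        exact ((A.mem_R hφ0).mp h1).resolve_left fun h => h2 (Or.inl h)
    have hpair : ({0, A.x0} : Set Q) ⊆ (A.R φ : Set Q) := by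
      rintro z (rfl | rfl)
      · exact zero_mem _
      · exact (A.mem_R hφ0).mpr (Or.inr hφ)
    rw [← Set.ncard_coe_finset, hset, Set.ncard_sdiff hpair, Set.ncard_pair A.hx0.symm,
      ← Nat.card_coe_set_eq]
    show Nat.card (A.R φ) - 2 = _
    rw [card_eq_two_pow, A.finrank_R hφ0]
  have hcol : ∀ w ∈ t, ({φ ∈ s | A.inA φ w}).card = 2 ^ i - 1 := by
    intro w hw
    simp only [t, Finset.mem_filter, Finset.mem_univ, true_and] at hw
    obtain ⟨k, rfl, hk⟩ := ((A.mem_Wb A.hx0).mp hw.1).resolve_left hw.2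
    have hset : (({φ ∈ s | A.inA φ (ρ k A.w0)} : Finset P) : Set P) =
        {φ | A.inA φ (ρ k A.x0) ∧ A.inA φ (ρ k A.w0)} := by
      ext φ
      simp [s, hk]
    rw [← Set.ncard_coe_finset, hset, inter_map,
      Set.ncard_image_of_injective _ (rho_injective σ k)]
    have := ncard_inter (A := A) A.hx0 hA.w0_ne
    rw [← hi] at this
    omega
  have hs : s.card = 2 ^ A.g - 1 := by
    have : (s : Set P) = {φ | A.inA φ A.x0} := by ext; simp [s]
    rw [← Set.ncard_coe_finset, this]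
    have := A.ncard_inA A.hx0
    rw [A.finrank_Asp A.hx0] at this
    omega
  have hbip := Finset.sum_card_bipartiteAbove_eq_sum_card_bipartiteBelow (s := s) (t := t)
    (fun φ w => A.inA φ w)
  simp only [Finset.bipartiteAbove, Finset.bipartiteBelow] at hbip
  rw [Finset.sum_congr rfl hrow, Finset.sum_congr rfl hcol, Finset.sum_const, Finset.sum_const,
    smul_eq_mul, smul_eq_mul, hs, ht] at hbip
  exact count_arith (le_of_lt hA.three) hA.big hile hbip

theorem Big.finrank_inter (hA : A.Big) {x y : Q} (hx : x ≠ 0) (hy : y ∈ A.Wb x)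
    (hy' : y ∉ Submodule.span (ZMod 2) {x}) :
    Module.finrank (ZMod 2) (A.Asp x ⊓ A.Asp y : Submodule (ZMod 2) P) + 1 = A.g := by
  obtain ⟨k, rfl, rfl⟩ := ((A.mem_Wb hx).mp hy).resolve_left hy'
  have h1 := ncard_inter (A := A) hx (rho_ne_zero (ρ := ρ) hA.w0_ne k)
  rw [inter_map, Set.ncard_image_of_injective _ (rho_injective σ k),
    ncard_inter A.hx0 hA.w0_ne] at h1
  rw [← Nat.pow_right_injective le_rfl h1]
  exact hA.equality.2

theorem Big.R_inj (hA : A.Big) {x : Q} {φ ψ : P} (h1 : A.inA φ x) (h2 : A.inA ψ x)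
    (he : A.R φ = A.R ψ) : φ = ψ := by
  have : Module.Finite (ZMod 2) Q := Module.Finite.of_finite
  have : Module.Finite (ZMod 2) P := Module.Finite.of_finite
  by_contra hne
  have hx := (A.inA_ne h1).2
  have hφ := (A.inA_ne h1).1
  have hψ := (A.inA_ne h2).1
  have hs : φ + ψ ≠ 0 := fun h => hne (add_eq_zero_iff'.mp h)
  suffices hle : A.Wb x ≤ A.R φ by
    have := Submodule.finrank_mono hle
    rw [A.finrank_Wb hx, A.finrank_R hφ] at this
    have := hA.big
    omega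
  intro y hy
  by_cases hy' : y ∈ Submodule.span (ZMod 2) {x}
  · rcases mem_span_single.mp hy' with rfl | rfl
    · exact zero_mem _
    · exact (A.mem_R hφ).mpr (Or.inr h1)
  have hy0 : y ≠ 0 := fun h => hy' (h ▸ zero_mem _)
  set L := Submodule.span (ZMod 2) {φ, ψ}
  set B := A.Asp x ⊓ A.Asp y
  have hL : L ≤ A.Asp x := Submodule.span_le.mpr (by
    rintro z (rfl | rfl)
    · exact (A.mem_Asp hx).mpr (Or.inr h1)
    · exact (A.mem_Asp hx).mpr (Or.inr h2))
  have hLd : Module.finrank (ZMod 2) L = 2 := finrank_span_pair hφ (fun h =>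
    (mem_span_single.mp h).elim hψ (Ne.symm hne))
  have hB := hA.finrank_inter hx hy hy'
  have hsup : Module.finrank (ZMod 2) (L ⊔ B : Submodule (ZMod 2) P) ≤ A.g := by
    rw [← A.finrank_Asp hx]
    exact Submodule.finrank_mono (sup_le hL inf_le_left)
  have hsum := Submodule.finrank_sup_add_finrank_inf_eq L B
  change Module.finrank (ZMod 2) B + 1 = A.g at hB
  have hne' : L ⊓ B ≠ ⊥ := fun h0 => by
    rw [h0, finrank_bot, hLd] at hsum
    omega
  obtain ⟨χ, ⟨hχL, hχB⟩, hχ0⟩ := (Submodule.ne_bot_iff _).mp hne'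
  have hy2 : A.inA χ y := ((A.mem_Asp hy0).mp hχB.2).resolve_left hχ0
  have key : A.R φ = A.R χ := by
    rcases mem_span_pair'.mp hχL with rfl | rfl | rfl | rfl
    · exact absurd rfl hχ0
    · rfl
    · exact he
    · refine Submodule.eq_of_le_of_finrank_eq ?_ (by rw [A.finrank_R hφ, A.finrank_R hs])
      intro z hz
      rcases (A.mem_R hφ).mp hz with rfl | hz'
      · exact zero_mem _
      have hz0 := (A.inA_ne hz').2
      have hzψ : A.inA ψ z := ((A.mem_R hψ).mp (he ▸ hz)).resolve_left hz0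
      exact (A.mem_R hs).mpr (Or.inr (((A.mem_Asp hz0).mp (add_mem
        ((A.mem_Asp hz0).mpr (Or.inr hz')) ((A.mem_Asp hz0).mpr (Or.inr hzψ)))).resolve_left hs))
  rw [key]
  exact (A.mem_R hχ0).mpr (Or.inr hy2)

theorem Big.clique (hA : A.Big) {x y : Q} (hx : x ≠ 0) (hy : y ∈ A.Wb x) (hy0 : y ≠ 0) :
    A.Wb y = A.Wb x := by
  have : Module.Finite (ZMod 2) Q := Module.Finite.of_finite
  have : Module.Finite (ZMod 2) P := Module.Finite.of_finite
  by_cases hy' : y ∈ Submodule.span (ZMod 2) {x}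
  · rw [(mem_span_single.mp hy').resolve_left hy0]
  have hB := hA.finrank_inter hx hy hy'
  obtain ⟨φ, hφB, hφ⟩ := (Submodule.ne_bot_iff _).mp (show A.Asp x ⊓ A.Asp y ≠ ⊥ from fun h => by
    rw [h, finrank_bot] at hB
    have := hA.three
    omega)
  obtain ⟨ψ, hψB, hψ⟩ : ∃ ψ ∈ A.Asp x ⊓ A.Asp y, ψ ∉ Submodule.span (ZMod 2) {φ} := by
    by_contra hno
    push Not at hno
    have := Submodule.finrank_mono (R := ZMod 2) (show A.Asp x ⊓ A.Asp y ≤ _ from hno)
    rw [finrank_span_singleton hφ] at this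
    have := hA.three
    omega
  have hψ0 : ψ ≠ 0 := fun h => hψ (h ▸ zero_mem _)
  have hne : A.R φ ≠ A.R ψ := fun h => hψ (by
    rw [hA.R_inj (((A.mem_Asp hx).mp hφB.1).resolve_left hφ)
      (((A.mem_Asp hx).mp hψB.1).resolve_left hψ0) h]
    exact Submodule.mem_span_singleton_self _)
  have hx' : A.R φ ⊔ A.R ψ ≤ A.Wb x :=
    sup_le (hA.R_le (((A.mem_Asp hx).mp hφB.1).resolve_left hφ))
      (hA.R_le (((A.mem_Asp hx).mp hψB.1).resolve_left hψ0))
  have hy'' : A.R φ ⊔ A.R ψ ≤ A.Wb y :=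
    sup_le (hA.R_le (((A.mem_Asp hy0).mp hφB.2).resolve_left hφ))
      (hA.R_le (((A.mem_Asp hy0).mp hψB.2).resolve_left hψ0))
  have hgt : A.g < Module.finrank (ZMod 2) (A.R φ ⊔ A.R ψ : Submodule (ZMod 2) Q) := by
    rw [← A.finrank_R hφ]
    refine Submodule.finrank_lt_finrank_of_lt (lt_of_le_of_ne le_sup_left fun h => hne ?_)
    exact (Submodule.eq_of_le_of_finrank_eq (le_sup_right.trans h.symm.le)
      (by rw [A.finrank_R hφ, A.finrank_R hψ0])).symm
  have heq : A.R φ ⊔ A.R ψ = A.Wb x :=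
    Submodule.eq_of_le_of_finrank_le hx' (by rw [A.finrank_Wb hx, hA.equality.1]; omega)
  exact (Submodule.eq_of_le_of_finrank_eq (heq ▸ hy'')
    (by rw [A.finrank_Wb hx, A.finrank_Wb hy0])).symm

theorem Big.exists_functional (hA : A.Big) {x y : Q} (hx : x ≠ 0) (hy : y ∈ A.Wb x) {φ : P}
    (h : A.inA φ y) :
    ∃ f : Module.Dual (ZMod 2) (A.Wb x), f ≠ 0 ∧
      ∀ z : A.Wb x, f z = 0 ↔ (z : Q) ∈ A.R φ := by
  have : Module.Finite (ZMod 2) Q := Module.Finite.of_finite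
  have hφ := (A.inA_ne h).1
  have hle : A.R φ ≤ A.Wb x := hA.clique hx hy (A.inA_ne h).2 ▸ hA.R_le h
  set H : Submodule (ZMod 2) (A.Wb x) := (A.R φ).comap (A.Wb x).subtype
  have hH : Module.finrank (ZMod 2) H = A.g := by
    rw [(Submodule.comapSubtypeEquivOfLe hle).finrank_eq, A.finrank_R hφ]
  obtain ⟨z0, hz0⟩ : ∃ z0 : A.Wb x, z0 ∉ H := by
    by_contra hno
    push Not at hno
    have := Submodule.finrank_mono (R := ZMod 2) (show (⊤ : Submodule (ZMod 2) (A.Wb x)) ≤ H from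
      fun z _ => hno z)
    rw [finrank_top, hH, A.finrank_Wb hx] at this
    have := hA.big
    omega
  obtain ⟨f, hf0, hfH⟩ := H.exists_dual_map_eq_bot_of_notMem hz0 inferInstance
  refine ⟨f, fun h => hf0 (by rw [h]; rfl), fun z => ⟨fun hz => ?_, fun hz => ?_⟩⟩
  · have hker : H ≤ LinearMap.ker f := fun w hw => by
      have : f w ∈ H.map f := Submodule.mem_map_of_mem hw
      rw [hfH, Submodule.mem_bot] at this
      exact this
    have hlt : Module.finrank (ZMod 2) (LinearMap.ker f) < A.b := by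
      rw [← A.finrank_Wb hx]
      exact Submodule.finrank_lt (fun h => hf0 (LinearMap.congr_fun (LinearMap.ker_eq_top.mp h) z0))
    have := Submodule.eq_of_le_of_finrank_le hker (by rw [hH]; have := hA.equality.1; omega)
    exact (this.symm ▸ (show z ∈ LinearMap.ker f from hz) : z ∈ H)
  · have : f z ∈ H.map f := Submodule.mem_map_of_mem (show z ∈ H from hz)
    rwa [hfH, Submodule.mem_bot] at this

omit [Finite G] [Finite P] [Finite Q] in
theorem dual_eq_of_zero_iff {X : Type*} [AddCommGroup X] [Module (ZMod 2) X]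
    {f f' : Module.Dual (ZMod 2) X} (h : ∀ z, f z = 0 ↔ f' z = 0) : f = f' := by
  ext z
  rcases zmod_two_cases (f z) with h0 | h1
  · rw [h0, (h z).mp h0]
  · rw [h1]
    exact ((zmod_two_cases _).resolve_left fun h' => zero_ne_one (((h z).mpr h').symm.trans h1)).symm

theorem Big.exists_ker_point (hA : A.Big) {x : Q} (hx : x ≠ 0)
    (f f' : Module.Dual (ZMod 2) (A.Wb x)) : ∃ z : A.Wb x, z ≠ 0 ∧ f z = 0 ∧ f' z = 0 := by
  have : Module.Finite (ZMod 2) Q := Module.Finite.of_finite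
  have hlow := (f.prod f').finrank_range_add_finrank_ker
  have hr : Module.finrank (ZMod 2) (LinearMap.range (f.prod f')) ≤ 2 := by
    refine (Submodule.finrank_le _).trans ?_
    rw [Module.finrank_prod, Module.finrank_self]
  rw [A.finrank_Wb hx] at hlow
  obtain ⟨z, hz, hz0⟩ := (Submodule.ne_bot_iff _).mp
    (show LinearMap.ker (f.prod f') ≠ ⊥ from fun h => by
      rw [h, finrank_bot] at hlow
      have := hA.three
      have := hA.big
      omega)
  have hz' : (f z, f' z) = ((0 : ZMod 2), (0 : ZMod 2)) := hz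
  exact ⟨z, hz0, (Prod.ext_iff.mp hz').1, (Prod.ext_iff.mp hz').2⟩

theorem Big.exists_covector (hA : A.Big) {x : Q} (hx : x ≠ 0)
    {f : Module.Dual (ZMod 2) (A.Wb x)} (hf : f ≠ 0) :
    ∃ φ : P, ∀ z : A.Wb x, z ≠ 0 → (f z = 0 ↔ A.inA φ z) := by
  classical
  have : Module.Finite (ZMod 2) Q := Module.Finite.of_finite
  have : Finite (Module.Dual (ZMod 2) (A.Wb x)) :=
    Finite.of_injective (fun f => (f : A.Wb x → ZMod 2)) DFunLike.coe_injective
  obtain ⟨x1, hx1, hfx, -⟩ := hA.exists_ker_point hx f f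
  have hx1' : (x1 : Q) ≠ 0 := fun h => hx1 (Subtype.ext h)
  set X : Set (Module.Dual (ZMod 2) (A.Wb x)) := {f' | f' ≠ 0 ∧ f' x1 = 0}
  have hX : X.ncard + 1 = 2 ^ A.g := by
    set ev : Module.Dual (ZMod 2) (A.Wb x) →ₗ[ZMod 2] ZMod 2 :=
      Module.Dual.eval (ZMod 2) (A.Wb x) x1
    have hev : Function.Surjective ev := by
      intro c
      obtain ⟨f1, hf1⟩ := Module.Projective.exists_dual_eq_one (ZMod 2) hx1
      exact ⟨c • f1, by simp [ev, hf1]⟩
    have h := ev.finrank_range_add_finrank_ker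
    rw [LinearMap.range_eq_top.mpr hev, finrank_top, Module.finrank_self,
      Subspace.dual_finrank_eq, A.finrank_Wb hx, hA.equality.1] at h
    have hk : Module.finrank (ZMod 2) (LinearMap.ker ev) = A.g := by omega
    rw [← hk, ← card_eq_two_pow]
    show _ = Nat.card ↥(LinearMap.ker ev : Set (Module.Dual (ZMod 2) (A.Wb x)))
    rw [Nat.card_coe_set_eq]
    have hset : (LinearMap.ker ev : Set (Module.Dual (ZMod 2) (A.Wb x))) = insert 0 X := by
      ext f'
      simp only [SetLike.mem_coe, LinearMap.mem_ker, Set.mem_insert_iff, X, Set.mem_ofPred_eq]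
      constructor
      · intro h'
        by_cases h0 : f' = 0
        · exact Or.inl h0
        · exact Or.inr ⟨h0, h'⟩
      · rintro (rfl | ⟨-, h'⟩)
        · simp
        · exact h'
    rw [hset, Set.ncard_insert_of_notMem (fun h' => h'.1 rfl) (Set.toFinite _)]
  let F : P → Module.Dual (ZMod 2) (A.Wb x) := fun φ =>
    if h : A.inA φ (x1 : Q) then (hA.exists_functional hx x1.2 h).choose else 0
  have hF : ∀ φ, A.inA φ (x1 : Q) → F φ ≠ 0 ∧ ∀ z : A.Wb x, F φ z = 0 ↔ (z : Q) ∈ A.R φ :=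
    fun φ h => by
      simp only [F, dif_pos h]
      exact (hA.exists_functional hx x1.2 h).choose_spec
  have hinj : Set.InjOn F {φ | A.inA φ (x1 : Q)} := by
    intro φ hφ ψ hψ he
    refine hA.R_inj hφ hψ (le_antisymm ?_ ?_) <;> intro z hz
    · have hzC : z ∈ A.Wb x := hA.clique hx x1.2 hx1' ▸ hA.R_le hφ hz
      exact ((hF ψ hψ).2 ⟨z, hzC⟩).mp (he ▸ ((hF φ hφ).2 ⟨z, hzC⟩).mpr hz)
    · have hzC : z ∈ A.Wb x := hA.clique hx x1.2 hx1' ▸ hA.R_le hψ hz
      exact ((hF φ hφ).2 ⟨z, hzC⟩).mp (he ▸ ((hF ψ hψ).2 ⟨z, hzC⟩).mpr hz)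
  have himg : F '' {φ | A.inA φ (x1 : Q)} = X := by
    refine Set.eq_of_subset_of_ncard_le ?_ ?_ (Set.toFinite _)
    · rintro _ ⟨φ, hφ, rfl⟩
      exact ⟨(hF φ hφ).1, ((hF φ hφ).2 x1).mpr ((A.mem_R (A.inA_ne hφ).1).mpr (Or.inr hφ))⟩
    · rw [hinj.ncard_image]
      have := A.ncard_inA hx1'
      rw [A.finrank_Asp hx1'] at this
      omega
  obtain ⟨φ, hφ, hφf⟩ : f ∈ F '' {φ | A.inA φ (x1 : Q)} := himg ▸ (⟨hf, hfx⟩ : f ∈ X)
  refine ⟨φ, fun z hz => ?_⟩
  rw [← hφf, (hF φ hφ).2, A.mem_R (A.inA_ne hφ).1]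
  exact ⟨fun h => h.resolve_left fun h' => hz (Subtype.ext h'), Or.inr⟩

theorem Big.exists_proj (hA : A.Big) {x : Q} (hx : x ≠ 0) :
    ∃ π : Q →ₗ[ZMod 2] Q, (∀ z, π z ∈ A.Wb x) ∧ ∀ y ∈ A.Wb x, y ≠ 0 →
      ∀ z, z ∈ A.E y ↔ π z ∈ Submodule.span (ZMod 2) {y} := by
  classical
  have : Module.Finite (ZMod 2) Q := Module.Finite.of_finite
  let C := A.Wb x
  let Ψ : Module.Dual (ZMod 2) C → P := fun f =>
    if h : f = 0 then 0 else (hA.exists_covector hx h).choose
  have hΨ : ∀ f, f ≠ 0 → ∀ z : C, z ≠ 0 → (f z = 0 ↔ A.inA (Ψ f) z) := fun f h z hz => by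
    simp only [Ψ, dif_neg h]
    exact (hA.exists_covector hx h).choose_spec z hz
  have hzero : ∀ f, Ψ f = 0 ↔ f = 0 := by
    refine fun f => ⟨fun h => by_contra fun hf => ?_, fun h => by simp [Ψ, h]⟩
    obtain ⟨z, hz, hfz, -⟩ := hA.exists_ker_point hx f f
    exact (A.inA_ne ((hΨ f hf z hz).mp hfz)).1 h
  have hinj : ∀ f f', f ≠ 0 → f' ≠ 0 → Ψ f = Ψ f' → f = f' := fun f f' hf hf' he =>
    dual_eq_of_zero_iff fun z => by
      by_cases hz : z = 0
      · simp [hz]
      · rw [hΨ f hf z hz, hΨ f' hf' z hz, he]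
  have hadd : ∀ a b, Ψ (a + b) = Ψ a + Ψ b := by
    intro a b
    by_cases ha : a = 0
    · simp [ha, (hzero 0).mpr rfl]
    by_cases hb : b = 0
    · simp [hb, (hzero 0).mpr rfl]
    by_cases hab : a = b
    · subst hab
      rw [add_self_zero, add_self_zero, (hzero 0).mpr rfl]
    set χ := Ψ a + Ψ b
    have hχ : χ ≠ 0 := fun h => hab (hinj a b ha hb (add_eq_zero_iff'.mp h))
    have hinA : ∀ z : C, z ≠ 0 → a z = 0 → b z = 0 → A.inA χ z := by
      intro z hz h1 h2
      have hz' : (z : Q) ≠ 0 := fun h => hz (Subtype.ext h)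
      exact ((A.mem_Asp hz').mp (add_mem ((A.mem_Asp hz').mpr (Or.inr ((hΨ a ha z hz).mp h1)))
        ((A.mem_Asp hz').mpr (Or.inr ((hΨ b hb z hz).mp h2))))).resolve_left hχ
    obtain ⟨z1, hz1, hz1a, hz1b⟩ := hA.exists_ker_point hx a b
    obtain ⟨c, hc, hcspec⟩ := hA.exists_functional hx z1.2 (hinA z1 hz1 hz1a hz1b)
    have hΨc : Ψ c = χ := by
      refine hA.R_inj (x := (z1 : Q)) ((hΨ c hc z1 hz1).mp ((hcspec z1).mpr
        ((A.mem_R hχ).mpr (Or.inr (hinA z1 hz1 hz1a hz1b))))) (hinA z1 hz1 hz1a hz1b) ?_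
      have hc0 : Ψ c ≠ 0 := fun h => hc ((hzero c).mp h)
      have hz1' : (z1 : Q) ≠ 0 := fun h => hz1 (Subtype.ext h)
      have hzc : A.inA (Ψ c) z1 := (hΨ c hc z1 hz1).mp ((hcspec z1).mpr
        ((A.mem_R hχ).mpr (Or.inr (hinA z1 hz1 hz1a hz1b))))
      have hleC : A.R (Ψ c) ≤ A.Wb x := hA.clique hx z1.2 hz1' ▸ hA.R_le hzc
      refine Submodule.eq_of_le_of_finrank_eq ?_ (by rw [A.finrank_R hc0, A.finrank_R hχ])
      intro z hz
      rcases (A.mem_R hc0).mp hz with rfl | hz'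
      · exact zero_mem _
      · have hzne : (⟨z, hleC hz⟩ : C) ≠ 0 := fun h => (A.inA_ne hz').2 (congrArg Subtype.val h)
        exact (hcspec ⟨z, hleC hz⟩).mp ((hΨ c hc _ hzne).mpr hz')
    have hspan : c ∈ Submodule.span (ZMod 2) (Set.range ![a, b]) := by
      refine mem_span_of_iInf_ker_le_ker fun z hz => ?_
      simp only [Submodule.mem_iInf, LinearMap.mem_ker] at hz ⊢
      by_cases hz0 : z = 0
      · simp [hz0]
      · exact (hcspec z).mpr ((A.mem_R hχ).mpr (Or.inr (hinA z hz0 (hz 0) (hz 1))))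
    have hrange : Set.range ![a, b] = {a, b} := by
      simp [Matrix.range_cons, Matrix.range_empty]
      exact Set.pair_comm b a
    rw [hrange] at hspan
    rcases mem_span_pair'.mp hspan with h | h | h | h
    · exact absurd h hc
    · refine absurd ?_ (fun h' : Ψ b = 0 => hb ((hzero b).mp h'))
      have : Ψ a + Ψ b = Ψ a := hΨc.symm.trans (by rw [h])
      simpa using this
    · refine absurd ?_ (fun h' : Ψ a = 0 => ha ((hzero a).mp h'))
      have : Ψ a + Ψ b = Ψ b := hΨc.symm.trans (by rw [h])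
      simpa using this
    · rw [← h, hΨc]
  let Ψl : Module.Dual (ZMod 2) C →ₗ[ZMod 2] P :=
    { toFun := Ψ
      map_add' := hadd
      map_smul' := fun c f => by
        rcases zmod_two_cases c with rfl | rfl
        · simp [(hzero 0).mpr rfl]
        · simp }
  let π : Q →ₗ[ZMod 2] Q := C.subtype.comp ((Module.evalEquiv (ZMod 2) C).symm.toLinearMap.comp
    (Ψl.dualMap.comp A.D.β.flip))
  have hπC : ∀ z, π z ∈ C := fun z => Subtype.coe_prop _
  have hspec : ∀ (f : Module.Dual (ZMod 2) C) z, f ⟨π z, hπC z⟩ = A.D.β (Ψ f) z := by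
    intro f z
    exact Module.apply_evalEquiv_symm_apply (ZMod 2) C f _
  refine ⟨π, hπC, fun y hy hy0 z => ?_⟩
  set yC : C := ⟨y, hy⟩
  have hyC : yC ≠ 0 := fun h => hy0 (congrArg Subtype.val h)
  constructor
  · intro hz
    by_contra hno
    have hno' : (⟨π z, hπC z⟩ : C) ∉ Submodule.span (ZMod 2) {yC} := fun h => hno (by
      rcases mem_span_single.mp h with h | h
      · rw [show π z = 0 from congrArg Subtype.val h]; exact zero_mem _
      · rw [show π z = y from congrArg Subtype.val h]; exact Submodule.mem_span_singleton_self y)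
    obtain ⟨f, hf1, hf0⟩ := (Submodule.span (ZMod 2) {yC}).exists_dual_map_eq_bot_of_notMem hno'
      inferInstance
    have hfy : f yC = 0 := by
      have : f yC ∈ (Submodule.span (ZMod 2) {yC}).map f :=
        Submodule.mem_map_of_mem (Submodule.mem_span_singleton_self yC)
      rwa [hf0, Submodule.mem_bot] at this
    have hf : f ≠ 0 := fun h => hf1 (by rw [h]; rfl)
    rw [hspec] at hf1
    exact hf1 (hz _ ((hΨ f hf yC hyC).mp hfy))
  · intro hz φ hφ
    obtain ⟨c, hc, hcspec⟩ := hA.exists_functional hx hy hφ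
    have hyR : (yC : Q) ∈ A.R φ := (A.mem_R (A.inA_ne hφ).1).mpr (Or.inr hφ)
    have hcy : c yC = 0 := (hcspec yC).mpr hyR
    have hΨc : Ψ c = φ := by
      refine hA.R_inj ((hΨ c hc yC hyC).mp hcy) hφ ?_
      have hc0 : Ψ c ≠ 0 := fun h => hc ((hzero c).mp h)
      have hleC : A.R (Ψ c) ≤ A.Wb x := hA.clique hx hy hy0 ▸ hA.R_le ((hΨ c hc yC hyC).mp hcy)
      refine Submodule.eq_of_le_of_finrank_eq ?_ (by
        rw [A.finrank_R hc0, A.finrank_R (A.inA_ne hφ).1])
      intro w hw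
      rcases (A.mem_R hc0).mp hw with rfl | hw'
      · exact zero_mem _
      · have hwne : (⟨w, hleC hw⟩ : C) ≠ 0 := fun h => (A.inA_ne hw').2 (congrArg Subtype.val h)
        exact (hcspec ⟨w, hleC hw⟩).mp ((hΨ c hc _ hwne).mpr hw')
    rw [← hΨc, ← hspec]
    rcases mem_span_single.mp hz with h | h
    · rw [show (⟨π z, hπC z⟩ : C) = 0 from Subtype.ext h, map_zero]
    · rw [show (⟨π z, hπC z⟩ : C) = yC from Subtype.ext h, hcy]

end Anti

end Cfsg.Agent.Lib.SingerTrans
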