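import Cfsg.Agent.Lib.SingerTrans.Final

/-!
A two-transitive group seen at a point and at a hyperplane: both give antiflag transitive groups
and their invariants determine each other.
-/

namespace Cfsg.Agent.Lib.SingerTrans

variable {G : Type*} [Group G] [Finite G] {V P : Type*} [AddCommGroup V] [Module (ZMod 2) V]
  [AddCommGroup P] [Module (ZMod 2) P] [Finite V] [Finite P]
  {σ : Representation (ZMod 2) G P} {ρ : Representation (ZMod 2) G V}

/-- Two-transitivity passes to the dual side. -/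
theorem IsTwoTrans.dual (h : IsTwoTrans ρ) (D : Pair σ ρ) : IsTwoTrans σ := by
  constructor
  · intro φ φ' hφ hφ'
    obtain ⟨y, hy⟩ := D.swap.exists_one hφ
    change D.β φ y = 1 at hy
    obtain ⟨y', hy'⟩ := D.swap.exists_one hφ'
    change D.β φ' y' = 1 at hy'
    have hy0 : y ≠ 0 := by rintro rfl; simp at hy
    have hy0' : y' ≠ 0 := by rintro rfl; simp at hy'
    obtain ⟨g, -, rfl⟩ := h.trans y y' hy0 hy0'
    obtain ⟨k, -, hk⟩ := h.covectors D hy0' (φ := σ g φ) (rho_ne_zero hφ g) hφ'
      (by rw [D.inv, hy, hy'])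
    exact ⟨k * g, trivial, by rw [rho_mul, hk]⟩
  · intro φ ψ ψ' hφ hψ hψ'
    refine D.class_transitive' (fixer σ φ) ⊥ (Submodule.span (ZMod 2) {φ}) ?_ hψ hψ'
      (fun l hl => by rw [(Submodule.mem_bot (ZMod 2)).mp hl]; simp)
    intro y y' hy hy' hm
    have hy0 : y ≠ 0 := fun h0 => hy (h0 ▸ zero_mem _)
    have hy0' : y' ≠ 0 := fun h0 => hy' (h0 ▸ zero_mem _)
    obtain ⟨g, -, rfl⟩ := h.trans y y' hy0 hy0'
    obtain ⟨k, hk, hkφ⟩ := h.covectors D hy0' (φ := σ g φ) (rho_ne_zero hφ g) hφ
      (by rw [D.inv]; exact hm φ (Submodule.mem_span_singleton_self φ))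
    exact ⟨k * g, by rw [mem_fixer, rho_mul, hkφ], by rw [rho_mul, mem_fixer ρ |>.mp hk]⟩

omit [Finite G] [Finite V] in
theorem span_fix (v : V) : ∀ g ∈ fixer ρ v, ∀ w ∈ Submodule.span (ZMod 2) {v},
    ρ g w ∈ Submodule.span (ZMod 2) {v} := by
  intro g hg w hw
  rcases mem_span_single.mp hw with rfl | rfl
  · simp
  · rw [mem_fixer ρ |>.mp hg]; exact hw

omit [Finite G] [Finite V] [Finite P] in
theorem ann_fix (D : Pair σ ρ) (v : V) : ∀ g ∈ fixer ρ v,
    ∀ φ ∈ D.ann (Submodule.span (ZMod 2) {v}), σ g φ ∈ D.ann (Submodule.span (ZMod 2) {v}) := by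
  intro g hg φ hφ
  rw [D.mem_ann] at hφ ⊢
  intro w hw
  rw [D.inv_left]
  exact hφ _ (span_fix v g⁻¹ ((fixer ρ v).inv_mem hg) w hw)

instance finiteQuot (W : Submodule (ZMod 2) V) : Finite (V ⧸ W) :=
  Finite.of_surjective _ (Submodule.Quotient.mk_surjective W)

/-- The point stabiliser on the quotient by the point. -/
abbrev qRep (ρ : Representation (ZMod 2) G V) (v : V) :
    Representation (ZMod 2) (fixer ρ v) (V ⧸ Submodule.span (ZMod 2) {v}) :=
  quotRep ρ (fixer ρ v) _ (span_fix v)

/-- The point stabiliser on the covectors killing the point. -/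
abbrev aRep (D : Pair σ ρ) (v : V) :
    Representation (ZMod 2) (fixer ρ v) (D.ann (Submodule.span (ZMod 2) {v})) :=
  subRep σ (fixer ρ v) _ (ann_fix D v)

/-- The induced pairing at a point. -/
def pointPair (D : Pair σ ρ) (v : V) : Pair (aRep D v) (qRep ρ v) where
  β :=
    { toFun := fun φ => Submodule.liftQ _ (D.β φ.1) (fun w hw => D.mem_ann.mp φ.2 w hw)
      map_add' := fun a b => by
        apply Submodule.linearMap_qext
        ext x
        show D.β (a.1 + b.1) x = D.β a.1 x + D.β b.1 x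
        simp
      map_smul' := fun c a => by
        apply Submodule.linearMap_qext
        ext x
        show D.β (c • a.1) x = c • D.β a.1 x
        simp }
  inv g φ q := by
    obtain ⟨x, rfl⟩ := Submodule.Quotient.mk_surjective _ q
    exact D.inv (g : G) φ.1 x
  left φ hφ := Subtype.ext (D.left φ.1 fun q => hφ (Submodule.Quotient.mk q))
  right q hq := by
    obtain ⟨x, rfl⟩ := Submodule.Quotient.mk_surjective _ q
    refine (Submodule.Quotient.mk_eq_zero _).mpr (D.mem_of_ann fun p hp => ?_)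
    exact hq ⟨p, hp⟩

theorem pointPair_apply (D : Pair σ ρ) (v : V) (φ : D.ann (Submodule.span (ZMod 2) {v})) (x : V) :
    (pointPair D v).β φ (Submodule.Quotient.mk x) = D.β φ.1 x := rfl

omit [Finite G] in
theorem odd_nonzero {X : Type*} [AddCommGroup X] [Module (ZMod 2) X] [Finite X]
    (h : 0 < Module.finrank (ZMod 2) X) : Odd {x : X | x ≠ 0}.ncard := by
  rw [ncard_nonzero]
  obtain ⟨k, hk⟩ := Nat.exists_eq_add_of_le h
  rw [hk, pow_add]
  exact ⟨2 ^ k - 1, by have := Nat.one_le_two_pow (n := k); omega⟩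

/-- A Sylow subgroup with its fixed point and fixed covector. -/
structure Base (σ : Representation (ZMod 2) G P) (ρ : Representation (ZMod 2) G V) where
  D : Pair σ ρ
  two : IsTwoTrans ρ
  three_le : 3 ≤ Module.finrank (ZMod 2) V
  T : Sylow 2 G
  v : V
  hv : v ≠ 0
  fixv : ∀ g ∈ T, ρ g v = v
  φ : P
  hφ : φ ≠ 0
  fixφ : ∀ g ∈ T, σ g φ = φ

theorem exists_base (h : IsTwoTrans ρ) (D : Pair σ ρ) (h3 : 3 ≤ Module.finrank (ZMod 2) V) :
    Nonempty (Base σ ρ) := by
  set T : Sylow 2 G := default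
  obtain ⟨v, hv, hfv⟩ := exists_fixed ρ T.2 (X := {x : V | x ≠ 0})
    (fun g _ y hy => rho_ne_zero hy g) (odd_nonzero (by omega))
  obtain ⟨φ, hφ, hfφ⟩ := exists_fixed σ T.2 (X := {x : P | x ≠ 0})
    (fun g _ y hy => rho_ne_zero hy g) (odd_nonzero (by rw [D.finrank_eq]; omega))
  exact ⟨⟨D, h, h3, T, v, hv, hfv, φ, hφ, hfφ⟩⟩

namespace Base

variable (B : Base σ ρ)

/-- Interchange points and covectors. -/
def swap : Base ρ σ where
  D := B.D.swap
  two := B.two.dual B.D
  three_le := B.D.finrank_eq.symm ▸ B.three_le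
  T := B.T
  v := B.φ
  hv := B.hφ
  fixv := B.fixφ
  φ := B.v
  hφ := B.hv
  fixφ := B.fixv

theorem beta_zero : B.D.β B.φ B.v = 0 := by
  refine (zmod_two_cases _).resolve_right fun h => ?_
  have := Fact.mk Nat.prime_two
  have hset : orb σ (fixer ρ B.v) B.φ =
      {ψ : P | ∀ w ∈ Submodule.span (ZMod 2) {B.v}, B.D.β ψ w = B.D.β B.φ w} := by
    ext ψ
    constructor
    · rintro ⟨g, hg, rfl⟩
      exact beta_res (by rw [← B.D.inv g B.φ B.v, mem_fixer ρ |>.mp hg])
    · intro hψ
      have hψ' := hψ B.v (Submodule.mem_span_singleton_self _)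
      exact B.two.covectors B.D B.hv B.hφ (ne_of_beta (hψ'.trans h)) hψ'.symm
  have hlow := orbit_lower σ (K := fixer ρ B.v) (T := (B.T : Subgroup G)) B.fixv B.T.2
    (N := Nat.card (B.T : Subgroup G)) (a := 0)
    (fun m hm => Nat.le_of_dvd Nat.card_pos
      (B.T.pow_dvd_card_of_pow_dvd_card (hm.trans (Subgroup.card_subgroup_dvd_card _))))
    (by simp) (x := B.φ) (s := Module.finrank (ZMod 2) V - 1)
    (by rw [hset, B.D.ncard_class, finrank_span_singleton B.hv])
  have h1 : orb σ (B.T : Subgroup G) B.φ ⊆ {B.φ} := by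
    rintro χ ⟨g, hg, rfl⟩
    exact B.fixφ g hg
  have h2 := Set.ncard_le_ncard h1
  rw [Set.ncard_singleton] at h2
  have h3 := B.three_le
  have h4 : 2 ^ 1 ≤ 2 ^ (Module.finrank (ZMod 2) V - 1) :=
    Nat.pow_le_pow_right two_pos (by omega)
  omega

theorem exists_coset : ∃ x : V ⧸ Submodule.span (ZMod 2) {B.v}, x ≠ 0 ∧
    ∀ g : fixer ρ B.v, (g : G) ∈ B.T → qRep ρ B.v g x = x := by
  have : Module.Finite (ZMod 2) V := Module.Finite.of_finite
  set W := Submodule.span (ZMod 2) {B.v}
  have : Finite (V ⧸ W) := Finite.of_surjective _ (Submodule.Quotient.mk_surjective W)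
  have hle : (B.T : Subgroup G) ≤ fixer ρ B.v := B.fixv
  obtain ⟨x, hx, hfix⟩ := exists_fixed (qRep ρ B.v)
    (T := ((B.T.subtype hle : Sylow 2 (fixer ρ B.v)) : Subgroup (fixer ρ B.v)))
    (B.T.subtype hle).2 (X := {x | x ≠ 0}) (fun g _ y hy => rho_ne_zero hy g) (odd_nonzero (X := V ⧸ W) (by
      have h := W.finrank_quotient_add_finrank
      rw [finrank_span_singleton B.hv] at h
      have := B.three_le
      omega))
  exact ⟨x, hx, fun g hg => hfix g hg⟩

omit [Finite G] [Finite P] in
theorem finrank_point :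
    Module.finrank (ZMod 2) (V ⧸ Submodule.span (ZMod 2) {B.v}) + 1 =
      Module.finrank (ZMod 2) V := by
  have : Module.Finite (ZMod 2) V := Module.Finite.of_finite
  have h := (Submodule.span (ZMod 2) {B.v}).finrank_quotient_add_finrank
  rwa [finrank_span_singleton B.hv] at h

/-- The antiflag transitive group at the fixed point. -/
noncomputable def point : Anti (aRep B.D B.v) (qRep ρ B.v) where
  D := pointPair B.D B.v
  two_le := by
    have := B.finrank_point
    have := B.three_le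
    omega
  trans x y hx hy := by
    obtain ⟨x, rfl⟩ := Submodule.Quotient.mk_surjective _ x
    obtain ⟨y, rfl⟩ := Submodule.Quotient.mk_surjective _ y
    obtain ⟨g, hg, hgx⟩ := B.two.trans₂ B.v x y B.hv
      (fun h => hx ((Submodule.Quotient.mk_eq_zero _).mpr h))
      (fun h => hy ((Submodule.Quotient.mk_eq_zero _).mpr h))
    exact ⟨⟨g, hg⟩, trivial, by rw [quotRep_mk, hgx]⟩
  cls x φ φ' h h' := by
    obtain ⟨u, rfl⟩ := Submodule.Quotient.mk_surjective _ x
    rw [pointPair_apply] at h h'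
    have hv0 : ∀ ψ : B.D.ann (Submodule.span (ZMod 2) {B.v}), B.D.β ψ.1 B.v = 0 := fun ψ =>
      B.D.mem_ann.mp ψ.2 _ (Submodule.mem_span_singleton_self _)
    have hu0 : u ≠ 0 := by rintro rfl; simp at h
    have hvu : B.v ∉ Submodule.span (ZMod 2) {u} := fun hm => by
      rcases mem_span_single.mp hm with h0 | h0
      · exact B.hv h0
      · have h1 : B.D.β φ.1 B.v = 1 := (congrArg (B.D.β φ.1) h0).trans h
        exact one_ne_zero (h1.symm.trans (hv0 φ))
    obtain ⟨g, hg, hgφ⟩ := B.two.line_class B.D hu0 hvu h h' ((hv0 φ).trans (hv0 φ').symm)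
    exact ⟨⟨g, hg.2⟩, (congrArg Submodule.Quotient.mk hg.1), Subtype.ext hgφ⟩
  S := B.T.subtype B.fixv
  x0 := B.exists_coset.choose
  hx0 := B.exists_coset.choose_spec.1
  fixx g hg := B.exists_coset.choose_spec.2 g hg
  φ0 := ⟨B.φ, B.D.mem_ann.mpr fun w hw => by
    rcases mem_span_single.mp hw with rfl | rfl
    · simp
    · exact B.beta_zero⟩
  hφ0 h := B.hφ (congrArg Subtype.val h)
  fixφ g hg := Subtype.ext (B.fixφ g hg)

theorem point_dim : B.point.dim + 1 = Module.finrank (ZMod 2) V := B.finrank_point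

/-- The covector rank at the point is one more than the incidence rank at the hyperplane. -/
theorem b_eq : B.point.swap.b = B.swap.point.g + 1 := by
  have : Module.Finite (ZMod 2) V := Module.Finite.of_finite
  have : Module.Finite (ZMod 2) P := Module.Finite.of_finite
  set A := B.point.swap with hA
  set A' := B.swap.point with hA'
  set N := Submodule.span (ZMod 2) {B.φ}
  have : Finite (V ⧸ Submodule.span (ZMod 2) {B.v}) :=
    Finite.of_surjective _ (Submodule.Quotient.mk_surjective _)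
  have : Finite (P ⧸ N) := Finite.of_surjective _ (Submodule.Quotient.mk_surjective _)
  have hsub : ∀ g : G, g ∈ B.T → g ∈ fixer ρ B.v := B.fixv
  -- the small orbit of `A.w0` is a coset of `⟨φ⟩`
  have hw : ∀ g : G, g ∈ B.T → σ g A.w0.1 + A.w0.1 ∈ N := by
    intro g hg
    by_cases heq : σ g A.w0.1 = A.w0.1
    · rw [heq, add_self_zero]
      exact zero_mem _
    refine Submodule.mem_span_singleton.mpr ⟨1, ?_⟩
    rw [one_smul]
    set g' : fixer ρ B.v := ⟨g, hsub g hg⟩
    set z : ↥(B.D.ann (Submodule.span (ZMod 2) {B.v})) :=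
      ⟨σ g A.w0.1 + A.w0.1, add_mem (ann_fix B.D B.v g (hsub g hg) _ A.w0.2) A.w0.2⟩
    have horb : orb (aRep B.D B.v) (A.S : Subgroup (fixer ρ B.v)) A.w0 =
        {A.w0, aRep B.D B.v g' A.w0} := by
      refine (Set.eq_of_subset_of_ncard_le ?_ ?_ (Set.toFinite _)).symm
      · rintro y (rfl | rfl)
        · exact mem_orb_self _ _ _
        · exact ⟨g', hg, rfl⟩
      · rw [Set.ncard_pair]
        · exact A.w0_orb
        · exact fun h => heq (congrArg Subtype.val h).symm
    have hfix : ∀ k ∈ A.S, aRep B.D B.v k z = z := by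
      intro k hk
      have hz : z = aRep B.D B.v g' A.w0 + A.w0 := rfl
      have h1 : aRep B.D B.v k A.w0 ∈ orb (aRep B.D B.v) (A.S : Subgroup _) A.w0 := ⟨k, hk, rfl⟩
      have h2 : aRep B.D B.v k (aRep B.D B.v g' A.w0) ∈
          orb (aRep B.D B.v) (A.S : Subgroup _) A.w0 := orb_smul _ hk ⟨g', hg, rfl⟩
      rw [horb] at h1 h2
      have hne : aRep B.D B.v k A.w0 ≠ aRep B.D B.v k (aRep B.D B.v g' A.w0) := fun h =>
        heq (congrArg Subtype.val (rho_injective _ k h)).symm
      rw [hz, map_add]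
      simp only [Set.mem_insert_iff, Set.mem_singleton_iff] at h1 h2
      rcases h1 with h1 | h1 <;> rcases h2 with h2 | h2 <;>
        first
          | exact absurd (h1.trans h2.symm) hne
          | (rw [h1, h2] <;> exact add_comm _ _)
          | rw [h1, h2]
    have hz0 : z ≠ 0 := fun h => heq (add_eq_zero_iff'.mp (congrArg Subtype.val h))
    exact (congrArg Subtype.val (A.unique_fix hz0 hfix)).symm
  have hψ : (Submodule.Quotient.mk A.w0.1 : P ⧸ N) = A'.x0 := by
    refine A'.unique_fix (fun h => A.w0_notMem ?_) ?_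
    · rcases mem_span_single.mp ((Submodule.Quotient.mk_eq_zero N).mp h) with h0 | h0
      · exact (show A.w0 = 0 from Subtype.ext h0) ▸ zero_mem _
      · exact (show A.w0 = A.x0 from Subtype.ext h0) ▸ Submodule.mem_span_singleton_self _
    · intro g hg
      show (Submodule.Quotient.mk (σ g.1 A.w0.1) : P ⧸ N) = Submodule.Quotient.mk A.w0.1
      rw [Submodule.Quotient.eq, sub_eq_add_neg, neg_eq]
      exact hw g.1 hg
  set vv : ↥(B.swap.D.ann (Submodule.span (ZMod 2) {B.swap.v})) := A'.φ0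
  have hvv : vv ≠ 0 := A'.hφ0
  -- the pullback of the incidence space of the hyperplane
  set L : Submodule (ZMod 2) P := (A.Wb A.x0).map (Submodule.subtype _)
  set M : Submodule (ZMod 2) (P ⧸ N) := A'.R A'.φ0
  have key : L = M.comap N.mkQ := by
    ext y
    constructor
    · rintro ⟨w, hw', rfl⟩
      show N.mkQ w.1 ∈ M
      rcases (A.mem_Wb A.hx0).mp hw' with h | ⟨k, rfl, hk⟩
      · rcases mem_span_single.mp h with rfl | rfl
        · simp
        · rw [Submodule.mkQ_apply, (Submodule.Quotient.mk_eq_zero N).mpr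
            (show A.x0.1 ∈ N from Submodule.mem_span_singleton_self _)]
          exact zero_mem _
      · refine (A'.mem_R A'.hφ0).mpr (Or.inr ?_)
        refine ⟨⟨k.1, congrArg Subtype.val hk⟩, Subtype.ext (mem_fixer ρ |>.mp k.2), ?_⟩
        rw [← hψ]
        rfl
    · intro hy
      rcases (A'.mem_R A'.hφ0).mp hy with h | ⟨k, hk1, hk2⟩
      · rcases mem_span_single.mp ((Submodule.Quotient.mk_eq_zero N).mp h) with rfl | rfl
        · exact zero_mem _
        · exact ⟨A.x0, A.self_mem_Wb _, rfl⟩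
      · have hkv : ρ k.1 B.v = B.v := congrArg Subtype.val hk1
        set k' : fixer ρ B.v := ⟨k.1, hkv⟩
        rw [← hψ] at hk2
        change (Submodule.Quotient.mk (σ k.1 A.w0.1) : P ⧸ N) = Submodule.Quotient.mk y at hk2
        rw [Submodule.Quotient.eq, sub_eq_add_neg, neg_eq] at hk2
        have hw' : aRep B.D B.v k' A.w0 ∈ A.Wb A.x0 := Submodule.subset_span
          (Or.inl ⟨k', rfl, Subtype.ext (show σ k.1 B.φ = B.φ from k.2)⟩)
        have hyeq : y = σ k.1 A.w0.1 + (σ k.1 A.w0.1 + y) := by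
          rw [← add_assoc, add_self_zero, zero_add]
        rw [hyeq]
        refine add_mem ⟨_, hw', rfl⟩ ?_
        rcases mem_span_single.mp hk2 with h | h
        · rw [h]; exact zero_mem _
        · rw [h]; exact ⟨A.x0, A.self_mem_Wb _, rfl⟩
  have hL : Module.finrank (ZMod 2) L = A.b := by
    rw [Submodule.finrank_map_subtype_eq]
    rfl
  have hM : Module.finrank (ZMod 2) M = A'.g := A'.finrank_R A'.hφ0
  set f : (M.comap N.mkQ) →ₗ[ZMod 2] M := N.mkQ.restrict (fun _ h => h)
  have hf : Function.Surjective f := by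
    rintro ⟨m, hm⟩
    obtain ⟨y, rfl⟩ := N.mkQ_surjective m
    exact ⟨⟨y, hm⟩, rfl⟩
  have hker : Module.finrank (ZMod 2) (LinearMap.ker f) = 1 := by
    have hmap : (LinearMap.ker f).map (Submodule.subtype _) = N := by
      ext y
      constructor
      · rintro ⟨z, hz, rfl⟩
        exact (Submodule.Quotient.mk_eq_zero N).mp (congrArg Subtype.val (LinearMap.mem_ker.mp hz))
      · intro hy
        have h0 : N.mkQ y = 0 := (Submodule.Quotient.mk_eq_zero N).mpr hy
        exact ⟨⟨y, by rw [Submodule.mem_comap, h0]; exact zero_mem _⟩, Subtype.ext h0, rfl⟩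
    rw [← Submodule.finrank_map_subtype_eq, hmap, finrank_span_singleton B.hφ]
  have h := f.finrank_range_add_finrank_ker
  rw [LinearMap.range_eq_top.mpr hf, finrank_top, hker, hM, ← key, hL] at h
  exact h.symm

end Base

end Cfsg.Agent.Lib.SingerTrans
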