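import Cfsg.Agent.Lib.SingerTrans.Field
import Cfsg.Agent.Lib.SingerTrans.Generate
import Cfsg.Agent.Lib.NumberTheory.Zsigmondy

/-!
If the incidence rank at a point is maximal, the normaliser of a Sylow subgroup for a primitive
prime of `2 ^ (n - 2) - 1` contains a transvection (`n` odd).
-/

namespace Cfsg.Agent.Lib.SingerTrans

variable {G : Type*} [Group G] [Finite G] {V P : Type*} [AddCommGroup V] [Module (ZMod 2) V]
  [AddCommGroup P] [Module (ZMod 2) P] [Finite V] [Finite P]
  {σ : Representation (ZMod 2) G P} {ρ : Representation (ZMod 2) G V}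

theorem dvd_of_primitive {r m k : ℕ} (hr : r.Prime) (hord : orderOf (2 : ZMod r) = m)
    (h : r ∣ 2 ^ k - 1) : m ∣ k := by
  have : Fact r.Prime := ⟨hr⟩
  rw [← hord]
  refine orderOf_dvd_of_pow_eq_one ?_
  have h1 : ((2 ^ k - 1 : ℕ) : ZMod r) = 0 := (ZMod.natCast_eq_zero_iff _ _).mpr h
  rw [Nat.cast_sub Nat.one_le_two_pow, sub_eq_zero] at h1
  push_cast at h1
  exact h1

theorem two_zpow_fix {a : G} {x : V} (h : ρ a x = x) :
    ∀ g ∈ Subgroup.zpowers a, ρ g x = x := fun _ hg =>
  (Subgroup.zpowers_le.mpr (show a ∈ fixer ρ x from h)) hg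

/-- The fixed vectors of an element of prime order `r`, modulo `r`. -/
theorem card_fixed_mod {r : ℕ} (hr : r.Prime) {a : G} (ha : a ^ r = 1)
    (W : Submodule (ZMod 2) V) (hW : ∀ w ∈ W, ρ a w ∈ W) :
    2 ^ Module.finrank (ZMod 2) W ≡
      2 ^ Module.finrank (ZMod 2) (LinearMap.ker (ρ a + 1) ⊓ W : Submodule (ZMod 2) V) [MOD r] := by
  have : Fact r.Prime := ⟨hr⟩
  have hp : IsPGroup r (Subgroup.zpowers a) := by
    intro g
    obtain ⟨k, hk⟩ := Subgroup.mem_zpowers_iff.mp g.2
    refine ⟨1, Subtype.ext ?_⟩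
    push_cast
    rw [pow_one, ← hk, ← zpow_natCast, ← zpow_mul, mul_comm, zpow_mul, zpow_natCast, ha, one_zpow]
  have hW' : ∀ g ∈ Subgroup.zpowers a, ∀ w ∈ W, ρ g w ∈ W := by
    intro g hg
    obtain ⟨k, rfl⟩ := mem_powers_iff_mem_zpowers.mpr hg
    induction k with
    | zero => intro w hw; simpa using hw
    | succ k ih =>
      intro w hw
      show ρ (a ^ (k + 1)) w ∈ W
      rw [pow_succ', rho_mul]
      exact hW _ (ih (Subgroup.pow_mem _ (Subgroup.mem_zpowers a) k) w hw)
  letI : MulAction (Subgroup.zpowers a) W :=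
    { smul := fun k y => ⟨ρ (k : G) y, hW' _ k.2 _ y.2⟩
      one_smul := fun y => Subtype.ext (by show ρ ((1 : Subgroup.zpowers a) : G) (y : V) = y; simp)
      mul_smul := fun x y z => Subtype.ext (rho_mul ρ x y z) }
  have h := hp.card_modEq_card_fixedPoints W
  rw [card_eq_two_pow] at h
  convert h using 1
  have : MulAction.fixedPoints (Subgroup.zpowers a) W = {w : W | ρ a (w : V) = w} := by
    ext w
    exact ⟨fun hw => congrArg Subtype.val (hw ⟨a, Subgroup.mem_zpowers a⟩),
      fun hw k => Subtype.ext (two_zpow_fix hw _ k.2)⟩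
  rw [this, ← card_eq_two_pow]
  refine Nat.card_congr
    { toFun := fun w => ⟨⟨w.1, w.2.2⟩, ?_⟩
      invFun := fun w => ⟨w.1.1, ?_, w.1.2⟩
      left_inv := fun w => rfl
      right_inv := fun w => rfl }
  · show ρ a w.1 = w.1
    exact add_eq_zero_iff'.mp (LinearMap.mem_ker.mp w.2.1)
  · exact LinearMap.mem_ker.mpr (add_eq_zero_iff'.mpr w.2)

theorem orderOf_unit_pow {X : Type*} [AddCommGroup X] [Module (ZMod 2) X]
    (u : Module.End (ZMod 2) X) : ∀ t : ℕ, (u + 1) ^ 2 ^ t = u ^ 2 ^ t + 1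
  | 0 => by simp
  | t + 1 => by
    have h2 : u ^ 2 ^ t + u ^ 2 ^ t = 0 := LinearMap.ext fun x => add_self_zero _
    rw [pow_succ, pow_mul, orderOf_unit_pow u t, pow_mul, sq, sq, add_mul, mul_add, mul_add,
      one_mul, mul_one, one_mul, add_assoc, ← add_assoc (u ^ 2 ^ t) (u ^ 2 ^ t), h2, zero_add]

namespace Base

variable (B : Base σ ρ)

/-- The maximal case. -/
theorem transvection_of_top (hinj : Function.Injective ρ) (hodd : Odd (Module.finrank (ZMod 2) V))
    (h5 : 5 ≤ Module.finrank (ZMod 2) V) (htop : ¬ B.point.g + 2 ≤ B.point.dim) :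
    HasTransvection ρ := by
  classical
  have : Module.Finite (ZMod 2) V := Module.Finite.of_finite
  set n := Module.finrank (ZMod 2) V with hn
  obtain ⟨m, hm⟩ : ∃ m, n = m + 2 := ⟨n - 2, by omega⟩
  have hm_odd : Odd m := by obtain ⟨j, hj⟩ := hodd; exact ⟨j - 1, by omega⟩
  have hm3 : 3 ≤ m := by omega
  obtain ⟨r, hr, hord⟩ := NumberTheory.exists_primitive_prime (q := 2) (n := m) le_rfl (by omega)
    (fun h => by obtain ⟨j, hj⟩ := hm_odd; omega) (fun h => by omega)
  rw [Nat.cast_ofNat] at hord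
  have hr' : Fact r.Prime := ⟨hr⟩
  have hr2 : r ≠ 2 := by
    rintro rfl
    rw [show (2 : ZMod 2) = 0 from rfl, orderOf_zero] at hord
    omega
  have hrm : r ∣ 2 ^ m - 1 := by
    rw [← ZMod.natCast_eq_zero_iff, Nat.cast_sub Nat.one_le_two_pow, sub_eq_zero]
    push_cast
    rw [← hord]
    exact pow_orderOf_eq_one _
  -- the base line
  obtain ⟨u, hu⟩ := Submodule.Quotient.mk_surjective _ B.point.x0
  have huv : u ∉ Submodule.span (ZMod 2) {B.v} := fun h =>
    B.point.hx0 (hu ▸ (Submodule.Quotient.mk_eq_zero _).mpr h)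
  have hu0 : u ≠ 0 := fun h => huv (h ▸ zero_mem _)
  set K : Subgroup G := fixer ρ B.v ⊓ fixer ρ u with hK
  have hrK : r ∣ Nat.card K := by
    set J : Subgroup G := (fixer (qRep ρ B.v) B.point.x0).map (fixer ρ B.v).subtype
    have hJle : J ≤ fixer ρ B.v := Subgroup.map_subtype_le _
    have hJK : J ⊓ fixer ρ u = K := by
      apply le_antisymm
      · exact fun g hg => ⟨hJle hg.1, hg.2⟩
      · intro g hg
        refine ⟨⟨⟨g, hg.1⟩, ?_, rfl⟩, hg.2⟩
        show qRep ρ B.v ⟨g, hg.1⟩ B.point.x0 = B.point.x0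
        rw [← hu, quotRep_mk]
        exact congrArg _ hg.2
    have hJ1 := orb_ncard_mul ρ J u
    rw [hJK] at hJ1
    have hsub : orb ρ J u ⊆ {u, u + B.v} := by
      rintro y ⟨g, ⟨k, hk, rfl⟩, rfl⟩
      have hk' : qRep ρ B.v k B.point.x0 = B.point.x0 := hk
      rw [← hu, quotRep_mk, Submodule.Quotient.eq] at hk'
      rcases mem_span_single.mp hk' with h | h
      · exact Or.inl (sub_eq_zero.mp h)
      · exact Or.inr (sub_eq_iff_eq_add'.mp h)
    have h2 : (orb ρ J u).ncard ≤ 2 :=
      (Set.ncard_le_ncard hsub).trans ((Set.ncard_insert_le _ _).trans (by simp))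
    have hrJ : r ∣ Nat.card J := by
      rw [Subgroup.card_map_of_injective (Subgroup.subtype_injective _)]
      have hE : Module.finrank (ZMod 2) (B.point.E B.point.x0) ≤ 1 := by
        have := B.point.finrank_E B.point.hx0
        omega
      have hspan : B.point.E B.point.x0 = Submodule.span (ZMod 2) {B.point.x0} := by
        refine (Submodule.eq_of_le_of_finrank_le ?_ ?_).symm
        · exact Submodule.span_le.mpr (Set.singleton_subset_iff.mpr (B.point.self_mem_E _))
        · rw [finrank_span_singleton B.point.hx0]; exact hE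
      have : Module.Finite (ZMod 2) (V ⧸ Submodule.span (ZMod 2) {B.v}) := Module.Finite.of_finite
      obtain ⟨y, hy⟩ : ∃ y, y ∉ B.point.E B.point.x0 := by
        by_contra hno
        push Not at hno
        have h1 := Submodule.finrank_mono (R := ZMod 2)
          (show (⊤ : Submodule (ZMod 2) (V ⧸ Submodule.span (ZMod 2) {B.v})) ≤
            B.point.E B.point.x0 from fun z _ => hno z)
        rw [finrank_top] at h1
        have := B.point.two_le
        omega
      have horb : orb (qRep ρ B.v) (fixer (qRep ρ B.v) B.point.x0) y =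
          (B.point.E B.point.x0 : Set _)ᶜ := by
        ext z
        constructor
        · rintro ⟨g, hg, rfl⟩ hz
          refine hy ?_
          rw [← B.point.E_smul_iff g, mem_fixer _ |>.mp hg]
          exact hz
        · intro hz
          exact B.point.outside_E hy hz
      refine Dvd.dvd.trans ?_ (Dvd.intro _ (orb_ncard_mul (qRep ρ B.v) _ y))
      rw [horb, Set.ncard_compl, card_eq_two_pow, ← Nat.card_coe_set_eq]
      show r ∣ _ - Nat.card (B.point.E B.point.x0)
      rw [card_eq_two_pow, hspan, finrank_span_singleton B.point.hx0]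
      have hd := B.finrank_point
      rw [show Module.finrank (ZMod 2) (V ⧸ Submodule.span (ZMod 2) {B.v}) = m + 1 by omega,
        pow_succ, pow_one, mul_comm, ← Nat.mul_sub_one]
      exact dvd_mul_of_dvd_right hrm 2
    rw [← hJ1] at hrJ
    refine (hr.dvd_mul.mp hrJ).resolve_left fun h => ?_
    have h3 := Nat.le_of_dvd (orb_ncard_pos ρ J u) h
    have := hr.two_le
    omega
  -- a Sylow subgroup
  set R : Sylow r K := default
  have hR1 : (R : Subgroup K) ≠ ⊥ := R.ne_bot_of_dvd_card hrK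
  set R' : Subgroup G := (R : Subgroup K).map K.subtype
  have hR'p : IsPGroup r R' := R.2.map _
  have hR'K : R' ≤ K := Subgroup.map_subtype_le _
  have hR'1 : R' ≠ ⊥ := fun h => hR1 ((Subgroup.map_eq_bot_iff_of_injective _
    (Subgroup.subtype_injective _)).mp h)
  -- the swap
  have hvu : B.v ∉ Submodule.span (ZMod 2) {u} := fun h => by
    rcases mem_span_single.mp h with h | h
    · exact B.hv h
    · exact huv (h ▸ Submodule.mem_span_singleton_self _)
  obtain ⟨h1, -, hh1⟩ := B.two.trans B.v u B.hv hu0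
  have hh2 : ρ h1 u ∉ Submodule.span (ZMod 2) {u} := fun h => by
    rcases mem_span_single.mp h with h | h
    · exact hu0 (rho_injective ρ h1 (h.trans (map_zero _).symm))
    · exact huv (by rw [rho_injective ρ h1 (h.trans hh1.symm)]
                    exact Submodule.mem_span_singleton_self _)
  obtain ⟨h2, hh3, hh4⟩ := B.two.trans₂ u (ρ h1 u) B.v hu0 hh2 hvu
  set s := h2 * h1
  have hs1 : ρ s B.v = u := by rw [rho_mul, hh1]; exact hh3
  have hs2 : ρ s u = B.v := by rw [rho_mul]; exact hh4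
  have hnorm : ∀ x ∈ K, s * x * s⁻¹ ∈ K := by
    intro x hx
    refine ⟨?_, ?_⟩
    · show ρ (s * x * s⁻¹) B.v = B.v
      rw [rho_mul, rho_mul]
      conv_lhs => rw [← hs2, rho_inv_cancel, mem_fixer ρ |>.mp hx.2, hs2]
    · show ρ (s * x * s⁻¹) u = u
      rw [rho_mul, rho_mul]
      conv_lhs => rw [← hs1, rho_inv_cancel, mem_fixer ρ |>.mp hx.1, hs1]
  obtain ⟨g0, hg0v, hg0u, hg0n⟩ : ∃ g : G, ρ g B.v = u ∧ ρ g u = B.v ∧
      ∀ x ∈ R', g * x * g⁻¹ ∈ R' := by
    set S' : Subgroup G := R'.map (MulAut.conj s).toMonoidHom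
    have hS'K : S' ≤ K := by
      rintro _ ⟨x, hx, rfl⟩
      exact hnorm x (hR'K hx)
    have hS'p : IsPGroup r (S'.subgroupOf K) := (hR'p.map _).comap_subtype
    obtain ⟨Q0, hQ0⟩ := hS'p.exists_le_sylow
    obtain ⟨k, hk⟩ := MulAction.exists_smul_eq K Q0 R
    refine ⟨(k : G) * s, by rw [rho_mul, hs1]; exact k.2.2, by rw [rho_mul, hs2]; exact k.2.1,
      fun x hx => ?_⟩
    have hmem : (⟨s * x * s⁻¹, hnorm x (hR'K hx)⟩ : K) ∈ (Q0 : Subgroup K) :=
      hQ0 (Subgroup.mem_subgroupOf.mpr ⟨x, hx, rfl⟩)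
    refine ⟨k * ⟨s * x * s⁻¹, hnorm x (hR'K hx)⟩ * k⁻¹, ?_, ?_⟩
    · rw [← hk]
      exact Subgroup.smul_mem_pointwise_smul _ (MulAut.conj k) _ hmem
    · simp [mul_assoc]
  obtain ⟨t, g, hgv, hgu, hgn, hgt⟩ : ∃ (t : ℕ) (g : G), ρ g B.v = u ∧ ρ g u = B.v ∧
      (∀ x ∈ R', g * x * g⁻¹ ∈ R') ∧ g ^ 2 ^ t = 1 := by
    obtain ⟨t, q, hq, hord'⟩ := Nat.exists_eq_two_pow_mul_odd (orderOf_pos g0).ne'
    have hpow : ∀ j, ρ (g0 ^ (2 * j + 1)) B.v = u ∧ ρ (g0 ^ (2 * j + 1)) u = B.v := by
      intro j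
      induction j with
      | zero => simp [hg0v, hg0u]
      | succ j ih =>
        rw [show 2 * (j + 1) + 1 = 2 + (2 * j + 1) by ring, pow_add, sq]
        simp only [rho_mul, ih.1, ih.2, hg0v, hg0u, and_self]
    obtain ⟨j, rfl⟩ := hq
    refine ⟨t, g0 ^ (2 * j + 1), (hpow j).1, (hpow j).2, ?_, ?_⟩
    · intro x hx
      generalize 2 * j + 1 = e
      induction e with
      | zero => simpa using hx
      | succ e ih =>
        have := hg0n _ ih
        rwa [pow_succ', mul_inv_rev, show g0 * g0 ^ e * x * ((g0 ^ e)⁻¹ * g0⁻¹) =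
          g0 * (g0 ^ e * x * (g0 ^ e)⁻¹) * g0⁻¹ by group]
    · rw [← pow_mul, mul_comm, ← hord', pow_orderOf_eq_one]
  -- a central element of order `r`
  have : Nontrivial R' := (Subgroup.nontrivial_iff_ne_bot R').mpr hR'1
  have : Nontrivial (Subgroup.center R') := hR'p.center_nontrivial
  obtain ⟨z, hz⟩ := exists_ne (1 : Subgroup.center R')
  have hz1 : ((z : R') : G) ≠ 1 := fun h => hz (Subtype.ext (Subtype.ext h))
  obtain ⟨j, hj⟩ := hR'p ⟨_, (z : R').2⟩
  obtain ⟨a, haz, ha1, har⟩ : ∃ a : G, (∃ i : ℕ, a = ((z : R') : G) ^ i) ∧ a ≠ 1 ∧ a ^ r = 1 := by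
    have hex : ∃ i, ((z : R') : G) ^ r ^ i = 1 := ⟨j, congrArg Subtype.val hj⟩
    have hi := Nat.find_spec hex
    obtain ⟨i, hi'⟩ : ∃ i, Nat.find hex = i + 1 := ⟨Nat.find hex - 1, by
      have h0 : Nat.find hex ≠ 0 := fun h0 => by
        rw [h0, pow_zero, pow_one] at hi
        exact hz1 hi
      omega⟩
    refine ⟨((z : R') : G) ^ r ^ i, ⟨_, rfl⟩, Nat.find_min hex (by omega), ?_⟩
    rw [← pow_mul, ← pow_succ, ← hi']
    exact hi
  have haR : a ∈ R' := by
    obtain ⟨i, rfl⟩ := haz
    exact pow_mem (z : R').2 i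
  have hacomm : ∀ x ∈ R', x * a = a * x := by
    intro x hx
    obtain ⟨i, rfl⟩ := haz
    exact (Commute.pow_right (congrArg Subtype.val
      (Subgroup.mem_center_iff.mp z.2 ⟨x, hx⟩)) i)
  set L := Submodule.span (ZMod 2) {B.v, u}
  have hLd : Module.finrank (ZMod 2) L = 2 := finrank_span_pair B.hv huv
  have hLfix : ∀ x ∈ R', ∀ l ∈ L, ρ x l = l := by
    intro x hx l hl
    have h1 : ρ x B.v = B.v := (hR'K hx).1
    have h2 : ρ x u = u := (hR'K hx).2
    rcases mem_span_pair'.mp hl with rfl | rfl | rfl | rfl <;> simp [h1, h2]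
  have hfixa : ∀ x, ρ a x = x → x ∈ L := by
    set F := LinearMap.ker (ρ a + 1)
    have hFm : ∀ x, x ∈ F ↔ ρ a x = x := fun x => by
      rw [LinearMap.mem_ker]
      exact add_eq_zero_iff'
    have hle : L ≤ F := fun l hl => (hFm l).mpr (hLfix a haR l hl)
    have hmod := card_fixed_mod (ρ := ρ) hr har ⊤ (fun w _ => Submodule.mem_top)
    rw [finrank_top, inf_top_eq] at hmod
    change 2 ^ n ≡ 2 ^ Module.finrank (ZMod 2) F [MOD r] at hmod
    have hFle : Module.finrank (ZMod 2) F ≤ n := Submodule.finrank_le F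
    have h2F : 2 ≤ Module.finrank (ZMod 2) F := by
      have h' := Submodule.finrank_mono hle
      omega
    have hdvd : m ∣ n - Module.finrank (ZMod 2) F := by
      refine dvd_of_primitive hr hord ?_
      have h := (Nat.modEq_iff_dvd' (Nat.pow_le_pow_right two_pos hFle)).mp hmod.symm
      have hfac : 2 ^ n - 2 ^ Module.finrank (ZMod 2) F =
          2 ^ Module.finrank (ZMod 2) F * (2 ^ (n - Module.finrank (ZMod 2) F) - 1) := by
        rw [Nat.mul_sub_one, ← pow_add, Nat.add_sub_cancel' hFle]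
      rw [hfac] at h
      exact (Nat.Coprime.pow_right _ ((Nat.coprime_primes hr Nat.prime_two).mpr hr2)).dvd_of_dvd_mul_left h
    rcases Nat.eq_zero_or_pos (n - Module.finrank (ZMod 2) F) with h0 | h0
    · refine absurd ?_ ha1
      have hFtop : F = ⊤ := Submodule.eq_top_of_finrank_eq (show Module.finrank (ZMod 2) F = n by omega)
      refine hinj (LinearMap.ext fun x => ?_)
      rw [map_one, Module.End.one_apply]
      exact (hFm x).mp (hFtop ▸ Submodule.mem_top)
    · have hle2 := Nat.le_of_dvd h0 hdvd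
      have heq : L = F := Submodule.eq_of_le_of_finrank_le hle (by rw [hLd]; omega)
      intro x hx
      exact heq ▸ (hFm x).mpr hx
  -- the averaging projection
  have : Fintype R' := Fintype.ofFinite R'
  set π : Module.End (ZMod 2) V := ∑ x : R', ρ (x : G) with hπ
  have hπR : ∀ y ∈ R', ρ y * π = π ∧ π * ρ y = π := by
    intro y hy
    constructor
    · rw [hπ, Finset.mul_sum]
      exact Fintype.sum_equiv (Equiv.mulLeft ⟨y, hy⟩) _ _ fun x => by simp [map_mul]
    · rw [hπ, Finset.sum_mul]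
      exact Fintype.sum_equiv (Equiv.mulRight ⟨y, hy⟩) _ _ fun x => by simp [map_mul]
  have hπfix : ∀ x, π x ∈ L := fun x => hfixa _ (by
    rw [← Module.End.mul_apply, (hπR a haR).1])
  have hodd' : Odd (Fintype.card R') := by
    rw [← Nat.card_eq_fintype_card]
    obtain ⟨i, hi⟩ := hR'p.exists_card_eq
    rw [hi]
    exact (hr.odd_of_ne_two hr2).pow
  have hπL : ∀ l ∈ L, π l = l := by
    intro l hl
    rw [hπ, LinearMap.sum_apply, Finset.sum_congr rfl (g := fun _ : R' => l) (fun x _ => hLfix _ x.2 l hl),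
      Finset.sum_const, Finset.card_univ]
    obtain ⟨i, hi⟩ := hodd'
    rw [hi, succ_nsmul, mul_nsmul', two_nsmul, add_self_zero, zero_add]
  have hπg : ∀ x, π (ρ g x) = ρ g (π x) := by
    intro x
    rw [hπ, LinearMap.sum_apply, LinearMap.sum_apply, map_sum]
    set f : R' → R' := fun y => ⟨g * y * g⁻¹, hgn y y.2⟩
    have hf : Function.Bijective f := Finite.injective_iff_bijective.mp fun y y' h => by
      have := congrArg Subtype.val h
      simpa [f] using this
    exact (Fintype.sum_bijective f hf _ _ fun y => by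
      simp only [f]
      rw [← rho_mul, ← rho_mul, inv_mul_cancel_right]).symm
  set W := LinearMap.ker π
  have hWR : ∀ x ∈ R', ∀ w ∈ W, ρ x w ∈ W := by
    intro x hx w hw
    rw [LinearMap.mem_ker] at hw ⊢
    rw [← Module.End.mul_apply, (hπR x hx).2, hw]
  have hWg : ∀ w ∈ W, ρ g w ∈ W := by
    intro w hw
    rw [LinearMap.mem_ker] at hw ⊢
    rw [hπg, hw, map_zero]
  have hWd : Module.finrank (ZMod 2) W = m := by
    have h := π.finrank_range_add_finrank_ker
    have hrange : LinearMap.range π = L := le_antisymm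
      (by rintro _ ⟨x, rfl⟩; exact hπfix x) (fun l hl => ⟨l, hπL l hl⟩)
    rw [hrange, hLd] at h
    change 2 + Module.finrank (ZMod 2) W = n at h
    omega
  have hfree : ∀ w ∈ W, ρ a w = w → w = 0 := fun w hw h => by
    have := hπL w (hfixa w h)
    rw [LinearMap.mem_ker.mp hw] at this
    exact this.symm
  set RW : Subgroup G := R' ⊔ Subgroup.zpowers g
  have hWall : ∀ k ∈ RW, ∀ w ∈ W, ρ k w ∈ W := by
    have hle : RW ≤ { carrier := {k | ∀ w, ρ k w ∈ W ↔ w ∈ W}
                      one_mem' := by simp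
                      mul_mem' := by intro x y hx hy w; rw [rho_mul, hx, hy]
                      inv_mem' := by intro x hx w; rw [← hx, rho_cancel_inv] } := by
      refine sup_le ?_ (Subgroup.zpowers_le.mpr ?_)
      · intro x hx w
        refine ⟨fun h => ?_, hWR x hx w⟩
        have := hWR _ (R'.inv_mem hx) _ h
        rwa [rho_inv_cancel] at this
      · intro w
        refine ⟨fun h => ?_, hWg w⟩
        rw [LinearMap.mem_ker, hπg] at h
        exact LinearMap.mem_ker.mpr (rho_injective ρ g (h.trans (map_zero _).symm))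
    exact fun k hk w hw => (hle hk w).mpr hw
  set τ := subRep ρ RW W hWall
  set A : Module.End (ZMod 2) W := τ ⟨a, Subgroup.mem_sup_left haR⟩
  set U : (Module.End (ZMod 2) W)ˣ :=
    (Units.map (τ : RW →* Module.End (ZMod 2) W))
      (toUnits ⟨g, Subgroup.mem_sup_right (Subgroup.mem_zpowers g)⟩)
  have hA : IrredEnd A := by
    constructor
    · obtain ⟨w, hw, hw0⟩ := (Submodule.ne_bot_iff W).mp fun h => by
        rw [h, finrank_bot] at hWd
        omega
      exact ⟨⟨w, hw⟩, fun h => hw0 (congrArg Subtype.val h)⟩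
    · intro W' hW'
      by_contra hne
      push Not at hne
      set W'' := W'.map W.subtype
      have hinv : ∀ w ∈ W'', ρ a w ∈ W'' := by
        rintro _ ⟨w, hw, rfl⟩
        exact ⟨A w, hW' w hw, rfl⟩
      have h1 := card_fixed_mod (ρ := ρ) hr har W'' hinv
      have hbot : LinearMap.ker (ρ a + 1) ⊓ W'' = ⊥ := by
        rw [eq_bot_iff]
        rintro x ⟨hx1, ⟨w, -, rfl⟩⟩
        exact hfree _ w.2 (add_eq_zero_iff'.mp (LinearMap.mem_ker.mp hx1))
      rw [hbot, finrank_bot, pow_zero, Submodule.finrank_map_subtype_eq] at h1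
      have h2 := dvd_of_primitive hr hord ((Nat.modEq_iff_dvd' Nat.one_le_two_pow).mp h1.symm)
      have h3 : Module.finrank (ZMod 2) W' < m := hWd ▸ Submodule.finrank_lt hne.2
      exact hne.1 (Submodule.finrank_eq_zero.mp (Nat.eq_zero_of_dvd_of_lt h2 h3))
  have hUA : (U : Module.End (ZMod 2) W) * A *
      ((U⁻¹ : (Module.End (ZMod 2) W)ˣ) : Module.End (ZMod 2) W) =
      τ (⟨g * a * g⁻¹, Subgroup.mem_sup_left (hgn a haR)⟩) := by
    simp only [A, U, Units.coe_map, ← map_inv, val_toUnits_apply, MonoidHom.coe_coe]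
    rw [← map_mul, ← map_mul]
    rfl
  have hmem : (U : Module.End (ZMod 2) W) * A *
      ((U⁻¹ : (Module.End (ZMod 2) W)ˣ) : Module.End (ZMod 2) W) ∈
      Subalgebra.centralizer (ZMod 2) {A} := by
    rw [hUA]
    refine Subalgebra.mem_centralizer_iff (ZMod 2) |>.mpr ?_
    rintro _ rfl
    rw [← map_mul, ← map_mul]
    exact congrArg τ (Subtype.ext (hacomm _ (hgn a haR)).symm)
  have hUt : U ^ 2 ^ t = 1 := by
    rw [← map_pow, ← map_pow]
    have : (⟨g, Subgroup.mem_sup_right (Subgroup.mem_zpowers g)⟩ : RW) ^ 2 ^ t = 1 :=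
      Subtype.ext hgt
    rw [this, map_one, map_one]
  -- conjugation is an automorphism of the commutant
  let C := Subalgebra.centralizer (ZMod 2) ({A} : Set (Module.End (ZMod 2) W))
  let cj : C →ₐ[ZMod 2] C :=
    { toFun := fun f => ⟨_, hA.conj_mem U hmem f.2⟩
      map_one' := Subtype.ext (by simp)
      map_mul' := fun x y => Subtype.ext (by simp [mul_assoc])
      map_zero' := Subtype.ext (by simp)
      map_add' := fun x y => Subtype.ext (by simp [mul_add, add_mul])
      commutes' := fun c => Subtype.ext (by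
        show (U : Module.End (ZMod 2) W) * algebraMap (ZMod 2) _ c * _ = algebraMap (ZMod 2) _ c
        rw [← Algebra.commutes, mul_assoc, Units.mul_inv, mul_one]) }
  have hcjinj : Function.Injective cj := fun x y h => by
    have h' := congrArg Subtype.val h
    exact Subtype.ext (by simpa [cj] using h')
  have : Finite (Module.End (ZMod 2) W) :=
    Finite.of_injective (fun f => (f : W → W)) DFunLike.coe_injective
  let ψ : C ≃ₐ[ZMod 2] C := AlgEquiv.ofBijective cj (Finite.injective_iff_bijective.mp hcjinj)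
  have hψpow : ∀ i (f : C), ((ψ ^ i) f : Module.End (ZMod 2) W) =
      ((U ^ i : (Module.End (ZMod 2) W)ˣ) : Module.End (ZMod 2) W) * f *
        (((U ^ i)⁻¹ : (Module.End (ZMod 2) W)ˣ) : Module.End (ZMod 2) W) := by
    intro i
    induction i with
    | zero => intro f; simp
    | succ i ih =>
      intro f
      rw [pow_succ', pow_succ', AlgEquiv.mul_apply]
      show (U : Module.End (ZMod 2) W) * ((ψ ^ i) f : Module.End (ZMod 2) W) * _ = _
      rw [ih, mul_inv_rev, Units.val_mul, Units.val_mul]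
      simp only [mul_assoc]
  have hψ1 : ψ = 1 := by
    rw [← orderOf_eq_one_iff]
    have h1 : orderOf ψ ∣ 2 ^ t := orderOf_dvd_of_pow_eq_one (AlgEquiv.ext fun f =>
      Subtype.ext (by rw [hψpow, hUt]; simp))
    have : Finite (C ≃ₐ[ZMod 2] C) := Finite.of_injective (fun e => (e : C → C)) DFunLike.coe_injective
    have h2 : orderOf ψ ∣ m := by
      rw [← hWd, ← hA.card_aut]
      exact orderOf_dvd_natCard ψ
    exact Nat.eq_one_of_dvd_coprimes
      (Nat.Coprime.pow_left t (Nat.coprime_two_left.mpr hm_odd)) h1 h2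
  have hUC : (U : Module.End (ZMod 2) W) ∈ C := by
    refine Subalgebra.mem_centralizer_iff (ZMod 2) |>.mpr ?_
    rintro _ rfl
    have h := congrArg (fun e : C ≃ₐ[ZMod 2] C => (e ⟨A, hA.self_mem⟩ : Module.End (ZMod 2) W)) hψ1
    change (U : Module.End (ZMod 2) W) * A * _ = A at h
    conv_lhs => rw [← h, mul_assoc, mul_assoc, Units.inv_mul, mul_one]
  have hU1 : (U : Module.End (ZMod 2) W) = 1 := by
    set f := (U : Module.End (ZMod 2) W) + 1
    have hf : f ∈ C := add_mem hUC (one_mem C)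
    have hnil : f ^ 2 ^ t = 0 := by
      rw [orderOf_unit_pow, ← Units.val_pow_eq_pow_val, hUt, Units.val_one]
      exact LinearMap.ext fun x => add_self_zero _
    by_contra hne
    obtain ⟨w, hw⟩ : ∃ w, f w ≠ 0 := by
      by_contra hno
      push Not at hno
      exact hne (LinearMap.ext fun w => add_eq_zero_iff'.mp (hno w))
    have hw0 : w ≠ 0 := fun h => hw (by rw [h, map_zero])
    have hinj' : ∀ x, f x = 0 → x = 0 := fun x hx => by
      by_contra hx0
      have h0 := hA.eq_zero_of_apply hf hx0 hx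
      exact hw (by rw [h0]; rfl)
    have : ∀ i, (f ^ i) w ≠ 0 := fun i => by
      induction i with
      | zero => simpa using hw0
      | succ i ih => rw [pow_succ', Module.End.mul_apply]; exact fun h => ih (hinj' _ h)
    exact this _ (by rw [hnil]; rfl)
  refine ⟨g, B.v + u, fun x => ?_, fun h => hvu ?_⟩
  · have hw : x + π x ∈ W := by
      rw [LinearMap.mem_ker, map_add, hπL _ (hπfix x), add_self_zero]
    have hgw : ρ g (x + π x) = x + π x :=
      congrArg Subtype.val (LinearMap.congr_fun hU1 (⟨_, hw⟩ : W))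
    have hx : x = (x + π x) + π x := by rw [add_assoc, add_self_zero, add_zero]
    have hgx : ρ g x = (x + π x) + ρ g (π x) := by
      conv_lhs => rw [hx, map_add, hgw]
    rcases mem_span_pair'.mp (hπfix x) with h | h | h | h
    · left; rw [hgx, h, map_zero, add_zero, add_zero]
    · right; rw [hgx, h, hgv]; abel
    · right; rw [hgx, h, hgu]
      rw [show x + (B.v + u) = x + u + B.v by abel]
    · left; rw [hgx, h, map_add, hgv, hgu, add_comm u B.v, add_assoc, add_self_zero, add_zero]
  · have := LinearMap.congr_fun h B.v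
    rw [hgv, Module.End.one_apply] at this
    rw [← this]
    exact Submodule.mem_span_singleton_self u

end Base

end Cfsg.Agent.Lib.SingerTrans
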