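import Cfsg.Agent.Lib.SingerTrans.Basic

/-!
Two-transitive linear groups over `GF(2)`: point and line stabilisers are transitive on the
classes of covectors, and every line admits all translations.
-/

namespace Cfsg.Agent.Lib.SingerTrans

variable {G : Type*} [Group G] [Finite G] {Q P : Type*} [AddCommGroup Q] [Module (ZMod 2) Q]
  [AddCommGroup P] [Module (ZMod 2) P] [Finite Q] [Finite P]

/-- Transitivity on ordered pairs of distinct nonzero vectors. -/
structure IsTwoTrans (ρ : Representation (ZMod 2) G Q) : Prop where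
  trans : ∀ x y : Q, x ≠ 0 → y ≠ 0 → y ∈ orb ρ ⊤ x
  trans₂ : ∀ x y y' : Q, x ≠ 0 → y ∉ Submodule.span (ZMod 2) {x} →
    y' ∉ Submodule.span (ZMod 2) {x} → y' ∈ orb ρ (fixer ρ x) y

variable {ρ : Representation (ZMod 2) G Q} {σ : Representation (ZMod 2) G P}

omit [Finite G] [Finite P] [Finite Q] in
theorem beta_res {D : Pair σ ρ} {x : Q} {φ φ' : P} (h : D.β φ x = D.β φ' x) :
    ∀ l ∈ Submodule.span (ZMod 2) {x}, D.β φ l = D.β φ' l := by
  intro l hl
  rcases mem_span_single.mp hl with rfl | rfl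
  · simp
  · exact h

/-- The point stabiliser is transitive on nonzero covectors with given value at the point. -/
theorem IsTwoTrans.covectors (h : IsTwoTrans ρ) (D : Pair σ ρ) {x : Q} (hx : x ≠ 0) {φ φ' : P}
    (hφ : φ ≠ 0) (hφ' : φ' ≠ 0) (hv : D.β φ x = D.β φ' x) : φ' ∈ orb σ (fixer ρ x) φ :=
  D.class_transitive (fixer ρ x) _ (fun y y' hy hy' => h.trans₂ x y y' hx hy hy') hφ hφ'
    (beta_res hv)

omit [Finite G] in
theorem ne_of_beta {D : Pair σ ρ} {x : Q} {φ : P} (h : D.β φ x = 1) : φ ≠ 0 := by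
  rintro rfl
  simp at h

theorem finrank_span_pair {u v : Q} (hv : v ≠ 0) (hu : u ∉ Submodule.span (ZMod 2) {v}) :
    Module.finrank (ZMod 2) (Submodule.span (ZMod 2) {v, u}) = 2 := by
  have : Module.Finite (ZMod 2) Q := Module.Finite.of_finite
  have hu0 : u ≠ 0 := fun h => hu (h ▸ zero_mem _)
  have hsplit : Submodule.span (ZMod 2) {v, u} =
      Submodule.span (ZMod 2) {v} ⊔ Submodule.span (ZMod 2) {u} := by
    rw [← Submodule.span_union]
    rfl
  have hinf : Submodule.span (ZMod 2) {v} ⊓ Submodule.span (ZMod 2) {u} = ⊥ := by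
    rw [eq_bot_iff]
    rintro z ⟨hz1, hz2⟩
    rcases mem_span_single.mp hz2 with rfl | rfl
    · exact zero_mem _
    · exact absurd hz1 hu
  have := Submodule.finrank_sup_add_finrank_inf_eq (Submodule.span (ZMod 2) {v})
    (Submodule.span (ZMod 2) {u})
  rw [← hsplit, hinf, finrank_bot, finrank_span_singleton hv, finrank_span_singleton hu0] at this
  omega

theorem card_eq_two_pow (X : Type*) [AddCommGroup X] [Module (ZMod 2) X] [Finite X] :
    Nat.card X = 2 ^ Module.finrank (ZMod 2) X := by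
  have : Module.Finite (ZMod 2) X := Module.Finite.of_finite
  rw [Module.natCard_eq_pow_finrank (K := ZMod 2), Nat.card_zmod]

theorem two_le_finrank {v u : Q} (hv : v ≠ 0) (hu : u ∉ Submodule.span (ZMod 2) {v}) :
    2 ≤ Module.finrank (ZMod 2) Q := by
  have : Module.Finite (ZMod 2) Q := Module.Finite.of_finite
  have h := Submodule.finrank_le (Submodule.span (ZMod 2) {v, u})
  rwa [finrank_span_pair hv hu] at h

theorem orb_fixer_ncard (h : IsTwoTrans ρ) {v u : Q} (hv : v ≠ 0)
    (hu : u ∉ Submodule.span (ZMod 2) {v}) :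
    (orb ρ (fixer ρ v) u).ncard + 2 = 2 ^ Module.finrank (ZMod 2) Q := by
  have hset : orb ρ (fixer ρ v) u = (Submodule.span (ZMod 2) {v} : Set Q)ᶜ := by
    ext y
    constructor
    · rintro ⟨g, hg, rfl⟩ hy
      rcases mem_span_single.mp hy with h0 | h0
      · exact hu (by rw [rho_injective ρ g (h0.trans (map_zero (ρ g)).symm)]; exact zero_mem _)
      · refine hu ?_
        rw [rho_injective ρ g (h0.trans (mem_fixer ρ |>.mp hg).symm)]
        exact Submodule.mem_span_singleton_self v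
    · intro hy
      exact h.trans₂ v u y hv hu hy
  have : Module.Finite (ZMod 2) Q := Module.Finite.of_finite
  rw [hset, Set.ncard_compl]
  have h2 : (Submodule.span (ZMod 2) {v} : Set Q).ncard = 2 := by
    rw [← Nat.card_coe_set_eq]
    show Nat.card (Submodule.span (ZMod 2) {v}) = 2
    rw [card_eq_two_pow, finrank_span_singleton hv]
    rfl
  rw [h2, card_eq_two_pow]
  have := two_le_finrank hv hu
  have : 2 ^ 2 ≤ 2 ^ Module.finrank (ZMod 2) Q := Nat.pow_le_pow_right two_pos this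
  omega

/-- A two-point stabiliser is transitive on the class of covectors one at the first point. -/
theorem IsTwoTrans.line_class (h : IsTwoTrans ρ) (D : Pair σ ρ) {v u : Q} (hv : v ≠ 0)
    (hu : u ∉ Submodule.span (ZMod 2) {v}) {φ φ' : P} (h1 : D.β φ v = 1)
    (hv' : D.β φ' v = 1) (hu' : D.β φ u = D.β φ' u) :
    φ' ∈ orb σ (fixer ρ v ⊓ fixer ρ u) φ := by
  have := Fact.mk Nat.prime_two
  set d := Module.finrank (ZMod 2) Q with hd
  have hd2 : 2 ≤ d := two_le_finrank hv hu
  set T : Sylow 2 ↥(fixer ρ v ⊓ fixer ρ u : Subgroup G) := default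
  set T' : Subgroup G := (T : Subgroup ↥(fixer ρ v ⊓ fixer ρ u)).map (Subgroup.subtype _) with hT'
  have hT'le : T' ≤ fixer ρ v ⊓ fixer ρ u := Subgroup.map_subtype_le _
  have hT'p : IsPGroup 2 T' := T.2.map _
  have hT'card : Nat.card T' = Nat.card (T : Subgroup ↥(fixer ρ v ⊓ fixer ρ u)) :=
    Subgroup.card_map_of_injective (Subgroup.subtype_injective _)
  have horb := orb_ncard_mul ρ (fixer ρ v) u
  have hm := orb_fixer_ncard h hv hu
  rw [← hd] at hm
  have h4 : 4 ∣ 2 ^ d := ⟨2 ^ (d - 2), by rw [show 4 = 2 ^ 2 from rfl, ← pow_add]; congr 1; omega⟩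
  obtain ⟨c, hc, hcodd⟩ : ∃ c, (orb ρ (fixer ρ v) u).ncard = 2 * c ∧ ¬ 2 ∣ c :=
    ⟨(orb ρ (fixer ρ v) u).ncard / 2, by omega, by omega⟩
  have hN : ∀ m, 2 ^ m ∣ Nat.card ↥(fixer ρ v) → 2 ^ m ≤ Nat.card T' * 2 := by
    intro m hm'
    cases m with
    | zero =>
      have : 0 < Nat.card T' := Nat.card_pos
      omega
    | succ m =>
      rw [← horb, hc, mul_assoc, pow_succ, mul_comm (2 ^ m) 2] at hm'
      have h5 : 2 ^ m ∣ Nat.card ↥(fixer ρ v ⊓ fixer ρ u) :=
        ((Nat.Coprime.pow_left m ((Nat.prime_two.coprime_iff_not_dvd).mpr hcodd)).dvd_of_dvd_mul_left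
          (Nat.dvd_of_mul_dvd_mul_left two_pos hm'))
      rw [pow_succ]
      refine Nat.mul_le_mul_right 2 ?_
      rw [hT'card]
      exact Nat.le_of_dvd Nat.card_pos (T.pow_dvd_card_of_pow_dvd_card h5)
  -- the class of `φ` for the point stabiliser
  have hcls : orb σ (fixer ρ v) φ =
      {ψ : P | ∀ w ∈ Submodule.span (ZMod 2) {v}, D.β ψ w = D.β φ w} := by
    ext ψ
    constructor
    · rintro ⟨g, hg, rfl⟩
      exact beta_res (by rw [← D.inv g φ v, mem_fixer ρ |>.mp hg])
    · intro hψ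
      have hψ' := hψ v (Submodule.mem_span_singleton_self v)
      exact h.covectors D hv (ne_of_beta h1) (ne_of_beta (hψ'.trans h1)) hψ'.symm
  have hc1 : (orb σ (fixer ρ v) φ).ncard = 2 ^ (d - 1) := by
    rw [hcls, D.ncard_class, finrank_span_singleton hv]
  have hlow := orbit_lower σ (K := fixer ρ v) (T := T') (hT'le.trans inf_le_left) hT'p
    (N := Nat.card T' * 2) (a := 1) hN (le_of_eq (pow_one 2 ▸ rfl)) (x := φ) (s := d - 1)
    (by rw [hc1])
  set X : Set P := {ψ : P | ∀ w ∈ Submodule.span (ZMod 2) {v, u}, D.β ψ w = D.β φ w}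
  have hsub : orb σ T' φ ⊆ X := by
    rintro ψ ⟨g, hg, rfl⟩ w hw
    rcases mem_span_pair'.mp hw with rfl | rfl | rfl | rfl
    · simp
    · conv_rhs => rw [← D.inv g φ w, mem_fixer ρ |>.mp (hT'le hg).1]
    · conv_rhs => rw [← D.inv g φ w, mem_fixer ρ |>.mp (hT'le hg).2]
    · conv_rhs => rw [← D.inv g φ (v + u), map_add (ρ g), mem_fixer ρ |>.mp (hT'le hg).1,
        mem_fixer ρ |>.mp (hT'le hg).2]
  have hXc : X.ncard = 2 ^ (d - 2) := by rw [D.ncard_class, finrank_span_pair hv hu]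
  have heq : orb σ T' φ = X := by
    refine Set.eq_of_subset_of_ncard_le hsub ?_ (Set.toFinite _)
    rw [hXc]
    have : 2 ^ (d - 1) = 2 * 2 ^ (d - 2) := by rw [← pow_succ']; congr 1; omega
    omega
  have : φ' ∈ X := by
    intro w hw
    rcases mem_span_pair'.mp hw with rfl | rfl | rfl | rfl
    · simp
    · exact hv'.trans h1.symm
    · exact hu'.symm
    · rw [map_add, map_add, hv', h1, hu']
  rw [← heq] at this
  exact orb_mono σ hT'le φ this

/-- Every line admits translations of every coset. -/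
theorem IsTwoTrans.translate (h : IsTwoTrans ρ) (D : Pair σ ρ) {v u x : Q} (hv : v ≠ 0)
    (hu : u ∉ Submodule.span (ZMod 2) {v}) (hx : x ∉ Submodule.span (ZMod 2) {v, u}) :
    ∃ g : G, ρ g v = v ∧ ρ g u = u ∧ ρ g x = x + v := by
  obtain ⟨g, hg, hgx⟩ := D.coset_transitive (fixer ρ v ⊓ fixer ρ u)
    (Submodule.span (ZMod 2) {v, u}) (a := v)
    (fun φ φ' h1 hres => h.line_class D hv hu h1
      ((hres v (Submodule.subset_span (by simp))).symm.trans h1)
      (hres u (Submodule.subset_span (by simp))))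
    (Submodule.subset_span (by simp)) hx
  exact ⟨g, hg.1, hg.2, hgx⟩

end Cfsg.Agent.Lib.SingerTrans
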